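import Mathlib
import Cfsg.Agent.Lib.M24R.Msk
import Cfsg.Agent.Lib.LargeExtra.Setting
import Cfsg.Agent.Lib.W2.Tools
import Cfsg.Agent.Lib.WD.Km1

/-!
# Groups with a 2-local subgroup `2^11 . M24`: definitions (plans/M24R.md)
-/

set_option autoImplicit false
set_option Elab.async false

namespace CfsgLib.M24R

open Subgroup Cfsg CfsgLib.Tech CfsgLib.J4T CfsgLib.J4T.Rec CfsgLib.Golay CfsgLib.M24E CfsgLib.WD.Km
open scoped Pointwise

/-! ### constants -/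

/-- additive sets of vectors -/
structure Sp (P : ℕ → Prop) : Prop where
  zero : P 0
  xor : ∀ v < 2048, ∀ w < 2048, P v → P w → P (v ^^^ w)

/-- the number of vectors in a set -/
noncomputable def nc (P : ℕ → Prop) : ℕ := {v | v < 2048 ∧ P v}.ncard

theorem SM.nc {m : ℕ} {P : ℕ → Prop} (a : SM m P) : nc P = cnM m := a.ncard

theorem nc_mono {P Q : ℕ → Prop} (h : ∀ v < 2048, P v → Q v) : nc P ≤ nc Q :=
  Set.ncard_le_ncard (fun v hv => ⟨hv.1, h v hv.1 hv.2⟩) ((Set.finite_lt_nat 2048).subset fun _ hv => hv.1)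

theorem nc_congr {P Q : ℕ → Prop} (h : ∀ v < 2048, (P v ↔ Q v)) : nc P = nc Q :=
  le_antisymm (nc_mono fun v hv => (h v hv).1) (nc_mono fun v hv => (h v hv).2)

theorem nc_true : nc (fun _ => True) = 2048 := sm_on.nc.trans (by decide +kernel)

theorem sp_ker (A : ℕ) : Sp fun v => mv A v = 0 :=
  ⟨mv_zero A, fun v _ w _ h1 h2 => by rw [mv_xor, h1, h2]; rfl⟩

/-- `v` is fixed by `Y` -/
def Fx (k : Bool) (Y : Subgroup M24) (v : ℕ) : Prop := ∀ y ∈ Y, ac k y v = v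

theorem sp_fx (k : Bool) (Y : Subgroup M24) : Sp (Fx k Y) :=
  ⟨fun y _ => ac_zero k y, fun v hv w hw h1 h2 y hy => by rw [ac_xor k y hv hw, h1 y hy, h2 y hy]⟩

/-- the stabiliser of the vector `v` -/
def Sv (k : Bool) (v : ℕ) (hv : v < 2048) : Subgroup M24 where
  carrier := {g | ac k g v = v}
  one_mem' := ac_one k hv
  mul_mem' {a b} ha hb := by
    show ac k (a * b) v = v
    rw [ac_mul k a b hv, show ac k b v = v from hb, show ac k a v = v from ha]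
  inv_mem' ha := ac_inv_eq hv ha

/-- the stabiliser of `zv` -/
def St (k : Bool) : Subgroup M24 := Sv k (zv k) (zv_lt k)

theorem mem_St {k : Bool} {g : M24} : g ∈ St k ↔ ac k g (zv k) = zv k := Iff.rfl

/-- check matrix of `W` -/
def wK (k : Bool) : ℕ := cond k 0x20000000000010008004000002000001 0x8004008002002001001008004004001

/-- `W = V ⊓ O₂(C(z))` -/
def inW (k : Bool) (v : ℕ) : Prop := mv (wK k) v = 0

/-- table of `Xk` -/
def xE (k : Bool) : ℕ → ℕ := cond k uE eE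

/-- order of `Xk` -/
def nX (k : Bool) : ℕ := cond k 16 64

/-- `O₂` of the stabiliser of `zv` -/
def Xk (k : Bool) : Subgroup M24 := tab (xE k) (nX k)

/-- an element of order 3, packed -/
def pq (k : Bool) : ℕ := cond k 0xba1f00ccee652d55a92d1980588a44 0x58db40c911b38ec32a70adc4478125

/-- an element of order 3 -/
noncomputable def pp (k : Bool) : M24 := mq (pq k)

/-- the tetrads of the sextet `zv false` -/
def tet (i : Fin 6) : ℕ := [53, 786946, 5275656, 8391744, 2121856, 200960].getD i 0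

/-- a duad joining the tetrads `i` and `j` -/
def dvec (i j : Fin 6) : ℕ :=
  ([[0, 234, 662, 697, 1432, 1967], [234, 0, 636, 595, 1394, 1861], [662, 636, 0, 47, 1806, 1337],
    [697, 595, 47, 0, 1825, 1302], [1432, 1394, 1806, 1825, 0, 567], [1967, 1861, 1337, 1302, 567, 0]].getD i []).getD j 0

open Classical in
/-- the permutation of the tetrads induced by `g` -/
noncomputable def sg (g : M24) : Equiv.Perm (Fin 6) :=
  if h : ∃ s : Equiv.Perm (Fin 6), ∀ i, (g : P24) • ofMask (tet i) = ofMask (tet (s i)) then h.choose else 1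

/-- the other elementary abelian subgroups of order 32 of `S`, as sets of numbers of elements -/
def oM (i : ℕ) : ℕ := [0x4a0100004a01e10000b15005d10000d1000000000000c00c, 0x94080000940800e4b100a00a00e4e400000000000000c00c,
  0x2062999920620000000000000000000000088a88a909f000, 0x19466660194000000000000000000000002645112a2f000].getD i 0

/-- `[Q, v₀] ⟨z⟩` for `v₀ = dvec 0 1 = 234` -/
def inU (v : ℕ) : Prop := mv 0x2001000800400400200102303b01302a v = 0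

theorem Xk_false : Xk false = E := rfl
theorem Xk_true : Xk true = R := rfl

theorem tX (k : Bool) : Tb (xE k) (nX k) := by cases k; exacts [tE, tR]

theorem card_Xk (k : Bool) : Nat.card (Xk k) = nX k := (tX k).toGp.card

theorem Xk_le (k : Bool) : Xk k ≤ S := by cases k; exacts [E_le, R_le]

theorem Xk_sq (k : Bool) : ∀ x ∈ Xk k, x * x = 1 := (tX k).sq

theorem S_norm_Xk (k : Bool) : S ≤ normalizer (Xk k : Set M24) := by cases k; exacts [ke.norm, km1.SN]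

theorem mem_Xk {k : Bool} {g : M24} : g ∈ Xk k ↔ ∃ x < nX k, g = mq (xE k x) := (tX k).mem g

/-- the matrix of the element `x` of `Xk` -/
noncomputable def xM (k : Bool) (x : ℕ) : ℕ := frc (xE k x) fun q => mat k (ap q)

theorem am_x (k : Bool) {x : ℕ} (hx : x < nX k) : AM k (xM k x) (mq (xE k x)) := by
  rw [xM, frc_eq]; exact am_mat k ((tX k).rm hx)

theorem S_le_St (k : Bool) : S ≤ St k := by
  refine S_le (fun x hx => ?_) fun y hy => ?_
  · rw [mem_St, ac_act (tE.rm (by revert x; decide)) (zv_lt k)]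
    revert x k; decide +kernel
  · rw [mem_St, ac_act (gK.rm hy) (zv_lt k)]
    revert y k; decide +kernel

theorem sp_W (k : Bool) : Sp (inW k) := sp_ker _

theorem sm_W (k : Bool) : SM (kerM (wK k)) (inW k) := sm_ker _

theorem inW_zv (k : Bool) : inW k (zv k) := by unfold inW; revert k; decide +kernel

theorem nc_W (k : Bool) : nc (inW k) = cond k 32 128 := (sm_W k).nc.trans (by revert k; decide +kernel)

theorem sm_all {n : ℕ} {f : ℕ → ℕ} {P : ℕ → ℕ → Prop} (h : ∀ x < n, SM (f x) (P x)) :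
    SM (Nat.rec on (fun x ih => Nat.land (f x) ih) n) fun v => ∀ x < n, P x v := by
  induction n with
  | zero => exact sm_on.congr fun _ _ => by simp
  | succ n ih =>
    refine ((h n (by omega)).and (ih fun x hx => h x (by omega))).congr fun v _ => ⟨fun ⟨h1, h2⟩ x hx => ?_, fun h1 =>
      ⟨h1 n (by omega), fun x hx => h1 x (by omega)⟩⟩
    rcases Nat.lt_succ_iff_lt_or_eq.1 hx with h3 | rfl
    exacts [h2 x h3, h1]

theorem inW_iff {k : Bool} {v : ℕ} (hv : v < 2048) : inW k v ↔ ∀ x ∈ Xk k, cm k x v = 0 ∨ cm k x v = zv k := by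
  have h := sm_all (n := nX k) fun x hx => ((am_x k hx).cms (c := 0) (by norm_num)).or ((am_x k hx).cms (zv_lt k))
  rw [((sm_W k).eq_iff h).1 (by clear h hv; revert k; decide +kernel) v hv]
  exact ⟨fun h1 x hx => by obtain ⟨y, hy, rfl⟩ := mem_Xk.1 hx; exact h1 y hy, fun h1 y hy => h1 _ (mq_mem_tab hy)⟩

theorem cm_inW {k : Bool} {x : M24} (hx : x ∈ Xk k) {v : ℕ} (hv : v < 2048) : inW k (cm k x v) := by
  obtain ⟨y, hy, rfl⟩ := mem_Xk.1 hx
  refine (((am_x k hy).pre (wK k)).eq_iff sm_on).1 ?_ v hv |>.2 trivial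
  exact beq_iff'.1 (of_allLT (f := fun y => Nat.beq (preM (wK k) (xM k y)) on) (by clear hx hy; revert k; decide +kernel) hy)

theorem fx_Xk {k : Bool} {v : ℕ} (hv : v < 2048) (h : Fx k (Xk k) v) : v = 0 ∨ v = zv k := by
  have h1 := sm_all (n := nX k) fun x hx => (am_x k hx).fx
  exact (h1.eq_iff ((sm_pt (c := 0) (by norm_num)).or (sm_pt (zv_lt k)))).1 (by clear h1 h hv; revert k; decide +kernel) v hv
    |>.1 fun y hy => h _ (mq_mem_tab hy)

/-- only the identity of `S` centralises `W` -/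
theorem eq_one_of_fx_W {k : Bool} {g : M24} (hg : g ∈ S) (h : ∀ v < 2048, inW k v → ac k g v = v) : g = 1 := by
  by_contra h1
  obtain ⟨n, hn⟩ := (isPGroup_iff_mem.1 syl_S.pgroup) g hg
  obtain ⟨m, h2, h3⟩ : ∃ m : ℕ, g ^ 2 ^ m ≠ 1 ∧ g ^ 2 ^ (m + 1) = 1 := by
    induction n with
    | zero => exact absurd (by simpa using hn) h1
    | succ n ih => by_cases e : g ^ 2 ^ n = 1; exacts [ih e, ⟨n, e, hn⟩]
  obtain ⟨j, hj, e⟩ := exists_ie (pow_mem hg (2 ^ m)) (by rw [← pow_two, ← pow_mul, ← pow_succ, h3])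
  have h4 : leM (kerM (wK k)) (fxM (iM k j)) = true := ((sm_W k).le_iff (am_ie k hj).fx).2 fun v hv hw => by
    rw [← e]; exact pow_mem (show g ∈ Sv k v hv from h v hv hw) _
  have h5 := of_allLT (n := 192) (f := fun j => or (Nat.beq j 15) (not (leM (kerM (wK k)) (fxM (iM k j)))))
    (by clear h4 h; revert k; decide +kernel) hj
  rw [h4, Bool.not_true, Bool.or_false, beq_iff'] at h5
  exact h2 (by rw [e, h5, ie_one])

theorem isM_pq (k : Bool) : isM (pq k) = true := by revert k; decide +kernel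

theorem rm_pp (k : Bool) : RM (ap (pq k)) (pp k) := rm (isM_pq k)

theorem am_pp (k : Bool) : AM k (mat k (ap (pq k))) (pp k) := am_mat k (rm_pp k)

theorem pp_three (k : Bool) : pp k ^ 3 = 1 := ((rm_pp k).powId_iff 3).1 (by revert k; decide +kernel)

theorem pp_St (k : Bool) : pp k ∈ St k := by rw [mem_St, ac_act (rm_pp k) (zv_lt k)]; revert k; decide +kernel

theorem pp_norm (k : Bool) : pp k ∈ normalizer (Xk k : Set M24) := (tX k).toGp.norm (by revert k; decide +kernel)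

theorem pp_fpf {k : Bool} {x : M24} (hx : x ∈ Xk k) (h : pp k * x = x * pp k) : x = 1 := by
  obtain ⟨y, hy, rfl⟩ := mem_Xk.1 hx
  have h1 := of_allLT (n := nX k) (f := fun y => or (Nat.beq y 0) (frc (xE k y) fun q => not (intw (ap (pq k)) (ap q) (ap q))))
    (by clear hx hy h; revert k; decide +kernel) hy
  rw [frc_eq, ((rm_pp k).intw_iff ((tX k).rm hy) ((tX k).rm hy)).2 h, Bool.not_true, Bool.or_false, beq_iff'] at h1
  rw [h1, (tX k).zero]

theorem pp_fpf_W {k : Bool} {v : ℕ} (hv : v < 2048) (hw : inW k v) (h : cm k (pp k) v = 0 ∨ cm k (pp k) v = zv k) :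
    v = 0 ∨ v = zv k :=
  (((sm_W k).and (((am_pp k).cms (c := 0) (by norm_num)).or ((am_pp k).cms (zv_lt k)))).eq_iff
    ((sm_pt (c := 0) (by norm_num)).or (sm_pt (zv_lt k)))).1 (by clear hw h hv; revert k; decide +kernel) v hv |>.1 ⟨hw, h⟩

theorem pp_triv {v : ℕ} (hv : v < 2048) : inW false (cm false (pp false) v) :=
  (((am_pp false).pre (wK false)).eq_iff sm_on).1 (by decide +kernel) v hv |>.2 trivial

theorem dvec_lt (i j : Fin 6) : dvec i j < 2048 := by revert i j; decide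

/-! ### coordinates on `N(V)` -/

/-- coordinates on the normaliser of `V = 2^11` -/
structure MV (G : Type*) [Group G] (k : Bool) where
  /-- the elementary abelian group -/
  V : Subgroup G
  /-- the map `N(V) → M24` -/
  π : G → M24
  /-- the elements of `V` -/
  θ : ℕ → G
  π_mul : ∀ x ∈ normalizer (V : Set G), ∀ y ∈ normalizer (V : Set G), π (x * y) = π x * π y
  π_eq_one : ∀ x ∈ normalizer (V : Set G), (π x = 1 ↔ x ∈ V)
  π_surj : ∀ g : M24, ∃ x ∈ normalizer (V : Set G), π x = g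
  θ_xor : ∀ v < 2048, ∀ w < 2048, θ (v ^^^ w) = θ v * θ w
  θ_inj : ∀ v < 2048, θ v = 1 → v = 0
  mem_V : ∀ x, x ∈ V ↔ ∃ v < 2048, x = θ v
  conj : ∀ x ∈ normalizer (V : Set G), ∀ v < 2048, x * θ v * x⁻¹ = θ (ac k (π x) v)

namespace MV

variable {G : Type*} [Group G] {k : Bool} (m : MV G k)

/-- `M = N(V)` -/
abbrev M : Subgroup G := normalizer (m.V : Set G)

/-- the central involution -/
def z : G := m.θ (zv k)

/-- `H = C(z)` -/
abbrev H : Subgroup G := centralizer ({m.z} : Set G)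

/-- `π` as a homomorphism -/
def πh : m.M →* M24 := MonoidHom.mk' (fun x => m.π x) fun x y => m.π_mul x x.2 y y.2

/-- the preimage of `Y` -/
def pre (Y : Subgroup M24) : Subgroup G := (Y.comap m.πh).map m.M.subtype

/-- the image of `B ⊓ M` -/
def bar (B : Subgroup G) : Subgroup M24 := (B.subgroupOf m.M).map m.πh

/-- the Sylow 2-subgroup -/
def T : Subgroup G := m.pre S

theorem θ_zero : m.θ 0 = 1 := by simpa using m.θ_xor 0 (by norm_num) 0 (by norm_num)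

theorem θ_sq {v : ℕ} (hv : v < 2048) : m.θ v * m.θ v = 1 := by rw [← m.θ_xor v hv v hv, Nat.xor_self, m.θ_zero]

theorem θ_inv {v : ℕ} (hv : v < 2048) : (m.θ v)⁻¹ = m.θ v := inv_eq_of_mul_eq_one_right (m.θ_sq hv)

/-- the subgroup of `V` given by an additive set -/
def sub {P : ℕ → Prop} (hP : Sp P) : Subgroup G where
  carrier := {x | ∃ v < 2048, P v ∧ x = m.θ v}
  one_mem' := ⟨0, by norm_num, hP.zero, m.θ_zero.symm⟩
  mul_mem' := by
    rintro _ _ ⟨v, hv, h1, rfl⟩ ⟨w, hw, h2, rfl⟩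
    exact ⟨_, x_lt hv hw, hP.xor v hv w hw h1 h2, (m.θ_xor v hv w hw).symm⟩
  inv_mem' := by
    rintro _ ⟨v, hv, h1, rfl⟩
    exact ⟨v, hv, h1, m.θ_inv hv⟩

/-- `W` -/
def W : Subgroup G := m.sub (sp_W k)

/-- `[Q, v₀] ⟨z⟩` -/
def U : Subgroup G := m.sub (sp_ker 0x2001000800400400200102303b01302a)

variable {m} {v w : ℕ} {x y : G} {B : Subgroup G} {Y : Subgroup M24}

theorem θ_mem (hv : v < 2048) : m.θ v ∈ m.V := (m.mem_V _).2 ⟨v, hv, rfl⟩

theorem θ_comm (hv : v < 2048) (hw : w < 2048) : m.θ v * m.θ w = m.θ w * m.θ v := by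
  rw [← m.θ_xor v hv w hw, ← m.θ_xor w hw v hv, Nat.xor_comm]

theorem θ_eq_iff (hv : v < 2048) (hw : w < 2048) : m.θ v = m.θ w ↔ v = w :=
  ⟨fun e => Nat.eq_of_xor_eq_zero (m.θ_inj _ (x_lt hv hw) (by rw [m.θ_xor v hv w hw, e, m.θ_sq hw])), fun e => e ▸ rfl⟩

theorem θ_eq_one (hv : v < 2048) : m.θ v = 1 ↔ v = 0 := ⟨m.θ_inj v hv, fun e => e ▸ m.θ_zero⟩

theorem θ_eq_z (hv : v < 2048) : m.θ v = m.z ↔ v = zv k := θ_eq_iff hv (zv_lt k)

theorem V_sq (hx : x ∈ m.V) : x * x = 1 := by obtain ⟨v, hv, rfl⟩ := (m.mem_V x).1 hx; exact m.θ_sq hv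

theorem V_comm (hx : x ∈ m.V) (hy : y ∈ m.V) : x * y = y * x := by
  obtain ⟨v, hv, rfl⟩ := (m.mem_V x).1 hx
  obtain ⟨w, hw, rfl⟩ := (m.mem_V y).1 hy
  exact θ_comm hv hw

theorem V_le : m.V ≤ m.M := le_normalizer

theorem θ_mem_M (hv : v < 2048) : m.θ v ∈ m.M := V_le (θ_mem hv)

theorem z_mem : m.z ∈ m.V := θ_mem (zv_lt k)

theorem z_sq : m.z * m.z = 1 := V_sq z_mem

theorem z_ne : m.z ≠ 1 := fun e => zv_ne k (m.θ_inj _ (zv_lt k) e)

theorem z_ord : orderOf m.z = 2 := W2.ord_two z_sq z_ne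

theorem mem_H : x ∈ m.H ↔ x * m.z = m.z * x := mem_centralizer_singleton_iff

theorem V_le_H : m.V ≤ m.H := fun _ hx => mem_H.2 (V_comm hx z_mem)

theorem mem_zp : x ∈ zpowers m.z ↔ x = 1 ∨ x = m.z := ExtraTwo.mem_zpowers_iff_of_mul_self z_sq

theorem π_V (hx : x ∈ m.V) : m.π x = 1 := (m.π_eq_one x (V_le hx)).2 hx

theorem π_θ (hv : v < 2048) : m.π (m.θ v) = 1 := π_V (θ_mem hv)

theorem π_one : m.π 1 = 1 := π_V (one_mem _)

theorem πh_apply (x : m.M) : m.πh x = m.π x := rfl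

theorem π_inv (hx : x ∈ m.M) : m.π x⁻¹ = (m.π x)⁻¹ := map_inv m.πh ⟨x, hx⟩

theorem π_pow (hx : x ∈ m.M) (n : ℕ) : m.π (x ^ n) = m.π x ^ n := map_pow m.πh ⟨x, hx⟩ n

theorem π_conj (hx : x ∈ m.M) (hy : y ∈ m.M) : m.π (x * y * x⁻¹) = m.π x * m.π y * (m.π x)⁻¹ := by
  rw [m.π_mul _ (mul_mem hx hy) _ (inv_mem hx), m.π_mul _ hx _ hy, π_inv hx]

theorem π_θ_mul (hv : v < 2048) (hx : x ∈ m.M) : m.π (m.θ v * x) = m.π x := by
  rw [m.π_mul _ (θ_mem_M hv) _ hx, π_θ hv, one_mul]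

theorem exists_θ_of_π_eq (hx : x ∈ m.M) (hy : y ∈ m.M) (e : m.π x = m.π y) : ∃ v < 2048, x = m.θ v * y := by
  obtain ⟨v, hv, h⟩ := (m.mem_V _).1 ((m.π_eq_one _ (mul_mem hx (inv_mem hy))).1 (by
    rw [m.π_mul _ hx _ (inv_mem hy), π_inv hy, e, mul_inv_cancel]))
  exact ⟨v, hv, by rw [← h, inv_mul_cancel_right]⟩

theorem πh_surj : Function.Surjective m.πh := fun g => let ⟨x, hx, e⟩ := m.π_surj g; ⟨⟨x, hx⟩, e⟩

theorem πh_ker : m.πh.ker = m.V.subgroupOf m.M := by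
  ext x; exact m.π_eq_one x x.2

/-- the commutator of `θ v` and `x` -/
theorem cm_eq (hx : x ∈ m.M) (hv : v < 2048) : m.θ v * (x * m.θ v * x⁻¹) = m.θ (cm k (m.π x) v) := by
  rw [m.conj x hx v hv, ← m.θ_xor v hv _ (ac_lt _ _ _)]; rfl

theorem conj_θ (hx : x ∈ m.M) (hv : v < 2048) : m.θ v * x * (m.θ v)⁻¹ = m.θ (cm k (m.π x) v) * x := by
  rw [← cm_eq hx hv, m.θ_inv hv]; group

theorem θ_mul_sq (hx : x ∈ m.M) (hv : v < 2048) : m.θ v * x * (m.θ v * x) = m.θ (cm k (m.π x) v) * (x * x) := by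
  rw [← cm_eq hx hv]; group

theorem comm_iff (hx : x ∈ m.M) (hv : v < 2048) : x * m.θ v = m.θ v * x ↔ ac k (m.π x) v = v := by
  rw [← mul_inv_eq_iff_eq_mul, m.conj x hx v hv, θ_eq_iff (ac_lt _ _ _) hv]

theorem mem_H_iff (hx : x ∈ m.M) : x ∈ m.H ↔ m.π x ∈ St k := mem_H.trans (comm_iff hx (zv_lt k))

/-- `V` is self-centralising -/
theorem cent_V [Finite G] (h : ∀ v ∈ m.V, x * v = v * x) : x ∈ m.V :=
  have hx : x ∈ m.M := mem_normalizer_of_forall fun v hv => by rwa [h v hv, mul_inv_cancel_right]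
  (m.π_eq_one x hx).1 (faithful (k := k) fun v hv => (comm_iff hx hv).1 (h _ (θ_mem hv)))

theorem mem_pre : x ∈ m.pre Y ↔ x ∈ m.M ∧ m.π x ∈ Y :=
  ⟨fun ⟨y, hy, e⟩ => e ▸ ⟨y.2, hy⟩, fun ⟨h1, h2⟩ => ⟨⟨x, h1⟩, h2, rfl⟩⟩

theorem mem_bar {g : M24} : g ∈ m.bar B ↔ ∃ x ∈ B, x ∈ m.M ∧ m.π x = g :=
  ⟨fun ⟨y, hy, e⟩ => ⟨y, hy, y.2, e⟩, fun ⟨x, h1, h2, e⟩ => ⟨⟨x, h2⟩, h1, e⟩⟩

theorem π_mem_bar (hB : B ≤ m.M) (hx : x ∈ B) : m.π x ∈ m.bar B := mem_bar.2 ⟨x, hx, hB hx, rfl⟩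

theorem pre_le : m.pre Y ≤ m.M := fun _ h => (mem_pre.1 h).1

theorem V_le_pre : m.V ≤ m.pre Y := fun _ h => mem_pre.2 ⟨V_le h, by rw [π_V h]; exact one_mem _⟩

theorem bar_pre : m.bar (m.pre Y) = Y := by
  ext g
  refine ⟨fun h => ?_, fun h => ?_⟩
  · obtain ⟨x, hx, -, rfl⟩ := mem_bar.1 h; exact (mem_pre.1 hx).2
  · obtain ⟨x, hx, rfl⟩ := m.π_surj g; exact mem_bar.2 ⟨x, mem_pre.2 ⟨hx, h⟩, hx, rfl⟩

theorem bar_le_iff (hB : B ≤ m.M) : m.bar B ≤ Y ↔ B ≤ m.pre Y :=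
  ⟨fun h x hx => mem_pre.2 ⟨hB hx, h (π_mem_bar hB hx)⟩, fun h g hg => by
    obtain ⟨x, hx, -, rfl⟩ := mem_bar.1 hg; exact (mem_pre.1 (h hx)).2⟩

theorem mem_T : x ∈ m.T ↔ x ∈ m.M ∧ m.π x ∈ S := mem_pre

theorem T_le : m.T ≤ m.M := pre_le

theorem V_le_T : m.V ≤ m.T := V_le_pre

theorem T_le_H : m.T ≤ m.H := fun _ h => (mem_H_iff (T_le h)).2 (S_le_St k (mem_T.1 h).2)

theorem mem_sub {P : ℕ → Prop} {hP : Sp P} : x ∈ m.sub hP ↔ ∃ v < 2048, P v ∧ x = m.θ v := Iff.rfl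

theorem θ_mem_sub {P : ℕ → Prop} {hP : Sp P} (hv : v < 2048) : m.θ v ∈ m.sub hP ↔ P v :=
  ⟨fun ⟨_, hw, h, e⟩ => (θ_eq_iff hv hw).1 e ▸ h, fun h => ⟨v, hv, h, rfl⟩⟩

theorem sub_le {P : ℕ → Prop} {hP : Sp P} : m.sub hP ≤ m.V := fun _ ⟨_, hv, _, e⟩ => e ▸ θ_mem hv

theorem mem_W : x ∈ m.W ↔ ∃ v < 2048, inW k v ∧ x = m.θ v := Iff.rfl

theorem θ_mem_W (hv : v < 2048) : m.θ v ∈ m.W ↔ inW k v := θ_mem_sub hv

theorem mem_U : x ∈ m.U ↔ ∃ v < 2048, inU v ∧ x = m.θ v := Iff.rfl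

theorem sp_mem (B : Subgroup G) : Sp fun v => m.θ v ∈ B :=
  ⟨by rw [m.θ_zero]; exact one_mem _, fun v hv w hw h1 h2 => by rw [m.θ_xor v hv w hw]; exact mul_mem h1 h2⟩

theorem card_inf_V (B : Subgroup G) : Nat.card (B ⊓ m.V : Subgroup G) = nc fun v => m.θ v ∈ B := by
  rw [nc, ← Set.InjOn.ncard_image (f := m.θ) fun i hi j hj e => (θ_eq_iff hi.1 hj.1).1 e, ← Nat.card_coe_set_eq]
  refine Nat.card_congr (Equiv.setCongr (Set.ext fun y => ⟨fun hy => ?_, ?_⟩))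
  · obtain ⟨v, hv, rfl⟩ := (m.mem_V y).1 hy.2
    exact ⟨v, ⟨hv, hy.1⟩, rfl⟩
  · rintro ⟨v, hv, rfl⟩; exact ⟨hv.2, θ_mem hv.1⟩

theorem card_sub {P : ℕ → Prop} (hP : Sp P) : Nat.card (m.sub hP) = nc P := by
  rw [← inf_eq_left.2 (sub_le (m := m) (hP := hP)), card_inf_V]
  exact nc_congr fun v hv => θ_mem_sub hv

theorem card_V : Nat.card m.V = 2048 := by
  rw [← inf_idem m.V, card_inf_V, ← nc_true]
  exact nc_congr fun v hv => by simp [θ_mem hv]

theorem card_W : Nat.card m.W = cond k 32 128 := (card_sub _).trans (nc_W k)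

theorem card_eq (hB : B ≤ m.M) : Nat.card B = Nat.card (m.bar B) * nc fun v => m.θ v ∈ B := by
  let f := m.πh.comp (inclusion hB)
  have h1 : f.range = m.bar B := by
    ext g
    exact ⟨fun ⟨x, e⟩ => mem_bar.2 ⟨x, x.2, hB x.2, e⟩, fun h => let ⟨x, hx, _, e⟩ := mem_bar.1 h; ⟨⟨x, hx⟩, e⟩⟩
  have h2 : f.ker = (B ⊓ m.V).subgroupOf B := by
    ext x
    rw [mem_subgroupOf, mem_inf, and_iff_right x.2]
    exact m.π_eq_one x (hB x.2)
  rw [card_eq_card_quotient_mul_card_subgroup f.ker, Nat.card_congr (QuotientGroup.quotientKerEquivRange f).toEquiv, h1, h2,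
    Nat.card_congr (subgroupOfEquivOfLe inf_le_left).toEquiv, card_inf_V]

theorem card_pre (Y : Subgroup M24) : Nat.card (m.pre Y) = Nat.card Y * 2048 := by
  rw [card_eq pre_le, bar_pre, ← nc_true]
  exact congrArg _ (nc_congr fun v hv => by simp [V_le_pre (θ_mem hv)])

theorem card_T : Nat.card m.T = 2 ^ 21 := by rw [T, card_pre, card_S]; norm_num

theorem T_two : IsPGroup 2 m.T := IsPGroup.of_card card_T

theorem pre_top : m.pre ⊤ = m.M := le_antisymm pre_le fun _ h => mem_pre.2 ⟨h, trivial⟩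

theorem card_M : Nat.card m.M = 244823040 * 2048 := by
  rw [← pre_top, card_pre, card_top, card_M24]

theorem syl_M : IsSylowIn 2 m.T m.M := by
  refine ⟨T_le, T_two, ?_⟩
  have h := card_mul_relIndex' (T_le (m := m))
  rw [card_T, card_M] at h
  rw [show m.T.relIndex m.M = 239085 by omega]
  norm_num

theorem exists_lift3 {g : M24} (hg : g ^ 3 = 1) : ∃ x ∈ m.M, m.π x = g ∧ x ^ 3 = 1 := by
  obtain ⟨x, hx, rfl⟩ := m.π_surj g
  have h : x ^ 3 ∈ m.V := (m.π_eq_one _ (pow_mem hx 3)).1 (by rw [π_pow hx, hg])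
  refine ⟨x ^ 4, pow_mem hx 4, by rw [π_pow hx, pow_succ, hg, one_mul], ?_⟩
  rw [← pow_mul, show 4 * 3 = 3 * 2 * 2 by norm_num, pow_mul, pow_mul, pow_two (x ^ 3), V_sq h, one_pow]

end MV

/-- the extraspecial group and the element of order 3 -/
structure QD {G : Type*} [Group G] {k : Bool} (m : MV G k) where
  /-- the extraspecial group -/
  Q : Subgroup G
  /-- the element of order 3 -/
  p : G
  le : Q ≤ m.M
  π_mem : ∀ x ∈ Q, m.π x ∈ Xk k
  π_surj : ∀ g ∈ Xk k, ∃ x ∈ Q, m.π x = g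
  inf : ∀ v < 2048, (m.θ v ∈ Q ↔ inW k v)
  sq : ∀ x ∈ Q, x * x = 1 ∨ x * x = m.z
  norm : ∀ g ∈ m.M, g * m.z = m.z * g → g ∈ normalizer (Q : Set G)
  p_mem : p ∈ m.M
  π_p : m.π p = pp k
  p3 : p ^ 3 = 1

/-! ### the configuration of the fusion argument -/

section

variable {G : Type*} [Group G]

/-- `Γ / D` is strongly embedded in `N / D` or `Γ = N` -/
structure SE (D S Γ N : Subgroup G) : Prop where
  DS : D ≤ S
  syl : IsSylowIn 2 S N
  norm : N ≤ normalizer (D : Set G)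
  le : Γ ≤ N
  step : ∀ g ∈ N, ∀ x ∈ S, x ∉ D → g * x * g⁻¹ ∈ S → g ∈ Γ

/-- the configuration `B = (V ⊓ D) ^ ρ` -/
structure Cfg (V T H D B : Subgroup G) (a ρ b : G) : Prop where
  DT : D ≤ T
  a_mem : a ∈ V
  a_not : a ∉ D
  a_norm : a ∈ normalizer (D : Set G)
  ρ_H : ρ ∈ H
  ρ_norm : ρ ∈ normalizer (D : Set G)
  cent : ∀ x ∈ V, x ∈ B → ρ * x = x * ρ
  B_eq : B = cj ρ (V ⊓ D)
  D_eq : D = T ⊓ normalizer (B : Set G)
  b_mem : b ∈ B
  b_not : b ∉ V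
  f4 : ∀ v ∈ V, (v ∈ D ↔ v * (b * v * b⁻¹) ∈ B)
  inj : ∀ x ∈ B, a * (x * a * x⁻¹) ∈ B → x ∈ V

end

/-- the configuration in coordinates: `Y` is the image of `B`, `I = V ⊓ B`, `D` stands for `V ⊓ D` -/
structure PC (k : Bool) (Y : Subgroup M24) (I D : ℕ → Prop) (a : ℕ) (b : M24) : Prop where
  le : Y ≤ S
  sq : ∀ y ∈ Y, y * y = 1
  spI : Sp I
  zI : I (zv k)
  fix : ∀ v < 2048, I v → Fx k Y v
  b_mem : b ∈ Y
  b_ne : b ≠ 1
  a_lt : a < 2048
  f4 : ∀ v < 2048, (D v ↔ I (cm k b v))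
  com : ∀ y ∈ Y, ∀ v < 2048, D v → I (cm k y v)
  inj : ∀ y ∈ Y, I (cm k y a) → y = 1
  surj : ∀ v < 2048, D v → ∃ y ∈ Y, I (v ^^^ cm k y a)
  n1 : ∀ C : ℕ → Prop, Sp C → (∀ v < 2048, I v → C v) → nc (fun v => C (cm k b v)) ≤ Nat.card Y * nc C

/-- the images that occur -/
def Good (k : Bool) (Y : Subgroup M24) : Prop := cond k (Y = E) (Y = R ∨ Y = E')

/-! ### groups with a 2-local subgroup `2^4 : A₆`, `2^4 : 3 A₆` or `2^4 : 3 S₆` -/

/-- coordinates on `N(A)`, `A = 2^4` weakly closed -/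
structure TB (X : Type*) [Group X] where
  /-- the elementary abelian group of order 16 -/
  A : Subgroup X
  /-- an element of order 1 or 3 -/
  p : X
  /-- the map `N(A) → S₆` -/
  σ : X → Equiv.Perm (Fin 6)
  /-- the elements of `A` -/
  d : Fin 6 → Fin 6 → X
  d_mem : ∀ i j, d i j ∈ A
  d_mul : ∀ i j l, d i j * d j l = d i l
  d_sq : ∀ i j, d i j * d i j = 1
  d_all : d 0 1 * d 2 3 * d 4 5 = 1
  d_ne : ∀ i j, i ≠ j → d i j ≠ 1
  mem_A : ∀ a ∈ A, ∃ i j, a = d i j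
  σ_mul : ∀ g ∈ normalizer (A : Set X), ∀ h ∈ normalizer (A : Set X), σ (g * h) = σ g * σ h
  σ_d : ∀ g ∈ normalizer (A : Set X), ∀ i j, g * d i j * g⁻¹ = d (σ g i) (σ g j)
  σ_alt : ∀ s : Equiv.Perm (Fin 6), Equiv.Perm.sign s = 1 → ∃ g ∈ normalizer (A : Set X), σ g = s
  σ_ker : ∀ g ∈ normalizer (A : Set X), σ g = 1 → ∃ a ∈ A, ∃ i : ℕ, g = a * p ^ i
  p3 : p ^ 3 = 1
  p_A : ∀ a ∈ A, p * a = a * p
  p_even : ∀ g ∈ normalizer (A : Set X), Equiv.Perm.sign (σ g) = 1 → g * p * g⁻¹ = p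
  p_odd : ∀ g ∈ normalizer (A : Set X), Equiv.Perm.sign (σ g) = -1 → g * p * g⁻¹ = p⁻¹
  p_perf : ∃ g ∈ normalizer (A : Set X), ∃ h ∈ normalizer (A : Set X), Equiv.Perm.sign (σ g) = 1 ∧
    Equiv.Perm.sign (σ h) = 1 ∧ ∃ a ∈ A, g * h * g⁻¹ * h⁻¹ = a * p
  wc : ∀ g, cj g A ≤ normalizer (A : Set X) → g ∈ normalizer (A : Set X)

namespace TB

variable {X : Type*} [Group X] (t : TB X)

/-- `N(A)` -/
abbrev N : Subgroup X := normalizer (t.A : Set X)

/-- `σ` as a homomorphism -/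
def σh : t.N →* Equiv.Perm (Fin 6) := MonoidHom.mk' (fun x => t.σ x) fun x y => t.σ_mul x x.2 y y.2

/-- the even part of `N(A)` -/
def N1 : Subgroup X := ((alternatingGroup (Fin 6)).comap t.σh).map t.N.subtype

theorem mem_N1 {g : X} : g ∈ t.N1 ↔ g ∈ t.N ∧ Equiv.Perm.sign (t.σ g) = 1 :=
  ⟨fun ⟨x, hx, e⟩ => e ▸ ⟨x.2, hx⟩, fun ⟨h1, h2⟩ => ⟨⟨g, h1⟩, h2, rfl⟩⟩

end TB

/-- the case `N(A) = 2^4 : 3 S₆` -/
structure TX (X : Type*) [Group X] extends TB X where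
  p_ne : p ≠ 1
  odd : ∃ g ∈ normalizer (A : Set X), Equiv.Perm.sign (σ g) = -1
  loc : ∃ P D : Subgroup X, P ≤ D ∧ D ≤ centralizer {d 0 1} ∧ centralizer {d 0 1} ≤ normalizer (P : Set X) ∧
    centralizer {d 0 1} ≤ normalizer (D : Set X) ∧ IsPGroup 2 P ∧ ⁅D, D⁆ ≤ P ∧
    (∀ c ∈ centralizer {d 0 1}, c ^ 4 ∈ D) ∧ ∀ i j : Fin 6, 2 ≤ i → 2 ≤ j → d i j ∈ P
  ninv : ∀ g, g * d 0 1 * g⁻¹ * p * (g * d 0 1 * g⁻¹)⁻¹ ≠ p⁻¹
  nn : ¬ A.Normal

/-- the case `N(A) = 2^4 : A₆` -/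
structure TY (X : Type*) [Group X] extends TB X where
  p_eq : p = 1
  even : ∀ g ∈ normalizer (A : Set X), Equiv.Perm.sign (σ g) = 1
  solv : Group.IsSolvable (centralizer ({d 0 1} : Set X))
  core : pPrimeCore 2 X = ⊥

instance zp_normal {X : Type*} [Group X] (p : X) : ((zpowers p).subgroupOf (centralizer {p})).Normal :=
  ⟨fun a ha g => by
    have h : (g : X) * a = a * g := by
      obtain ⟨n, hn⟩ := mem_zpowers_iff.1 (mem_subgroupOf.1 ha)
      rw [← hn]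
      exact ((show Commute (g : X) p from mem_centralizer_singleton_iff.1 g.2).zpow_right n).eq
    rw [mem_subgroupOf] at ha ⊢
    show (g : X) * a * (g : X)⁻¹ ∈ zpowers p
    rwa [h, mul_inv_cancel_right]⟩

/-- `C(p) / ⟨p⟩` -/
abbrev Yp {X : Type*} [Group X] (p : X) : Type _ :=
  centralizer ({p} : Set X) ⧸ (zpowers p).subgroupOf (centralizer {p})

/-- isomorphic to `PSU(4, 3)` -/
def U43 (Y : Type*) [Group Y] : Prop :=
  ∃ (F : Type) (_ : Field F) (_ : Fintype F), Fintype.card F = 9 ∧ Nonempty (Y ≃* PSU 4 F 3)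

end CfsgLib.M24R
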