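import Mathlib
import Cfsg.Agent.Lib.M24R.Defs

/-!
# strong embedding modulo `D` (plans/M24R.md)
-/

set_option autoImplicit false
set_option Elab.async false
set_option linter.unusedSectionVars false

namespace CfsgLib.M24R

open Subgroup Cfsg CfsgLib.Tech CfsgLib.J4T CfsgLib.J4T.Rec CfsgLib.Golay CfsgLib.M24E CfsgLib.WD.Km
open scoped Pointwise

variable {G : Type*} [Group G] [Finite G] {D S Γ N : Subgroup G}

namespace Le1x

theorem comm_pow {H : Type*} [Group H] {x y : H} (hx : x * x = 1) (hy : y * y = 1) {l : ℕ}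
    (h : (x * y) ^ l * (x * y) ^ l = 1) : (x * y) ^ l * x = x * (x * y) ^ l ∧ y * (x * y) ^ l = (x * y) ^ l * y := by
  have x' := inv_eq_of_mul_eq_one_right hx
  have y' := inv_eq_of_mul_eq_one_right hy
  have e : ∀ u : H, u * (x * y) * u⁻¹ = (x * y)⁻¹ → u * (x * y) ^ l = (x * y) ^ l * u := fun u hu => by
    rw [← mul_inv_eq_iff_eq_mul, ← conj_pow, hu, inv_pow, inv_eq_of_mul_eq_one_right h]
  exact ⟨(e x (by rw [← mul_assoc, hx, one_mul, mul_inv_rev, y'])).symm,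
    e y (by rw [mul_inv_rev, x', y', mul_assoc, mul_assoc, hy, mul_one])⟩

/-- a map which is injective modulo `I` is surjective modulo `I` -/
theorem surj_mod {P Q I : Subgroup G} (hP : I ≤ P) (hQ : I ≤ Q) (hc : Nat.card Q ≤ Nat.card P) {f : G → G}
    (hf : ∀ x ∈ P, f x ∈ Q) (h : ∀ x ∈ P, ∀ y ∈ P, (f x)⁻¹ * f y ∈ I → x⁻¹ * y ∈ I) {v : G} (hv : v ∈ Q) :
    ∃ x ∈ P, (f x)⁻¹ * v ∈ I := by
  let ψ : P ⧸ I.subgroupOf P → Q ⧸ I.subgroupOf Q := fun q => QuotientGroup.mk ⟨f q.out, hf _ q.out.2⟩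
  have h1 : Function.Injective ψ := fun q q' e => by
    rw [← q.out_eq, ← q'.out_eq]
    exact QuotientGroup.eq.2 (h _ q.out.2 _ q'.out.2 (mem_subgroupOf.1 (QuotientGroup.eq.1 e)))
  have h2 : Nat.card (Q ⧸ I.subgroupOf Q) ≤ Nat.card (P ⧸ I.subgroupOf P) := by
    rw [← card_mul_relIndex' hP, ← card_mul_relIndex' hQ] at hc
    exact Nat.le_of_mul_le_mul_left hc Nat.card_pos
  obtain ⟨q, e⟩ := ((Nat.bijective_iff_injective_and_card ψ).2
    ⟨h1, le_antisymm (Nat.card_le_card_of_injective ψ h1) h2⟩).2 (QuotientGroup.mk ⟨v, hv⟩)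
  exact ⟨_, q.out.2, mem_subgroupOf.1 (QuotientGroup.eq.1 e)⟩

variable (s : SE D S Γ N)
include s

theorem S_le {x : G} (hx : x ∈ S) (hx' : x ∉ D) : S ≤ Γ := fun g hg =>
  s.step g (s.syl.le hg) x hx hx' (mul_mem (mul_mem hg hx) (inv_mem hg))

theorem two {u : G} (h2 : u * u ∈ D) : IsPGroup 2 (zpowers u) := by
  obtain ⟨k, hk⟩ := isPGroup_iff_mem.1 s.syl.pgroup _ (s.DS h2)
  exact isPGroup_zpowers_of_pow (k := k + 1) (by rw [pow_succ', pow_mul, pow_two, hk])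

theorem star (hS : S ≤ Γ) {u c : G} (hu : u ∈ Γ) (hu' : u ∉ D) (h2 : u * u ∈ D) (hc : c ∈ N)
    (e : c * u * c⁻¹ * u⁻¹ ∈ D) : c ∈ Γ := by
  obtain ⟨γ, hγ, h⟩ := (s.syl.of_le hS s.le).exists_conj_mem hu (two s h2)
  have hn := s.norm (s.le hγ)
  have := s.step (γ * c * γ⁻¹) (mul_mem (mul_mem (s.le hγ) hc) (inv_mem (s.le hγ))) _ h
    (fun k => hu' ((mem_normalizer_iff.1 hn u).2 k)) (by
      convert mul_mem (s.DS (conj_mem_of_mem_normalizer hn e)) h using 1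
      group)
  simpa [mul_assoc] using mul_mem (mul_mem (inv_mem hγ) this) hγ

end Le1x

open Le1x

theorem SE.odd (s : SE D S Γ N) {x y : G} (hx : x ∈ S) (hx' : x ∉ D) (h2 : x * x ∈ D) (hy : y ∈ N) (hy' : y ∉ Γ)
    (h2' : y * y ∈ D) : ∃ n, Odd n ∧ (x * y) ^ n ∈ D := by
  have := normal_subgroupOf_of_le_normalizer s.norm
  have hS := S_le s hx hx'
  let x' : N := ⟨x, s.syl.le hx⟩
  let y' : N := ⟨y, hy⟩
  let p := QuotientGroup.mk' (D.subgroupOf N)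
  have hp : ∀ g : N, p g = 1 ↔ (g : G) ∈ D := fun g => QuotientGroup.eq_one_iff g
  have h1 : ∀ n, (p x' * p y') ^ n = 1 ↔ (x * y) ^ n ∈ D := fun n => by rw [← map_mul, ← map_pow, hp]; rfl
  refine ⟨orderOf (p x' * p y'), Nat.not_even_iff_odd.1 ?_, (h1 _).1 (pow_orderOf_eq_one _)⟩
  rintro ⟨l, e⟩
  have h3 : (p x' * p y') ^ l * (p x' * p y') ^ l = 1 := by rw [← pow_add, ← e, pow_orderOf_eq_one]
  have h4 : (x * y) ^ l ∉ D := fun k => by
    have h5 := orderOf_pos (p x' * p y')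
    have := orderOf_le_of_pow_eq_one (by omega) ((h1 l).2 k)
    omega
  obtain ⟨c1, c2⟩ := comm_pow (x := p x') (y := p y') (by rw [← map_mul, hp]; exact h2)
    (by rw [← map_mul, hp]; exact h2') h3
  rw [← map_mul, ← map_pow] at h3 c1 c2
  have h5 := star s hS (hS hx) hx' h2 ((x' * y') ^ l).2 ((hp ((x' * y') ^ l * x' * ((x' * y') ^ l)⁻¹ * x'⁻¹)).1
    (by rw [map_mul, map_mul, map_mul, c1, map_inv, map_inv]; group))
  exact hy' (star s hS h5 h4 ((hp ((x' * y') ^ l * (x' * y') ^ l)).1 (by rw [map_mul, h3])) hy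
    ((hp (y' * (x' * y') ^ l * y'⁻¹ * ((x' * y') ^ l)⁻¹)).1
      (by rw [map_mul, map_mul, map_mul, c2, map_inv, map_inv]; group)))

theorem SE.exists_rho (s : SE D S Γ N) {a g : G} (ha : a ∈ S) (ha' : a ∉ D) (h2 : a * a = 1) (hg : g ∈ N) (hg' : g ∉ Γ) :
    ∃ ρ ∈ N, Odd (orderOf ρ) ∧ a * ρ * a⁻¹ = ρ⁻¹ ∧ ρ * a * ρ⁻¹ ∉ Γ := by
  have hS := S_le s ha ha'
  have aN := s.syl.le ha
  have h3 : g * a * g⁻¹ * (g * a * g⁻¹) = 1 := by rw [conj_mul, h2]; group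
  have h4 : g * a * g⁻¹ ∉ Γ := fun k => by
    obtain ⟨γ, hγ, h⟩ := (s.syl.of_le hS s.le).exists_conj_mem k (two s (h3 ▸ one_mem _))
    have := s.step (γ * g) (mul_mem (s.le hγ) hg) a ha ha' (by convert h using 1; group)
    exact hg' (by simpa using mul_mem (inv_mem hγ) this)
  have h5 := mul_mem (mul_mem hg aN) (inv_mem hg)
  obtain ⟨n, hn, h6⟩ := s.odd ha ha' (h2 ▸ one_mem _) h5 h4 (h3 ▸ one_mem _)
  generalize g * a * g⁻¹ = b at h3 h4 h5 h6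
  obtain ⟨k, hk⟩ := isPGroup_iff_mem.1 s.syl.pgroup _ (s.DS h6)
  have h7 : a * (a * b) ^ 2 ^ k * a⁻¹ = ((a * b) ^ 2 ^ k)⁻¹ := by
    rw [← conj_pow, ← mul_assoc, h2, one_mul, ← inv_pow, mul_inv_rev, inv_eq_of_mul_eq_one_right h3]
  refine ⟨(a * b) ^ 2 ^ k, pow_mem (mul_mem aN h5) _,
    hn.of_dvd_nat (orderOf_dvd_of_pow_eq_one (by rw [← pow_mul, mul_comm, pow_mul, hk])), h7, fun e => h4 ?_⟩
  have h8 : (a * b) ^ 2 ^ (k + 1) ∈ Γ := by
    rw [pow_succ, pow_mul, pow_two]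
    generalize (a * b) ^ 2 ^ k = ρ at h7 e
    convert mul_mem e (inv_mem (hS ha)) using 1
    calc ρ * ρ = ρ * (a * ρ * a⁻¹)⁻¹ := by rw [h7, inv_inv]
      _ = _ := by group
  have := W2.mem_of_coprime_pow (Nat.Coprime.pow_left _ (Nat.coprime_two_left.2 hn)) h8 (hS (s.DS h6))
  simpa using mul_mem (inv_mem (hS ha)) this

end CfsgLib.M24R
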