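import Mathlib
import Cfsg.Agent.Lib.M24R.Defs
import Cfsg.Agent.Lib.M24R.Le1

/-!
# the configuration in coordinates (plans/M24R.md)
-/

set_option autoImplicit false
set_option Elab.async false
set_option linter.unusedSectionVars false

namespace CfsgLib.M24R

open Subgroup Cfsg CfsgLib.Tech CfsgLib.J4T CfsgLib.J4T.Rec CfsgLib.Golay CfsgLib.M24E CfsgLib.WD.Km
open scoped Pointwise

variable {G : Type*} [Group G] [Finite G] {k : Bool} {m : MV G k} {D B : Subgroup G} {a ρ b : G}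

theorem CfAx.idx {U P C I : Subgroup G} (hP : P ≤ U) (hI : I ≤ C) {f : G → G} (hf : ∀ x ∈ U, f x ∈ C)
    (h : ∀ x ∈ U, ∀ y ∈ U, (f x)⁻¹ * f y ∈ I → x⁻¹ * y ∈ P) :
    Nat.card U * Nat.card I ≤ Nat.card P * Nat.card C := by
  let ψ : U ⧸ P.subgroupOf U → C ⧸ I.subgroupOf C := fun q => QuotientGroup.mk ⟨f q.out, hf _ q.out.2⟩
  have h1 : Function.Injective ψ := fun q q' e => by
    rw [← q.out_eq, ← q'.out_eq]
    exact QuotientGroup.eq.2 (h _ q.out.2 _ q'.out.2 (mem_subgroupOf.1 (QuotientGroup.eq.1 e)))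
  have h2 : P.relIndex U ≤ I.relIndex C := Nat.card_le_card_of_injective ψ h1
  rw [← card_mul_relIndex' hP, ← card_mul_relIndex' hI, mul_assoc, mul_comm (Nat.card I)]
  gcongr

theorem Cfg.B_le (c : Cfg m.V m.T m.H D B a ρ b) : B ≤ D :=
  c.B_eq ▸ cj_le_iff.2 fun _ hx => conj_mem_of_mem_normalizer c.ρ_norm hx.2

theorem Cfg.B_sq (c : Cfg m.V m.T m.H D B a ρ b) : ∀ x ∈ B, x * x = 1 := fun x hx => by
  have := MV.V_sq (mem_inf.1 (mem_cj.1 (c.B_eq.le hx))).1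
  calc x * x = ρ * (ρ⁻¹ * x * ρ * (ρ⁻¹ * x * ρ)) * ρ⁻¹ := by group
    _ = 1 := by rw [this]; group

theorem Cfg.pc (c : Cfg m.V m.T m.H D B a ρ b) : ∃ a₀ < 2048, a = m.θ a₀ ∧
    PC k (m.bar B) (fun v => m.θ v ∈ B) (fun v => m.θ v ∈ D) a₀ (m.π b) := by
  obtain ⟨a₀, h0, e0⟩ := (m.mem_V a).1 c.a_mem
  have BT : B ≤ m.T := c.B_le.trans c.DT
  have BM : B ≤ m.M := BT.trans MV.T_le
  have nB : D ≤ normalizer (B : Set G) := c.D_eq.le.trans inf_le_right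
  have inv : ∀ x ∈ B, x⁻¹ = x := fun x hx => inv_eq_of_mul_eq_one_right (c.B_sq x hx)
  have aa := MV.V_sq c.a_mem
  have ai := inv_eq_of_mul_eq_one_right aa
  have card : Nat.card B = Nat.card (m.V ⊓ D : Subgroup G) := by rw [c.B_eq, card_cj]
  have f4 : ∀ v < 2048, (m.θ v ∈ D ↔ m.θ (cm k (m.π b) v) ∈ B) := fun v hv => by
    rw [c.f4 _ (MV.θ_mem hv), MV.cm_eq (BM c.b_mem) hv]
  refine ⟨a₀, h0, e0, (MV.bar_le_iff BM).2 BT, fun y hy => ?_, MV.sp_mem B, ?_, fun v hv e y hy => ?_,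
    MV.π_mem_bar BM c.b_mem, fun e => c.b_not ((m.π_eq_one b (BM c.b_mem)).1 e), h0, f4, fun y hy v hv e => ?_,
    fun y hy e => ?_, fun v hv e => ?_, fun C hC hI => ?_⟩
  · obtain ⟨x, hx, h1, rfl⟩ := MV.mem_bar.1 hy
    rw [← m.π_mul x h1 x h1, c.B_sq x hx, MV.π_one]
  · have h1 : m.z ∈ D := c.D_eq.ge ⟨MV.V_le_T MV.z_mem, centralizer_le_normalizer _
      (mem_centralizer_iff.2 fun x hx => MV.mem_H.1 (MV.T_le_H (BT hx)))⟩
    have h2 : ρ * m.z * ρ⁻¹ ∈ B := c.B_eq ▸ conj_mem_cj.2 ⟨MV.z_mem, h1⟩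
    rwa [MV.mem_H.1 c.ρ_H, mul_inv_cancel_right] at h2
  · obtain ⟨x, hx, h1, rfl⟩ := MV.mem_bar.1 hy
    rw [← MV.comm_iff h1 hv, ← inv _ (mul_mem hx e), mul_inv_rev, inv _ hx, inv _ e]
  · obtain ⟨x, hx, h1, rfl⟩ := MV.mem_bar.1 hy
    have := mul_mem (conj_mem_of_mem_normalizer (nB e) hx) (inv_mem hx)
    rw [m.θ_inv hv] at this
    rw [← MV.cm_eq h1 hv]
    simpa only [mul_assoc] using this
  · obtain ⟨x, hx, h1, rfl⟩ := MV.mem_bar.1 hy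
    exact MV.π_V (c.inj x hx (by rwa [e0, MV.cm_eq h1 h0]))
  · obtain ⟨x, hx, h1⟩ := Le1x.surj_mod (P := B) (Q := m.V ⊓ D) (I := m.V ⊓ B) (f := fun x => a * (x * a * x⁻¹))
      inf_le_right (inf_le_inf_left _ c.B_le) card.ge (fun x hx => mem_inf.2
        ⟨mul_mem c.a_mem (conj_mem_of_mem_normalizer (BM hx) c.a_mem), by
          have := mul_mem (conj_mem_of_mem_normalizer c.a_norm (c.B_le hx)) (inv_mem (c.B_le hx))
          rw [ai] at this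
          simpa only [mul_assoc] using this⟩) (fun x hx y hy e => by
        have hw := mul_mem (inv_mem hx) hy
        refine ⟨c.inj _ hw ?_, hw⟩
        convert conj_mem_of_mem_normalizer' (le_normalizer hx) e.2 using 1
        rw [mul_inv_rev a, conj_inv, ai]
        calc _ = x⁻¹ * (x * a * x⁻¹ * (a * a) * (y * a * y⁻¹)) * x := by rw [aa]; group
          _ = _ := by group) ⟨MV.θ_mem hv, e⟩
    refine ⟨_, MV.π_mem_bar BM hx, ?_⟩
    rw [e0, MV.cm_eq (BM hx) h0, m.θ_inv (cm_lt _ _ h0), ← m.θ_xor _ (cm_lt _ _ h0) _ hv, Nat.xor_comm] at h1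
    exact h1.2
  · have hU : Sp fun v => C (cm k (m.π b) v) :=
      ⟨by rw [(ln_cm k _).zero]; exact hC.zero, fun v hv w hw h1 h2 => by
        rw [ln_cm k _ v hv w hw]; exact hC.xor _ (cm_lt _ _ hv) _ (cm_lt _ _ hw) h1 h2⟩
    have h1 := CfAx.idx (U := m.sub hU) (P := m.V ⊓ D) (C := m.sub hC) (I := B ⊓ m.V)
      (f := fun x => x * (b * x * b⁻¹)) (fun x hx => by
        obtain ⟨v, hv, rfl⟩ := (m.mem_V x).1 hx.1
        exact (MV.θ_mem_sub hv).2 (hI _ (cm_lt _ _ hv) ((f4 v hv).1 hx.2))) (fun x hx => by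
        obtain ⟨v, hv, rfl⟩ := (m.mem_V x).1 hx.2
        exact (MV.θ_mem_sub hv).2 (hI _ hv hx.1)) (by
        rintro _ ⟨v, hv, h1, rfl⟩
        rw [MV.cm_eq (BM c.b_mem) hv]
        exact (MV.θ_mem_sub (cm_lt _ _ hv)).2 h1) (by
        rintro _ ⟨v, hv, -, rfl⟩ _ ⟨w, hw, -, rfl⟩ e
        rw [MV.cm_eq (BM c.b_mem) hv, MV.cm_eq (BM c.b_mem) hw, m.θ_inv (cm_lt _ _ hv),
          ← m.θ_xor _ (cm_lt _ _ hv) _ (cm_lt _ _ hw), ← ln_cm k _ v hv w hw] at e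
        rw [m.θ_inv hv, ← m.θ_xor _ hv _ hw]
        exact ⟨MV.θ_mem (x_lt hv hw), (f4 _ (x_lt hv hw)).2 e.1⟩)
    rw [← card, MV.card_eq BM, ← MV.card_inf_V, MV.card_sub, MV.card_sub, mul_right_comm] at h1
    exact Nat.le_of_mul_le_mul_right h1 Nat.card_pos

end CfsgLib.M24R
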