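import Mathlib
import Cfsg.Agent.Lib.M24R.Le1
import Cfsg.Agent.Lib.PGroup.Basic
import Cfsg.Agent.Lib.Coprime.Glauberman

/-!
# the configuration `B = (V ⊓ D) ^ ρ` (plans/M24R.md)
-/

set_option autoImplicit false
set_option Elab.async false
set_option linter.unusedSectionVars false

namespace CfsgLib.M24R

open Subgroup Cfsg CfsgLib.Tech CfsgLib.J4T CfsgLib.J4T.Rec CfsgLib.Golay CfsgLib.M24E CfsgLib.WD.Km
open scoped Pointwise commutatorElement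
open W2 (Cx mem_Cx mem_Cx' Cx_comm)

variable {G : Type*} [Group G] [Finite G]

namespace Le2x

theorem central_mod {T M N : Subgroup G} (hT : IsPGroup 2 T) (hMT : M ≤ T) (hM : T ≤ normalizer (M : Set G))
    (hN : T ≤ normalizer (N : Set G)) (h : ¬ M ≤ N) : ∃ x ∈ M, x ∉ N ∧ ∀ g ∈ T, ⁅x, g⁆ ∈ N := by
  have := hT.isNilpotent
  have := normal_subgroupOf_of_le_normalizer hM
  have := normal_subgroupOf_of_le_normalizer hN
  obtain ⟨x, hx, hxN, h1⟩ := PGroup.exists_central_mod_of_not_le (M := M.subgroupOf T)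
    (N := N.subgroupOf T) fun h1 => h fun x hx => h1 (show (⟨x, hMT hx⟩ : T) ∈ M.subgroupOf T from hx)
  exact ⟨x, hx, hxN, fun g hg => h1 ⟨g, hg⟩⟩

theorem exists_sq_mem {N : Subgroup G} {x : G} {m : ℕ} (hm : x ^ 2 ^ m ∈ N) (hx : x ∉ N) :
    ∃ j : ℕ, x ^ j ∉ N ∧ x ^ j * x ^ j ∈ N := by
  induction m with
  | zero => exact absurd (by simpa using hm) hx
  | succ m ih =>
    by_cases h : x ^ 2 ^ m ∈ N
    · exact ih h
    · exact ⟨_, h, by rwa [← pow_two, ← pow_mul, ← pow_succ]⟩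

theorem inf_norm {A B : Subgroup G} {g : G} (h1 : g ∈ normalizer (A : Set G)) (h2 : g ∈ normalizer (B : Set G)) :
    g ∈ normalizer ((A ⊓ B : Subgroup G) : Set G) :=
  mem_normalizer_iff_cj.2 (by rw [cj_inf, mem_normalizer_iff_cj.1 h1, mem_normalizer_iff_cj.1 h2])

/-- an element that moves `x` by a fixed involution -/
theorem sq_cent {g x i : G} (e : g * x * g⁻¹ = i * x) (h : g * i * g⁻¹ = i) (h2 : i * i = 1) : g ^ 2 ∈ Cx x :=
  mem_Cx'.2 (by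
    calc g ^ 2 * x * (g ^ 2)⁻¹ = g * (g * x * g⁻¹) * g⁻¹ := by rw [pow_two]; group
      _ = x := by rw [e, ← conj_mul, h, e, ← mul_assoc, h2, one_mul])

/-- the hypotheses -/
structure LH (V T H D Γ B : Subgroup G) (a ρ c : G) : Prop where
  hT : IsPGroup 2 T
  hV : V ≤ T
  hn : T ≤ normalizer (V : Set G)
  sq : ∀ v ∈ V, v * v = 1
  hD : D ≤ T
  s : SE D (T ⊓ normalizer (D : Set G)) Γ (H ⊓ normalizer (D : Set G))
  hC : ∀ g ∈ H, (∀ x ∈ D, g * x = x * g) → g ∈ Γ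
  ha : a ∈ V
  ha' : a ∉ D
  han : a ∈ normalizer (D : Set G)
  hρ : ρ ∈ H
  hρn : ρ ∈ normalizer (D : Set G)
  ho : Odd (orderOf ρ)
  hi : a * ρ * a⁻¹ = ρ⁻¹
  hc : c = ρ * a * ρ⁻¹
  hΓ : c ∉ Γ
  hB : B = cj ρ (V ⊓ D)

namespace LH

variable {V T H D Γ B : Subgroup G} {a ρ c x y v b : G} (h : LH V T H D Γ B a ρ c)
include h

theorem inv (hx : x ∈ V) : x⁻¹ = x := inv_eq_of_mul_eq_one_right (h.sq x hx)

theorem comm (hx : x ∈ V) (hy : y ∈ V) : x * y = y * x := by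
  rw [← h.inv (mul_mem hx hy), mul_inv_rev, h.inv hx, h.inv hy]

theorem ex (hx : x ∈ B) : ∃ v ∈ V ⊓ D, x = ρ * v * ρ⁻¹ := ⟨_, mem_cj.1 (h.hB ▸ hx), by group⟩

theorem mem_B (hv : v ∈ V ⊓ D) : ρ * v * ρ⁻¹ ∈ B := h.hB ▸ conj_mem_cj.2 hv

theorem B_le : B ≤ D := fun x hx => by
  obtain ⟨v, hv, rfl⟩ := h.ex hx
  exact conj_mem_of_mem_normalizer h.hρn hv.2

theorem B_sq (hx : x ∈ B) : x * x = 1 := by
  obtain ⟨v, hv, rfl⟩ := h.ex hx
  rw [conj_mul, h.sq v hv.1]; group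

theorem B_comm (hx : x ∈ B) (hy : y ∈ B) : x * y = y * x := by
  obtain ⟨v, hv, rfl⟩ := h.ex hx
  obtain ⟨w, hw, rfl⟩ := h.ex hy
  rw [conj_mul, conj_mul, h.comm hv.1 hw.1]

theorem cB (hx : x ∈ B) : c * x * c⁻¹ = x := by
  obtain ⟨v, hv, rfl⟩ := h.ex hx
  rw [h.hc, conj_mul, h.comm h.ha hv.1]; group

theorem cc : c * c = 1 := by rw [h.hc, conj_mul, h.sq a h.ha]; group

theorem aS : a ∈ T ⊓ normalizer (D : Set G) := ⟨h.hV h.ha, h.han⟩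

theorem cN : c ∈ H ⊓ normalizer (D : Set G) := by
  have : ρ ∈ H ⊓ normalizer (D : Set G) := ⟨h.hρ, h.hρn⟩
  exact h.hc ▸ mul_mem (mul_mem this (h.s.syl.le h.aS)) (inv_mem this)

theorem card_B : Nat.card B = Nat.card (V ⊓ D : Subgroup G) := by rw [h.hB, card_cj]

theorem nVD : D ≤ normalizer ((V ⊓ D : Subgroup G) : Set G) := fun _ hd =>
  inf_norm (h.hn (h.hD hd)) (le_normalizer hd)

theorem nB : D ≤ normalizer (B : Set G) := by
  rw [h.hB, ← cj_normalizer, ← mem_normalizer_iff_cj.1 h.hρn]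
  exact cj_mono _ (by rw [mem_normalizer_iff_cj.1 h.hρn]; exact h.nVD)

theorem nI : D ≤ normalizer ((V ⊓ B : Subgroup G) : Set G) := fun _ hd => inf_norm (h.hn (h.hD hd)) (h.nB hd)

theorem cV (hx : x ∈ T) (hv : v ∈ V) : x * v * x⁻¹ ∈ V := conj_mem_of_mem_normalizer (h.hn hx) hv

theorem cent_of (e : (a * c) ^ 2 ∈ Cx x) : ρ ∈ Cx x := by
  have : a * c = (ρ ^ 2)⁻¹ := by
    calc a * c = a * ρ * a⁻¹ * (a * a) * ρ⁻¹ := by rw [h.hc]; group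
      _ = _ := by rw [h.hi, h.sq a h.ha, pow_two]; group
  rw [this, inv_pow, inv_mem_iff, ← pow_mul] at e
  exact W2.mem_of_coprime_pow (a := 2 * 2) (Nat.Coprime.mul_left (Nat.coprime_two_left.2 h.ho)
    (Nat.coprime_two_left.2 h.ho)) e (by rw [pow_orderOf_eq_one]; exact one_mem _)

theorem cent (hx : x ∈ V) (hx' : x ∈ B) : ρ ∈ Cx x :=
  h.cent_of (pow_mem (mul_mem (mem_Cx.2 (h.comm h.ha hx)) (mem_Cx'.2 (h.cB hx'))) 2)

theorem inj (hx : x ∈ B) (e : a * (x * a * x⁻¹) ∈ B) : x ∈ V := by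
  have h1 : a * (x * a * x⁻¹) ∈ V := mul_mem h.ha (h.cV (h.hD (h.B_le hx)) h.ha)
  have h2 := h.cent_of (sq_cent (g := a * c) (x := x) (i := a * (x * a * x⁻¹)) (by
    calc _ = a * (c * x * c⁻¹) * a⁻¹ := by group
      _ = _ := by rw [h.cB hx, h.inv h.ha]; group) (by
    calc _ = a * (c * (a * (x * a * x⁻¹)) * c⁻¹) * a⁻¹ := by group
      _ = _ := by rw [h.cB e, h.comm h.ha h1, mul_inv_cancel_right]) (h.B_sq e))
  have := mem_cj.1 (h.hB ▸ hx)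
  rw [mul_assoc, ← mem_Cx.1 h2, inv_mul_cancel_left] at this
  exact this.1

theorem not_le : ¬ B ≤ V := fun e => by
  have h1 : B = V ⊓ D := eq_of_le_of_card_ge (le_inf e h.B_le) h.card_B.ge
  have hS := Le1x.S_le h.s h.aS h.ha'
  have h2 : ∀ d ∈ D, a * d * a⁻¹ * d⁻¹ ∈ V ⊓ D := fun d hd =>
    mem_inf.2 ⟨by simpa only [mul_assoc] using mul_mem h.ha (h.cV (h.hD hd) (inv_mem h.ha)),
      mul_mem (conj_mem_of_mem_normalizer h.han hd) (inv_mem hd)⟩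
  have h3 : ρ ∈ Γ := h.hC ρ h.hρ fun d hd => mem_Cx.1 (h.cent_of (by
    have k1 : c * d * c⁻¹ * d⁻¹ ∈ B := by
      convert h.mem_B (h2 _ (conj_mem_of_mem_normalizer' h.hρn hd)) using 1
      rw [h.hc]; group
    have k2 : c * d * c⁻¹ * d⁻¹ * (a * d * a⁻¹ * d⁻¹) ∈ B := mul_mem k1 (h1 ▸ h2 d hd)
    refine sq_cent ?_ ?_ (h.B_sq k2)
    · calc _ = a * (c * d * c⁻¹ * d⁻¹) * d * a⁻¹ := by group
        _ = _ := by rw [h.comm h.ha (e k1)]; group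
    · generalize c * d * c⁻¹ * d⁻¹ * (a * d * a⁻¹ * d⁻¹) = i at k2
      calc _ = a * (c * i * c⁻¹) * a⁻¹ := by group
        _ = _ := by rw [h.cB k2, h.comm h.ha (e k2), mul_inv_cancel_right]))
  exact h.hΓ (h.hc ▸ mul_mem (mul_mem h3 (hS h.aS)) (inv_mem h3))

theorem σσ : ρ * a * (ρ * a) = 1 := by
  calc _ = ρ * (a * ρ * a⁻¹) * (a * a) := by group
    _ = 1 := by rw [h.hi, h.sq a h.ha]; group

theorem σa : ρ * a * a * (ρ * a)⁻¹ = c := by rw [h.hc]; group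

theorem σV (hv : v ∈ V) : ρ * a * v * (ρ * a)⁻¹ = ρ * v * ρ⁻¹ := by
  rw [mul_assoc ρ, h.comm h.ha hv]; group

theorem σB (hx : x ∈ B) : ρ * a * x * (ρ * a)⁻¹ ∈ V ⊓ D := by
  obtain ⟨v, hv, rfl⟩ := h.ex hx
  rwa [← h.σV hv.1, show ρ * a * (ρ * a * v * (ρ * a)⁻¹) * (ρ * a)⁻¹ =
    ρ * a * (ρ * a) * v * (ρ * a * (ρ * a))⁻¹ by group, h.σσ, one_mul, inv_one, mul_one]

theorem σI (hx : x ∈ V ⊓ B) : ρ * a * x * (ρ * a)⁻¹ = x := by rw [h.σV hx.1, mem_Cx'.1 (h.cent hx.1 hx.2)]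

theorem aB (hx : x ∈ B) : a * (x * a * x⁻¹) ∈ V ⊓ D :=
  mem_inf.2 ⟨mul_mem h.ha (h.cV (h.hD (h.B_le hx)) h.ha), by
    have := mul_mem (conj_mem_of_mem_normalizer h.han (h.B_le hx)) (inv_mem (h.B_le hx))
    rw [h.inv h.ha] at this
    simpa only [mul_assoc] using this⟩

theorem exV (hv : v ∈ V ⊓ D) : ∃ x ∈ B, v = ρ * a * x * (ρ * a)⁻¹ :=
  ⟨_, h.mem_B hv, by
    rw [← h.σV hv.1, show ρ * a * (ρ * a * v * (ρ * a)⁻¹) * (ρ * a)⁻¹ =
      ρ * a * (ρ * a) * v * (ρ * a * (ρ * a))⁻¹ by group, h.σσ, one_mul, inv_one, mul_one]⟩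

theorem σc (x : G) : ρ * a * (a * (x * a * x⁻¹)) * (ρ * a)⁻¹ =
    c * (ρ * a * x * (ρ * a)⁻¹ * c * (ρ * a * x * (ρ * a)⁻¹)⁻¹) := by rw [← h.σa]; group

theorem cVD (hv : v ∈ V ⊓ D) : c * (v * c * v⁻¹) ∈ B := by
  obtain ⟨x, hx, rfl⟩ := h.exV hv
  rw [← h.σc, h.σV (h.aB hx).1]
  exact h.mem_B (h.aB hx)

theorem inj' (hv : v ∈ V ⊓ D) (e : c * (v * c * v⁻¹) ∈ V) : v ∈ B := by
  have h1 := h.σB (h.cVD hv)
  have h2 := h.σI ⟨e, h.cVD hv⟩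
  obtain ⟨x, hx, rfl⟩ := h.exV hv
  have h3 : a * (x * a * x⁻¹) ∈ B := by
    have := h.cVD hv
    rwa [← h2, ← h.σc, show ∀ g y : G, g * (g * y * g⁻¹) * g⁻¹ = g * g * y * (g * g)⁻¹ from fun _ _ => by group,
      h.σσ, one_mul, inv_one, mul_one] at this
  rwa [h.σI ⟨h.inj hx h3, hx⟩]

theorem surj (hv : v ∈ V ⊓ D) : ∃ x ∈ B, (a * (x * a * x⁻¹))⁻¹ * v ∈ V ⊓ B :=
  Le1x.surj_mod inf_le_right (inf_le_inf_left V h.B_le) h.card_B.ge (fun _ => h.aB) (fun x hx y hy e => by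
    have hw := mul_mem (inv_mem hx) hy
    refine ⟨h.inj hw ?_, hw⟩
    convert conj_mem_of_mem_normalizer' (le_normalizer hx) e.2 using 1
    rw [mul_inv_rev a, conj_inv, h.inv h.ha]
    calc _ = x⁻¹ * (x * a * x⁻¹ * (a * a) * (y * a * y⁻¹)) * x := by rw [h.sq a h.ha]; group
      _ = _ := by group) hv

theorem surj' (hb : b ∈ B) : ∃ v ∈ V ⊓ D, ∃ i ∈ V ⊓ B, b = c * (v * c * v⁻¹) * i := by
  obtain ⟨x, hx, e⟩ := h.surj (h.σB hb)
  refine ⟨_, h.σB hx, _, e, ?_⟩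
  rw [← h.σI e, ← h.σc, conj_mul, mul_inv_cancel_left,
    show ∀ g y : G, g * (g * y * g⁻¹) * g⁻¹ = g * g * y * (g * g)⁻¹ from fun _ _ => by group,
    h.σσ, one_mul, inv_one, mul_one]

theorem key {a' : G} (h1 : a' ∈ V) (h2 : a' ∈ normalizer (D : Set G)) (h3 : a' ∉ D) (hb : b ∈ B)
    (e : a' * (b * a' * b⁻¹) ∈ B) : b ∈ V := by
  obtain ⟨n, ⟨m, rfl⟩, hn⟩ := h.s.odd (x := a') ⟨h.hV h1, h2⟩ h3 (h.sq _ h1 ▸ one_mem _) h.cN h.hΓ
    (h.cc ▸ one_mem _)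
  obtain ⟨v, hv, i, hi, rfl⟩ := h.surj' hb
  have hb' := h.cVD hv
  have c' := inv_eq_of_mul_eq_one_right h.cc
  have e1 : c * v * c⁻¹ = c * (v * c * v⁻¹) * v := by rw [c']; group
  refine mul_mem ?_ hi.1
  generalize c * (v * c * v⁻¹) = b at hb' e1 e
  have e2 : a' * (b * a' * b⁻¹) ∈ B := by
    rwa [mul_assoc b, h.comm hi.1 h1, show b * (a' * i) * (b * i)⁻¹ = b * a' * b⁻¹ by group] at e
  have e3 : a' * (b * a' * b⁻¹) ∈ V := mul_mem h1 (h.cV (h.hD (h.B_le hb')) h1)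
  have e4 : a' * b * a'⁻¹ = a' * (b * a' * b⁻¹) * b := by rw [h.inv h1]; group
  generalize a' * (b * a' * b⁻¹) = j at e2 e3 e4
  have f1 : a' * c * v * (a' * c)⁻¹ = j * b * v := by
    calc _ = a' * (c * v * c⁻¹) * a'⁻¹ := by group
      _ = a' * b * a'⁻¹ * (a' * v * a'⁻¹) := by rw [e1]; group
      _ = _ := by rw [e4, h.comm h1 hv.1, mul_inv_cancel_right]
  have f2 : a' * c * b * (a' * c)⁻¹ = j * b := by
    calc _ = a' * (c * b * c⁻¹) * a'⁻¹ := by group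
      _ = _ := by rw [h.cB hb', e4]
  have f3 : a' * c * j * (a' * c)⁻¹ = j := by
    calc _ = a' * (c * j * c⁻¹) * a'⁻¹ := by group
      _ = _ := by rw [h.cB e2, h.comm h1 e3, mul_inv_cancel_right]
  generalize a' * c = u at hn f1 f2 f3
  have f4 : (u ^ 2) ^ 2 ∈ Cx v := sq_cent (i := j) (by
    calc _ = u * (u * v * u⁻¹) * u⁻¹ := by rw [pow_two]; group
      _ = j * (j * b * (j * b)) * v := by rw [f1, ← conj_mul, ← conj_mul, f1, f2, f3]; group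
      _ = _ := by rw [h.B_sq (mul_mem e2 hb'), mul_one])
    (mem_Cx'.1 (pow_mem (mem_Cx'.2 f3) 2)) (h.B_sq e2)
  have f5 := conj_mem_of_mem_normalizer (h.nVD (pow_mem hn (2 * m + 1))) hv
  rw [← pow_mul, show (2 * m + 1) * (2 * m + 1) = 2 * (2 * (m * m + m)) + 1 by ring, pow_succ', pow_mul, pow_mul,
    show ∀ w : G, u * w * v * (u * w)⁻¹ = u * (w * v * w⁻¹) * u⁻¹ from fun _ => by group,
    mem_Cx'.1 (pow_mem f4 _), f1] at f5
  simpa [mul_assoc] using mul_mem (mul_mem (inv_mem e3) f5.1) (inv_mem hv.1)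

theorem D_eq : D = T ⊓ normalizer (B : Set G) := by
  by_contra hne
  obtain ⟨t₀, k1, k2, k3⟩ := exists_mem_normalizer_of_lt (h.hT.to_le inf_le_left)
    (lt_of_le_of_ne (le_inf h.hD h.nB) hne)
  obtain ⟨l, hl⟩ := isPGroup_iff_mem.1 h.hT _ k1.1
  obtain ⟨j, k4, k5⟩ := exists_sq_mem (m := l) (hl ▸ one_mem _) k2
  replace k1 := mem_inf.1 (pow_mem k1 j)
  replace k3 := pow_mem k3 j
  generalize t₀ ^ j = t at k1 k3 k4 k5
  obtain ⟨n, hn, k6⟩ := h.s.odd (x := t) ⟨k1.1, k3⟩ k4 k5 h.cN h.hΓ (h.cc ▸ one_mem _)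
  have c' := inv_eq_of_mul_eq_one_right h.cc
  have tn := inf_norm (h.hn k1.1) k3
  have cn := h.cN.2
  have f1 : ∀ x ∈ B, t * c * t⁻¹ * x * (t * c * t⁻¹)⁻¹ = x := fun x hx => by
    calc _ = t * (c * (t⁻¹ * x * t) * c⁻¹) * t⁻¹ := by group
      _ = _ := by rw [h.cB (conj_mem_of_mem_normalizer' k1.2 hx)]; group
  have f2 : (t * c * t⁻¹ * c) ^ 2 ∈ normalizer ((V ⊓ D : Subgroup G) : Set G) :=
    centralizer_le_normalizer _ (mem_centralizer_iff.2 fun v hv => (mem_Cx.1 (by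
      have g1 := h.cVD hv
      have g2 := conj_mem_of_mem_normalizer k1.2 (h.cVD (conj_mem_of_mem_normalizer' tn hv))
      have g3 := mul_mem g1 g2
      refine sq_cent ?_ ?_ (h.B_sq g3)
      · calc _ = t * c * t⁻¹ * (c * (v * c⁻¹ * v⁻¹)) * (t * c * t⁻¹)⁻¹ * (t * c * t⁻¹ * v * t * c⁻¹ * t⁻¹) := by
              group
          _ = _ := by rw [c', f1 _ g1]; group
      · generalize c * (v * c * v⁻¹) * _ = i at g3
        calc _ = t * c * t⁻¹ * (c * i * c⁻¹) * (t * c * t⁻¹)⁻¹ := by group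
          _ = _ := by rw [h.cB g3, f1 _ g3])).symm)
  have f3 : (t * c) ^ 4 ∈ normalizer ((V ⊓ D : Subgroup G) : Set G) := by
    have g1 := conj_mem_of_mem_normalizer' cn k5
    have g2 := conj_mem_of_mem_normalizer' (mul_mem (mul_mem (mul_mem k3 cn) (inv_mem k3)) cn) g1
    convert mul_mem (mul_mem f2 (h.nVD g2)) (h.nVD g1) using 1
    simp only [pow_succ, pow_zero]; group
  have f4 := W2.mem_of_coprime_pow (a := 4) (Nat.Coprime.pow_left 2 (Nat.coprime_two_left.2 hn)) f3 (h.nVD k6)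
  rw [mul_mem_cancel_left tn] at f4
  refine h.not_le ((eq_of_le_of_card_ge (fun v hv => h.inj' hv ?_) h.card_B.le).ge.trans inf_le_left)
  have := V.mul_mem (conj_mem_of_mem_normalizer f4 hv).1 (V.inv_mem hv.1)
  rw [c'] at this
  simpa only [mul_assoc] using this

theorem cfg : ∃ b, Cfg V T H D B a ρ b := by
  obtain ⟨b, hb, hb', hc⟩ := central_mod (h.hT.to_le h.hD) h.B_le h.nB h.nI fun e => h.not_le (e.trans inf_le_left)
  have bV : b ∉ V := fun e => hb' ⟨e, hb⟩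
  have bT := h.hD (h.B_le hb)
  refine ⟨b, h.hD, h.ha, h.ha', h.han, h.hρ, h.hρn, fun x hx hx' => mem_Cx.1 (h.cent hx hx'), h.hB, h.D_eq, hb, bV,
    fun v hv => ⟨fun e => ?_, fun e => ?_⟩, fun x => h.inj⟩
  · have := mul_mem (conj_mem_of_mem_normalizer (h.nB e) hb) (inv_mem hb)
    rw [h.inv hv] at this
    simpa only [mul_assoc] using this
  let U : Subgroup G :=
    { carrier := {v | v ∈ V ∧ v * (b * v * b⁻¹) ∈ B}
      one_mem' := ⟨one_mem _, by simp⟩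
      mul_mem' := fun {x y} hx hy => ⟨mul_mem hx.1 hy.1, by
        convert mul_mem hx.2 hy.2 using 1
        rw [← conj_mul, mul_assoc, mul_assoc x, ← mul_assoc y, h.comm hy.1 (h.cV bT hx.1), mul_assoc]⟩
      inv_mem' := fun {x} hx => by rwa [h.inv hx.1] }
  have hU : D ≤ normalizer (U : Set G) := fun d hd => mem_normalizer_of_forall fun x hx =>
    ⟨h.cV (h.hD hd) hx.1, by
      have k := hc _ (inv_mem hd)
      have k1 := h.comm (h.cV (inv_mem bT) k.1) hx.1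
      convert conj_mem_of_mem_normalizer (h.nB hd) hx.2 using 1
      calc _ = d * (x * (b * ((b⁻¹ * ⁅b, d⁻¹⁆ * b⁻¹⁻¹)⁻¹ * (x * (b⁻¹ * ⁅b, d⁻¹⁆ * b⁻¹⁻¹))) * b⁻¹)) * d⁻¹ := by
            simp only [commutatorElement_def]; group
        _ = _ := by rw [← k1]; group⟩
  by_contra hv'
  have hlt : D < U ⊔ D := lt_of_le_of_ne le_sup_right fun k => hv' (k.ge (mem_sup_left (⟨hv, e⟩ : v ∈ U)))
  obtain ⟨y, k1, k2, k3⟩ := exists_mem_normalizer_of_lt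
    (h.hT.to_le (sup_le (fun x (hx : x ∈ U) => h.hV hx.1) h.hD)) hlt
  obtain ⟨u, hu, d, hd, rfl⟩ := (Coprime.mem_sup_iff_of_le_normalizer hU).1 k1
  rw [mul_mem_cancel_right (le_normalizer hd)] at k3
  exact bV (h.key hu.1 k3 (fun k => k2 (mul_mem k hd)) hb hu.2)

end LH

end Le2x

theorem exists_cfg {V T H D Γ : Subgroup G} (hT : IsPGroup 2 T) (hV : V ≤ T) (hn : T ≤ normalizer (V : Set G))
    (sq : ∀ v ∈ V, v * v = 1) (hD : D ≤ T)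
    (s : SE D (T ⊓ normalizer (D : Set G)) Γ (H ⊓ normalizer (D : Set G)))
    (hC : ∀ g ∈ H, (∀ x ∈ D, g * x = x * g) → g ∈ Γ) {a ρ : G} (ha : a ∈ V) (ha' : a ∉ D)
    (han : a ∈ normalizer (D : Set G)) (hρ : ρ ∈ H) (hρn : ρ ∈ normalizer (D : Set G)) (ho : Odd (orderOf ρ))
    (hi : a * ρ * a⁻¹ = ρ⁻¹) (hΓ : ρ * a * ρ⁻¹ ∉ Γ) : ∃ b, Cfg V T H D (cj ρ (V ⊓ D)) a ρ b :=
  Le2x.LH.cfg ⟨hT, hV, hn, sq, hD, s, hC, ha, ha', han, hρ, hρn, ho, hi, rfl, hΓ, rfl⟩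

end CfsgLib.M24R
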