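import Mathlib
import Cfsg.Agent.Lib.M24R.Defs
import Cfsg.Agent.Lib.Gold.All

/-!
# strongly closed extraspecial groups (plans/M24R.md)
-/

set_option autoImplicit false
set_option maxHeartbeats 400000
set_option Elab.async false

namespace CfsgLib.M24R

open Subgroup Cfsg CfsgLib.Tech CfsgLib.J4T CfsgLib.J4T.Rec CfsgLib.Golay CfsgLib.M24E CfsgLib.WD.Km
open CfsgLib.ExtraTwo CfsgLib.LargeExtra
open scoped Pointwise

namespace Goldx

variable {H : Type*} [Group H] {Q V : Subgroup H} {z : H}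

theorem comm_mul (es : ES Q z) {x y c : H} (hx : x ∈ Q) (hy : y ∈ Q) (hc : c ∈ Q)
    (h : x * c = c * x ↔ y * c = c * y) : x * y * c = c * (x * y) := by
  by_cases h1 : x * c = c * x
  · rw [mul_assoc, h.1 h1, ← mul_assoc, h1, mul_assoc]
  · exact es.mul_comm_of_not_comm hc hx hy h1 (mt h.2 h1)

theorem core (es : ES Q z) (hz : ∀ h, h * z = z * h) {U C : Subgroup H} (hU : U ≤ Q) (hC : C ≤ Q) (zU : z ∈ U)
    (sup : ∀ q ∈ Q, ∃ c ∈ C, ∃ u ∈ U, q = c * u) (perp : ∀ u ∈ U, ∀ c ∈ C, u * c = c * u)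
    (ne : ∃ u ∈ U, ¬ (u = 1 ∨ u = z))
    (tr : ∀ u ∈ U, ¬ (u = 1 ∨ u = z) → ∀ w ∈ U, ¬ (w = 1 ∨ w = z) → u * u = 1 → w * w = 1)
    (hV : V ≤ normalizer (Q : Set H)) (sq : ∀ v ∈ V, v * v = 1) (hw : ∀ v ∈ V, ∀ q ∈ Q, v * q * v⁻¹ * q⁻¹ ∈ V)
    (big : ∀ q ∈ Q, q * q = z → ∃ v₁ ∈ V, ∃ v₂ ∈ V, ∀ v ∈ [v₁, v₂, v₁ * v₂], v * q * v⁻¹ ≠ q ∧ v * q * v⁻¹ ≠ q * z)
    (dich : ∀ v ∈ V, v ∈ normalizer (C : Set H) ∨ ∀ u ∈ U, v * u * v⁻¹ ∈ C) : False := by
  have rad : ∀ x ∈ Q, (∀ c ∈ C, c * x = x * c) → (∀ u ∈ U, u * x = x * u) → x = 1 ∨ x = z := fun x hx h1 h2 =>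
    es.center x hx fun q hq => by
      obtain ⟨c, hc, u, hu, rfl⟩ := sup q hq
      rw [mul_assoc, h2 u hu, ← mul_assoc, h1 c hc, mul_assoc]
  have sqz : ∀ u ∈ U, ¬ (u = 1 ∨ u = z) → u * u = z := fun u hu h => (es.sq (hU hu)).resolve_left fun e => by
    have h1 : ∀ w ∈ U, w * w = 1 := fun w hw => by
      by_cases h2 : w = 1 ∨ w = z
      · rcases h2 with rfl | rfl
        exacts [one_mul _, es.mul_self]
      · exact tr u hu h w hw h2 e
    exact h (rad u (hU hu) (fun c hc => (perp u hu c hc).symm) fun w hw => Gold.mul_comm_of_elem h1 hw hu)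
  obtain ⟨u, hu, h0⟩ := ne
  obtain ⟨v₁, h1, v₂, h2, h3⟩ := big u (hU hu) (sqz u hu h0)
  have key : ∀ v ∈ V, (v * u * v⁻¹ ≠ u ∧ v * u * v⁻¹ ≠ u * z) → v * u * v⁻¹ ∈ C := fun v hv h => by
    refine (dich v hv).elim (fun hn => ?_) fun hn => hn u hu
    obtain ⟨c, hc, w, hw', e⟩ := sup _ (conj_mem_of_mem_normalizer (hV hv) (hU hu))
    have h4 : c = 1 ∨ c = z := rad c (hC hc) (fun d hd => by
      have h5 := perp u hu _ (conj_mem_of_mem_normalizer' hn hd)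
      have h6 : d * (v * u * v⁻¹) = v * u * v⁻¹ * d := by
        calc d * (v * u * v⁻¹) = v * (v⁻¹ * d * v * u) * v⁻¹ := by group
          _ = _ := by rw [← h5]; group
      rw [e, mul_assoc c, perp w hw' d hd, ← mul_assoc, ← mul_assoc] at h6
      exact mul_right_cancel h6) fun w hw => perp w hw c hc
    have h5 : v * u * v⁻¹ * u⁻¹ ∈ U := by
      rw [e]
      refine mul_mem (mul_mem ?_ hw') (inv_mem hu)
      rcases h4 with rfl | rfl
      exacts [one_mem _, zU]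
    have h6 : v * u * v⁻¹ * u⁻¹ = 1 ∨ v * u * v⁻¹ * u⁻¹ = z := by
      by_contra h6
      exact es.ne_one ((sqz _ h5 h6).symm.trans (sq _ (hw v hv u (hU hu))))
    rcases h6 with h6 | h6
    · exact absurd (mul_inv_eq_one.1 h6) h.1
    · exact absurd ((mul_inv_eq_iff_eq_mul.1 h6).trans (hz u).symm) h.2
  have a1 := key v₁ h1 (h3 _ (by simp))
  have a2 := key v₂ h2 (h3 _ (by simp))
  have a3 := key _ (mul_mem h1 h2) (h3 _ (by simp))
  have e := Gold.mul_comm_of_elem sq h1 (hw v₂ h2 u (hU hu))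
  have huC : u ∈ C := by
    have e2 : u = v₁ * u * v₁⁻¹ * (v₁ * v₂ * u * (v₁ * v₂)⁻¹)⁻¹ * (v₂ * u * v₂⁻¹) := by
      calc u = (v₁ * (v₂ * u * v₂⁻¹ * u⁻¹))⁻¹ * (v₂ * u * v₂⁻¹ * u⁻¹ * v₁) * u := by rw [e]; group
        _ = _ := by
          have e3 : v₁ * (v₂ * u * v₂⁻¹ * u⁻¹) * v₁⁻¹ = v₂ * u * v₂⁻¹ * u⁻¹ := by rw [e]; group
          calc _ = u := by rw [← e]; group
            _ = (v₂ * u * v₂⁻¹ * u⁻¹)⁻¹ * (v₂ * u * v₂⁻¹) := by group
            _ = (v₁ * (v₂ * u * v₂⁻¹ * u⁻¹) * v₁⁻¹)⁻¹ * (v₂ * u * v₂⁻¹) := by rw [e3]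
            _ = _ := by group
    rw [e2]
    exact mul_mem (mul_mem a1 (inv_mem a3)) a2
  exact h0 (rad u (hU hu) (fun c hc => (perp u hu c hc).symm) fun w hw => perp w hw u huC)

theorem no_ac [Finite H] {K : Type*} [Group K] [Finite K] (f : H →* K) (hf : Function.Surjective f)
    (hk : ∀ x, f x = 1 ↔ x = 1 ∨ x = z) (es : ES Q z) (hz : ∀ h, h * z = z * h)
    (hV : V ≤ normalizer (Q : Set H)) (sq : ∀ v ∈ V, v * v = 1) (hw : ∀ v ∈ V, ∀ q ∈ Q, v * q * v⁻¹ * q⁻¹ ∈ V)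
    (big : ∀ q ∈ Q, q * q = z → ∃ v₁ ∈ V, ∃ v₂ ∈ V, ∀ v ∈ [v₁, v₂, v₁ * v₂], v * q * v⁻¹ ≠ q ∧ v * q * v⁻¹ ≠ q * z)
    (loc : Gold.Loc (Q.map f) ⊤) {L : Subgroup K} (hL : Gold.AC (Q.map f) ⊤ L) : False := by
  have fz : f z = 1 := (hk z).2 (Or.inr rfl)
  have feq : ∀ {x y}, f x = f y → x = y ∨ x = z * y := fun {x y} e =>
    ((hk (x * y⁻¹)).1 (by rw [map_mul, map_inv, e, mul_inv_cancel])).imp mul_inv_eq_one.1 mul_inv_eq_iff_eq_mul.1
  have mA : ∀ {x}, f x ∈ Q.map f → x ∈ Q := by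
    rintro x ⟨y, hy, e⟩
    rcases feq e.symm with rfl | rfl
    exacts [hy, mul_mem es.mem hy]
  have cz : ∀ {x c d}, f d = f c → (x * d = d * x ↔ x * c = c * x) := fun {x c d} e => by
    rcases feq e with rfl | rfl
    · rfl
    · rw [← mul_assoc, hz x, mul_assoc, mul_assoc, mul_right_inj]
  obtain ⟨g, hg, s⟩ := loc.exists_sing hL
  have nQ : ∀ {y}, f y ∈ normalizer ((Q.map f : Subgroup K) : Set K) → ∀ q ∈ Q, y * q * y⁻¹ ∈ Q := fun {y} hy q hq =>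
    mA (by rw [map_mul, map_mul, map_inv]; exact conj_mem_of_mem_normalizer hy (mem_map_of_mem f hq))
  have hC : (Q.map f ⊓ Abel2.cbar L).comap f ≤ Q := fun x hx => mA hx.1
  refine core (U := ⁅Q.map f, zpowers g⁆.comap f) (C := (Q.map f ⊓ Abel2.cbar L).comap f) es hz
    (fun x hx => mA (s.commutator_le hx)) hC (by rw [mem_comap, fz]; exact one_mem _) (fun q hq => ?_) (fun u hu => ?_) ?_
    (fun u hu h1 w hw h2 e => ?_) hV sq hw big fun v hv => ?_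
  · have h1 : f q ∈ ((Q.map f ⊓ Abel2.cbar L ⊔ ⁅Q.map f, zpowers g⁆ : Subgroup K) : Set K) := by
      rw [s.sup_eq loc.two]; exact mem_map_of_mem f hq
    rw [coe_mul_of_right_le_normalizer_left _ _ ((le_centralizer_iff.1 (loc.le_centralizer s.commutator_le)).trans
      ((centralizer_le (SetLike.coe_subset_coe.2 s.le)).trans (centralizer_le_normalizer _)))] at h1
    obtain ⟨c, hc, u, hu, e⟩ := h1
    obtain ⟨c, rfl⟩ := hf c
    refine ⟨c, hc, c⁻¹ * q, ?_, by group⟩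
    rw [mem_comap, map_mul, map_inv, ← e]
    simpa using hu
  · have h1 : ⁅Q.map f, zpowers g⁆ ≤
        (Q ⊓ centralizer (((Q.map f ⊓ Abel2.cbar L).comap f : Subgroup H) : Set H)).map f := by
      refine commutator_le.2 ?_
      rintro _ ⟨q, hq, rfl⟩ y hy
      obtain ⟨y, rfl⟩ := hf y
      have h2 := nQ (s.zpowers_le hy) _ (inv_mem hq)
      refine ⟨q * (y * q⁻¹ * y⁻¹), mem_inf.2 ⟨mul_mem hq h2, fun c hc => (comm_mul es hq h2 (hC hc) ?_).symm⟩,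
        by simp [commutatorElement_def, mul_assoc]⟩
      have h3 : f y * f c = f c * f y := by
        obtain ⟨n, e⟩ := mem_zpowers_iff.1 hy
        rw [← e]
        exact ((show Commute (f c) g from mem_centralizer_singleton_iff.1 (s.le_centralizer hc)).zpow_right n).eq.symm
      rw [← cz (x := y * q⁻¹ * y⁻¹) (d := y * c * y⁻¹) (by rw [map_mul, map_mul, h3, map_inv, mul_inv_cancel_right])]
      refine ⟨fun e => ?_, fun e => ?_⟩
      · have e' : q⁻¹ * c = c * q⁻¹ := (show Commute q c from e).inv_left.eq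
        calc _ = y * (q⁻¹ * c) * y⁻¹ := by group
          _ = _ := by rw [e']; group
      · have e' : q⁻¹ * c = c * q⁻¹ := by
          calc _ = y⁻¹ * (y * q⁻¹ * y⁻¹ * (y * c * y⁻¹)) * y := by group
            _ = _ := by rw [e]; group
        simpa using (show Commute q⁻¹ c from e').inv_left.eq
    obtain ⟨w, hw, e⟩ := h1 hu
    exact fun c hc => ((cz e).1 (hw.2 c hc)).symm
  · have h1 := s.four_le loc.two loc.comm
    obtain ⟨⟨u, hu⟩, h2⟩ := ne_bot_iff_exists_ne_one.1 (show ⁅Q.map f, zpowers g⁆ ≠ ⊥ from fun e => by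
      rw [e, card_bot] at h1; omega)
    obtain ⟨u, rfl⟩ := hf u
    exact ⟨u, hu, fun e => h2 (Subtype.ext ((hk u).2 e))⟩
  · obtain ⟨n, e'⟩ := s.trans _ hu (mt (hk u).1 h1) _ hw (mt (hk w).1 h2)
    obtain ⟨y, hy⟩ := hf (g ^ n)
    have e2 : y * u * y⁻¹ * (y * u * y⁻¹) = 1 := by
      calc _ = y * (u * u) * y⁻¹ := by group
        _ = 1 := by rw [e]; group
    rcases feq (x := w) (y := y * u * y⁻¹) (by rw [map_mul, map_mul, map_inv, hy, e']) with rfl | rfl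
    · exact e2
    · rw [mul_assoc, ← mul_assoc _ z, hz, mul_assoc z, e2, mul_one, es.mul_self]
  · have hA : f v ∈ normalizer ((Q.map f : Subgroup K) : Set K) := mem_normalizer_of_forall (by
      rintro _ ⟨q, hq, rfl⟩
      exact ⟨_, conj_mem_of_mem_normalizer (hV hv) hq, by simp⟩)
    by_cases h : cj (f v) L = L
    · refine Or.inl (mem_normalizer_of_forall fun c hc => ?_)
      rw [mem_comap, map_mul, map_mul, map_inv]
      exact mem_inf.2 ⟨conj_mem_of_mem_normalizer hA hc.1, conj_mem_of_mem_normalizer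
        (Abel2.normalizer_le_normalizer_cbar L (mem_normalizer_iff_cj.2 h)) hc.2⟩
    · refine Or.inr fun u hu => ?_
      have h1 := Gold.tc_cj hL.tc (f v)
      rw [cj_top] at h1
      rw [mem_comap, map_mul, map_mul, map_inv]
      exact mem_inf.2 ⟨conj_mem_of_mem_normalizer hA (s.commutator_le hu),
        Gold.tc_le_cbar_of_ne hL.tc h1 (Ne.symm h) (conj_mem_cj.2 (loc.commutator_le_of_mem hL hg hu))⟩

end Goldx


theorem gold {H : Type*} [Group H] [Finite H] {Q V T : Subgroup H} {z : H} (es : ES Q z) (hz : ∀ h, h * z = z * h)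
    (hT : IsSylowIn 2 T ⊤) (hQ : Q ≤ T) (sc : ∀ h, ∀ x ∈ Q, h * x * h⁻¹ ∈ T → h * x * h⁻¹ ∈ Q)
    (hO : pPrimeCore 2 H = ⊥) (hV : V ≤ normalizer (Q : Set H)) (sq : ∀ v ∈ V, v * v = 1)
    (hw : ∀ v ∈ V, ∀ q ∈ Q, v * q * v⁻¹ * q⁻¹ ∈ V)
    (big : ∀ q ∈ Q, q * q = z → ∃ v₁ ∈ V, ∃ v₂ ∈ V, ∀ v ∈ [v₁, v₂, v₁ * v₂], v * q * v⁻¹ ≠ q ∧ v * q * v⁻¹ ≠ q * z) :
    Q.Normal := by
  have hc : zpowers z ≤ center H := zpowers_le.2 (mem_center_iff.2 hz)
  have : (zpowers z).Normal := ⟨fun n hn g => by rwa [mem_center_iff.1 (hc hn) g, mul_inv_cancel_right]⟩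
  let f := QuotientGroup.mk' (zpowers z)
  have hf : Function.Surjective f := QuotientGroup.mk'_surjective _
  have hk : ∀ x, f x = 1 ↔ x = 1 ∨ x = z := fun x => (QuotientGroup.eq_one_iff x).trans es.mem_zpowers
  have h1 := (Gold.sc_of_isSylowIn hT hQ fun a ha g _ => sc g a ha).map f
  rw [map_top_of_surjective f hf] at h1
  have loc := Gold.loc_of_sc Gold.inputs h1 (Gold.comm_of_elem (by
    rintro _ ⟨q, hq, rfl⟩
    rw [← map_mul]
    exact (hk _).2 (es.sq hq)))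
  have h2 : pPrimeCore 2 (H ⧸ zpowers z) = ⊥ := by
    have h3 := W2.comap_pPrimeCore_le_of_central (p := 2) f (by rwa [QuotientGroup.ker_mk'])
    rw [hO, bot_sup_eq] at h3
    refine eq_bot_iff.2 fun x hx => ?_
    obtain ⟨x, rfl⟩ := hf x
    exact h3 hx
  have h3 := loc.le_of_forall (H := normalizer ((Q.map f : Subgroup _) : Set _))
    (by rw [PComp.opOf_top, h2]; exact bot_le) inf_le_right
    fun L hL => (Goldx.no_ac f hf hk es hz hV sq hw big loc hL).elim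
  refine ⟨fun x hx g => ?_⟩
  obtain ⟨y, hy, e⟩ := conj_mem_of_mem_normalizer (h3 (mem_top (f g))) (mem_map_of_mem f hx)
  have h4 := (hk (g * x * g⁻¹ * y⁻¹)).1 (by rw [map_mul, map_mul, map_mul, map_inv, map_inv, e, mul_inv_cancel])
  rcases h4 with h4 | h4
  · rwa [mul_inv_eq_one.1 h4]
  · rw [mul_inv_eq_iff_eq_mul.1 h4]
    exact mul_mem es.mem hy

end CfsgLib.M24R
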