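import Mathlib
import Cfsg.Agent.Lib.M24R.Defs

/-!
# counting elementary abelian subgroups of `S` by masks (plans/M24R.md)
-/

set_option autoImplicit false
set_option Elab.async false

namespace CfsgLib.M24R

open Subgroup Cfsg CfsgLib.Tech CfsgLib.J4T CfsgLib.J4T.Rec CfsgLib.Golay CfsgLib.M24E CfsgLib.WD.Km
open scoped Pointwise

variable {k : Bool} {Y F : Subgroup M24} {m : ℕ}

theorem ncard_cnt (n : ℕ) (f : ℕ → Bool) : {j | j < n ∧ f j = true}.ncard = cntLT n f := by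
  rw [cntLT_eq_card, ← Set.ncard_coe_finset]
  congr 1; ext j; simp

theorem ncard_le_cnt {n : ℕ} {P : ℕ → Prop} {f : ℕ → Bool} (h : ∀ j < n, P j → f j = true) :
    {j | j < n ∧ P j}.ncard ≤ cntLT n f := by
  rw [← ncard_cnt]
  exact Set.ncard_le_ncard (fun j hj => ⟨hj.1, h j hj.1 hj.2⟩) ((Set.finite_lt_nat n).subset fun _ h => h.1)

theorem comm_sq {L : Type*} [Group L] {X : Subgroup L} (sq : ∀ x ∈ X, x * x = 1) {x y : L} (hx : x ∈ X) (hy : y ∈ X) :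
    x * y = y * x := by
  have e := inv_eq_of_mul_eq_one_right (sq _ (mul_mem hx hy))
  rw [mul_inv_rev, inv_eq_of_mul_eq_one_right (sq _ hx), inv_eq_of_mul_eq_one_right (sq _ hy)] at e
  exact e.symm

theorem tb_cI (sq : ∀ y ∈ Y, y * y = 1) {i j : ℕ} (hi : i < 192) (hj : j < 192) (h1 : ie i ∈ Y) (h2 : ie j ∈ Y) :
    tb (cI i) j = true := (ie_comm_iff hi hj).1 (comm_sq sq h1 h2)

theorem card_le_cnt (hY : Y ≤ S) (sq : ∀ y ∈ Y, y * y = 1) {f : ℕ → Bool} (h : ∀ j < 192, ie j ∈ Y → f j = true) :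
    Nat.card Y ≤ cntLT 192 f := by
  rw [card_eq_ncard hY sq]; exact ncard_le_cnt h

theorem IM.card (h : IM m Y) (hY : Y ≤ S) (sq : ∀ y ∈ Y, y * y = 1) : Nat.card Y = cntLT 192 (tb m) := by
  rw [card_eq_ncard hY sq, ← ncard_cnt]
  congr 1; ext j; exact and_congr_right (h j)

theorem im_of_le (hY : Y ≤ S) (sq : ∀ y ∈ Y, y * y = 1) (h : ∀ j < 192, ie j ∈ Y → tb m j = true)
    (hc : cntLT 192 (tb m) ≤ Nat.card Y) : IM m Y := fun j hj => ⟨h j hj, fun e => by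
  rw [card_eq_ncard hY sq, ← ncard_cnt] at hc
  exact ((Set.eq_of_subset_of_ncard_le (fun j hj => And.intro hj.1 (h j hj.1 hj.2)) hc
    ((Set.finite_lt_nat 192).subset fun _ h => h.1)).ge ⟨hj, e⟩).2⟩

theorem IM.ge (h : IM m F) (hY : Y ≤ S) (sq : ∀ y ∈ Y, y * y = 1) (h' : ∀ j < 192, ie j ∈ Y → tb m j = true) :
    Y ≤ F := fun y hy => by
  obtain ⟨j, hj, rfl⟩ := exists_ie (hY hy) (sq y hy)
  exact (h j hj).2 (h' j hj hy)

theorem card_dvd_S (hY : Y ≤ S) : Nat.card Y ∣ 2 ^ 10 := by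
  have := card_dvd_of_le hY
  rwa [card_S] at this

theorem card_pow_S (hY : Y ≤ S) : ∃ i ≤ 10, Nat.card Y = 2 ^ i := (Nat.dvd_prime_pow Nat.prime_two).1 (card_dvd_S hY)

theorem card_eq_of_pow (hY : Y ≤ S) {i : ℕ} (h1 : 2 ^ i ≤ Nat.card Y) (h2 : Nat.card Y < 2 ^ (i + 1)) :
    Nat.card Y = 2 ^ i := by
  obtain ⟨j, -, e⟩ := card_pow_S hY
  rw [e] at h1 h2 ⊢
  rw [pow_le_pow_iff_right₀ (by norm_num)] at h1
  rw [pow_lt_pow_iff_right₀ (by norm_num)] at h2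
  rw [show j = i by omega]

/-- the mask of a decidable set of numbers -/
noncomputable def mkB (n : ℕ) (f : ℕ → Bool) : ℕ :=
  Nat.rec 0 (fun h ih => Bool.rec ih (Nat.lor (Nat.shiftLeft 1 h) ih) (f h)) n

theorem tb_mkB {n : ℕ} {f : ℕ → Bool} {j : ℕ} : tb (mkB n f) j = true ↔ j < n ∧ f j = true := by
  induction n with
  | zero => simp [mkB, tb_eq]
  | succ n ih =>
    have e : mkB (n + 1) f = Bool.rec (mkB n f) ((1 <<< n) ||| mkB n f) (f n) := rfl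
    rw [e, Nat.lt_succ_iff_lt_or_eq]
    cases h : f n
    · exact ih.trans ⟨fun h => ⟨.inl h.1, h.2⟩, fun ⟨h1, h2⟩ => ⟨h1.resolve_right fun e => by simp [e, h] at h2, h2⟩⟩
    · show tb ((1 <<< n) ||| mkB n f) j = true ↔ _
      rw [tb_eq, Nat.testBit_or, Bool.or_eq_true, ← tb_eq (mkB n f), ih, Nat.one_shiftLeft, Nat.testBit_two_pow,
        decide_eq_true_eq]
      exact ⟨fun h1 => h1.elim (fun e => ⟨.inr e.symm, e ▸ h⟩) fun h1 => ⟨.inl h1.1, h1.2⟩,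
        fun ⟨h1, h2⟩ => h1.elim (fun h1 => .inr ⟨h1, h2⟩) fun e => .inl e.symm⟩

theorem tb_land (a b j : ℕ) : tb (Nat.land a b) j = (tb a j && tb b j) := by
  rw [tb_eq, tb_eq, tb_eq]; exact Nat.testBit_and _ _ _

/-- the intersection of the masks `f j` with `p j` -/
noncomputable def andM (n : ℕ) (p : ℕ → Bool) (f : ℕ → ℕ) : ℕ :=
  Nat.rec on (fun j ih => Nat.land (Bool.rec on (f j) (p j)) ih) n

theorem sm_andM {n : ℕ} {p : ℕ → Bool} {f : ℕ → ℕ} {P : ℕ → ℕ → Prop} (h : ∀ j < n, SM (f j) (P j)) :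
    SM (andM n p f) fun v => ∀ j < n, p j = true → P j v :=
  sm_all (f := fun j => Bool.rec on (f j) (p j)) (P := fun j v => p j = true → P j v) fun j hj => by
    cases p j
    · exact sm_on.congr fun _ _ => by simp
    · exact (h j hj).congr fun _ _ => by simp

/-- the vectors fixed by the group with mask `m` -/
noncomputable def fxI (k : Bool) (m : ℕ) : ℕ := andM 192 (tb m) fun j => fxM (iM k j)

theorem IM.fx (h : IM m Y) (hY : Y ≤ S) (sq : ∀ y ∈ Y, y * y = 1) (k : Bool) : SM (fxI k m) (Fx k Y) :=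
  (sm_andM fun j hj => (am_ie k hj).fx).congr fun v _ => ⟨fun h1 y hy => by
    obtain ⟨j, hj, rfl⟩ := exists_ie (hY hy) (sq y hy)
    exact h1 j hj ((h j hj).1 hy), fun h1 j hj e => h1 _ ((h j hj).2 e)⟩

theorem sp_fix (k : Bool) (g : M24) : Sp fun v => ac k g v = v :=
  ⟨ac_zero _ _, fun v hv w hw e1 e2 => by rw [ac_xor k _ hv hw, e1, e2]⟩

theorem Sp.and {P Q : ℕ → Prop} (a : Sp P) (b : Sp Q) : Sp fun v => P v ∧ Q v :=
  ⟨⟨a.zero, b.zero⟩, fun v hv w hw h1 h2 => ⟨a.xor v hv w hw h1.1 h2.1, b.xor v hv w hw h1.2 h2.2⟩⟩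

theorem ac_cm_self {g : M24} (h : g * g = 1) {v : ℕ} (hv : v < 2048) : ac k g (cm k g v) = cm k g v := by
  rw [cm, ac_xor k g hv (ac_lt _ _ _), ← ac_mul k g g hv, h, ac_one k hv, Nat.xor_comm]

/-- the vectors `v` with `[v, g]` fixed by `h` -/
theorem AM.pre_fx {A B : ℕ} {g h : M24} (a : AM k A g) (b : AM k B h) :
    SM (preM (Nat.xor mI B) A) fun v => ac k h (M24R.cm k g v) = M24R.cm k g v :=
  (a.pre _).congr fun v hv => by rw [← b.cm (cm_lt _ _ hv), cm_eq_zero]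

end CfsgLib.M24R
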