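import Mathlib
import Cfsg.Agent.Lib.M24R.Cnt

/-!
# weak closure of `V` (plans/M24R.md)
-/

set_option autoImplicit false
set_option Elab.async false

namespace CfsgLib.M24R

open Subgroup Cfsg CfsgLib.Tech CfsgLib.J4T CfsgLib.J4T.Rec CfsgLib.Golay CfsgLib.M24E CfsgLib.WD.Km
open scoped Pointwise

variable {G : Type*} [Group G] [Finite G] {k : Bool} {m : MV G k}

namespace WCx

theorem check : ∀ k : Bool, allLT 192 (fun j => or (Nat.beq j 15) (frc (fxM (iM k j)) fun X => frc (cI j) fun c =>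
    and (Nat.ble (cnM X) 128) (and
      (Nat.ble (cntLT 192 fun h => and (tb c h) (Nat.blt 64 (cnM (Nat.land X (fxM (iM k h)))))) 2)
      (Nat.ble (cntLT 192 fun h => and (tb c h) (Nat.blt 32 (cnM (Nat.land X (fxM (iM k h)))))) 16)))) = true := by
  decide +kernel

theorem fx_le {Y : Subgroup M24} (hY : Y ≤ S) (sq : ∀ y ∈ Y, y * y = 1) (h : Y ≠ ⊥) :
    Nat.card Y * nc (Fx k Y) ≤ 1024 := by
  obtain ⟨⟨t, ht⟩, h1⟩ := ne_bot_iff_exists_ne_one.1 h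
  obtain ⟨j, hj, rfl⟩ := exists_ie (hY ht) (sq t ht)
  have H := of_allLT (check k) hj
  simp only [Bool.or_eq_true, Bool.and_eq_true, frc_eq, beq_iff', Nat.ble_eq] at H
  obtain ⟨H1, H2, H3⟩ := H.resolve_left fun e => h1 (Subtype.ext ((ie_eq_one hj).2 e))
  have a : ∀ n, n < nc (Fx k Y) → Nat.card Y ≤
      cntLT 192 fun h => and (tb (cI j) h) (Nat.blt n (cnM (Nat.land (fxM (iM k j)) (fxM (iM k h))))) := fun n hn =>
    card_le_cnt hY sq fun i hi hm => by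
      rw [Bool.and_eq_true, Nat.blt_eq, ← ((am_ie k hj).fx.and (am_ie k hi).fx).nc]
      exact ⟨tb_cI sq hj hi ht hm, hn.trans_le (nc_mono fun v _ e => ⟨e _ ht, e _ hm⟩)⟩
  have b : nc (Fx k Y) ≤ 128 := (nc_mono fun v _ e => e _ ht).trans ((am_ie k hj).fx.nc.trans_le H1)
  by_cases c : 2 ^ 6 ≤ Nat.card Y
  · rcases K3.calA Y hY sq c with rfl | rfl
    · rw [(im_E.fx hY sq k).nc, ke.card]; clear * -; revert k; decide +kernel
    · rw [(im_E'.fx hY sq k).nc, ke.card']; clear * -; revert k; decide +kernel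
  by_cases c1 : 64 < nc (Fx k Y)
  · exact (Nat.mul_le_mul ((a _ c1).trans H2) b).trans (by norm_num)
  by_cases c2 : 32 < nc (Fx k Y)
  · exact (Nat.mul_le_mul ((a _ c2).trans H3) (not_lt.1 c1)).trans (by norm_num)
  by_cases c3 : 2 ^ 5 ≤ Nat.card Y
  · rw [card_eq_of_pow hY c3 (not_le.1 c)]; omega
  · exact (Nat.mul_le_mul (not_le.1 c3).le (not_lt.1 c2)).trans (by norm_num)

end WCx

theorem fx_le {t : M24} (ht : t ∈ S) (h2 : t * t = 1) (h1 : t ≠ 1) : (nc fun v => ac k t v = v) ≤ 128 := by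
  obtain ⟨j, hj, rfl⟩ := exists_ie ht h2
  have H := of_allLT (WCx.check k) hj
  simp only [Bool.or_eq_true, Bool.and_eq_true, frc_eq, beq_iff', Nat.ble_eq] at H
  exact (am_ie k hj).fx.nc.trans_le (H.resolve_left fun e => h1 ((ie_eq_one hj).2 e)).1

omit [Finite G] in
theorem MV.bar_sq {A : Subgroup G} (sq : ∀ a ∈ A, a * a ∈ m.V) : ∀ y ∈ m.bar A, y * y = 1 := fun y hy => by
  obtain ⟨x, hx, hx', rfl⟩ := MV.mem_bar.1 hy
  rw [← m.π_mul x hx' x hx', MV.π_V (sq x hx)]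

theorem MV.eq_V {A : Subgroup G} (hA : A ≤ m.T) (sq : ∀ a ∈ A, a * a = 1) (h : 2048 ≤ Nat.card A) : A = m.V := by
  have hM := hA.trans MV.T_le
  by_cases h1 : m.bar A = ⊥
  · refine eq_of_le_of_card_ge (fun x hx => (m.π_eq_one x (hM hx)).1 ?_) (MV.card_V.trans_le h)
    exact mem_bot.1 (h1 ▸ MV.π_mem_bar hM hx)
  have h2 := WCx.fx_le (k := k) ((MV.bar_le_iff hM).2 hA) (MV.bar_sq fun a ha => sq a ha ▸ one_mem _) h1
  have h3 : (nc fun v => m.θ v ∈ A) ≤ nc (Fx k (m.bar A)) := nc_mono fun v hv e y hy => by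
    obtain ⟨x, hx, hx', rfl⟩ := MV.mem_bar.1 hy
    exact (MV.comm_iff hx' hv).1 (comm_sq sq hx e)
  have := (Nat.mul_le_mul_left _ h3).trans h2
  rw [MV.card_eq hM] at h
  omega

omit [Finite G] in
theorem MV.V_two : IsPGroup 2 m.V := MV.T_two.to_le MV.V_le_T

theorem MV.wc {g : G} (h : cj g m.V ≤ m.M) : g ∈ m.M := by
  obtain ⟨x, hx, e⟩ := (MV.syl_M (m := m)).exists_cj_le (isPGroup_cj g MV.V_two) h
  rw [← cj_mul] at e
  have := mem_normalizer_iff_cj.2 (MV.eq_V e (fun a ha => by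
    have := MV.V_sq (mem_cj.1 ha)
    calc a * a = x * g * ((x * g)⁻¹ * a * (x * g) * ((x * g)⁻¹ * a * (x * g))) * (x * g)⁻¹ := by group
      _ = 1 := by rw [this]; group) (by rw [card_cj, MV.card_V]))
  simpa using mul_mem (inv_mem hx) this

theorem MV.norm_T : normalizer (m.T : Set G) ≤ m.M := fun _ hg =>
  MV.wc (((cj_mono _ MV.V_le_T).trans (mem_normalizer_iff_cj.1 hg).le).trans MV.T_le)

theorem MV.syl (m : MV G k) : IsSylowIn 2 m.T ⊤ :=
  isSylowIn_of_isSylowIn_normalizer le_top (MV.syl_M.of_le (le_inf le_top le_normalizer) (inf_le_right.trans MV.norm_T))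

theorem MV.two_le {P : Subgroup G} (hP : IsPGroup 2 P) (h : m.V ≤ P) : P ≤ m.M := by
  obtain ⟨y, -, e⟩ := m.syl.exists_cj_le hP le_top
  have hy := MV.wc (((cj_mono y h).trans e).trans MV.T_le)
  intro x hx
  simpa [mul_assoc] using mul_mem (mul_mem (inv_mem hy) (MV.T_le (cj_le_iff.1 e x hx))) hy

theorem MV.fus {v w : ℕ} (hv : v < 2048) (hw : w < 2048) (h : IsConj (m.θ v) (m.θ w)) : ∃ g : M24, ac k g v = w := by
  obtain ⟨g, e⟩ := isConj_iff.1 h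
  have h1 : ∀ {u}, u < 2048 → m.V ≤ centralizer {m.θ u} := fun hu x hx =>
    mem_centralizer_singleton_iff.2 (MV.V_comm hx (MV.θ_mem hu))
  obtain ⟨P, hP, h2⟩ := exists_isSylowIn_ge MV.V_two (h1 hw)
  obtain ⟨c, hc, h3⟩ := hP.exists_cj_le (isPGroup_cj g MV.V_two)
    ((cj_mono g (h1 hv)).trans (by rw [cj_centralizer_singleton, e]))
  rw [← cj_mul] at h3
  have h4 := MV.wc (h3.trans (MV.two_le hP.pgroup h2))
  refine ⟨m.π (c * g), (MV.θ_eq_iff (m := m) (ac_lt _ _ _) hw).1 ?_⟩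
  rw [← m.conj _ h4 v hv, show c * g * m.θ v * (c * g)⁻¹ = c * (g * m.θ v * g⁻¹) * c⁻¹ by group, e,
    mem_centralizer_singleton_iff.1 hc, mul_inv_cancel_right]

theorem MV.isConj_z {v : ℕ} (hv : v < 2048) : IsConj m.z (m.θ v) ↔ tz k v = true := by
  rw [tz_iff hv]
  refine ⟨MV.fus (zv_lt k) hv, fun ⟨g, e⟩ => ?_⟩
  obtain ⟨x, hx, rfl⟩ := m.π_surj g
  exact isConj_iff.2 ⟨x, by rw [← e]; exact m.conj x hx _ (zv_lt k)⟩

theorem MV.cen_T {x : G} (hx : x ∈ m.T) (h : ∀ t ∈ m.T, t * x = x * t) : x = 1 ∨ x = m.z := by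
  obtain ⟨v, hv, rfl⟩ := (m.mem_V x).1 (MV.cent_V fun v hv => (h v (MV.V_le_T hv)).symm)
  refine (fx_Xk (k := k) hv fun g hg => ?_).imp (MV.θ_eq_one hv).2 (MV.θ_eq_z hv).2
  obtain ⟨y, hy, rfl⟩ := m.π_surj g
  exact (MV.comm_iff hy hv).1 (h y (MV.mem_T.2 ⟨hy, Xk_le k hg⟩))

end CfsgLib.M24R
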