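import Mathlib
import Cfsg.Agent.Lib.M24R.WC
import Cfsg.Agent.Lib.Mathieu.Simple
import Cfsg.Agent.Lib.Tech.Invol

/-!
# reduction to simple groups (plans/M24R.md)
-/

set_option autoImplicit false
set_option maxHeartbeats 400000
set_option Elab.async false

namespace CfsgLib.M24R

open Subgroup Cfsg CfsgLib.Tech CfsgLib.J4T CfsgLib.J4T.Rec CfsgLib.Golay CfsgLib.M24E CfsgLib.WD.Km
open scoped Pointwise

variable {G : Type*} [Group G] [Finite G] {k : Bool} {m : MV G k}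

namespace Redx

open CfsgLib.PComp

theorem opOf_conj (hO : pPrimeCore 2 m.H = ⊥) {x : G} (h : IsConj m.z x) : opOf 2 (W2.Cx x) = ⊥ := by
  obtain ⟨c, rfl⟩ := isConj_iff.1 h
  rw [← W2.cj_Cx, ← map_conj_opOf, opOf_def, hO, Subgroup.map_bot, Subgroup.map_bot]

theorem four (k : Bool) : ∃ w < 2048, w ≠ 0 ∧ zv k ≠ w ∧ tz k w = true ∧ tz k (zv k ^^^ w) = true :=
  ⟨cond k 2 23, by revert k; decide +kernel⟩

theorem core (hO : pPrimeCore 2 m.H = ⊥) : pPrimeCore 2 G = ⊥ := by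
  obtain ⟨w, hw, h0, h1, h2, h3⟩ := four k
  have hi : ∀ x, IsConj m.z x → pPrimeCore 2 G ⊓ W2.Cx x ≤ ⊥ := fun x hx => by
    rw [inf_comm, ← opOf_conj hO hx]; exact inf_pPrimeCore_le _
  have hn : ∀ x : G, x ∈ normalizer ((pPrimeCore 2 G : Subgroup G) : Set G) := fun x => by
    rw [normalizer_eq_top]; trivial
  refine le_bot_iff.1 (W2.le_of_four (a := m.z) (b := m.θ w) (by rw [← opOf_top]; exact W2.odd_card_opOf _) MV.z_ord
    (W2.ord_two (m.θ_sq hw) fun e => h0 (m.θ_inj _ hw e)) (fun e => h1 ((MV.θ_eq_iff (zv_lt k) hw).1 e))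
    (MV.θ_comm (zv_lt k) hw) (hn _) (hn _) (hi _ (IsConj.refl _)) (hi _ ((MV.isConj_z hw).2 h2)) (hi _ ?_))
  rw [MV.z, ← m.θ_xor _ (zv_lt k) _ hw]
  exact (MV.isConj_z (x_lt (zv_lt k) hw)).2 h3

theorem V_le (hO : pPrimeCore 2 m.H = ⊥) (N : Subgroup G) [hN : N.Normal] (h : N ≠ ⊥) : m.V ≤ N := by
  have hn : ∀ x : G, x ∈ normalizer (N : Set G) := fun x => by rw [normalizer_eq_top]; trivial
  have hs := m.syl.inf_of_le_normalizer (N := N) fun x _ => hn x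
  rw [top_inf_eq] at hs
  have h1 : m.T ⊓ N ≠ ⊥ := fun e => by
    have h2 := hs.not_dvd
    rw [e, relIndex_bot_left] at h2
    refine h (le_bot_iff.1 ?_)
    rw [← core hO, ← opOf_top]
    exact le_opOf le_top (fun x _ => hn x) ((Nat.Prime.coprime_iff_not_dvd Nat.prime_two).2 h2).symm
  obtain ⟨x, hx, ho, hc⟩ := exists_mem_center_of_normalized (MV.T_two (m := m)) inf_le_left
    (fun t ht => mem_normalizer_of_forall fun y hy =>
      mem_inf.2 ⟨mul_mem (mul_mem ht hy.1) (inv_mem ht), hN.conj_mem _ hy.2 _⟩) h1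
  have hz : m.z ∈ N := by
    rcases MV.cen_T hx.1 hc with e | e
    · exact absurd e (W2.ne_one_of_ord ho)
    · exact e ▸ hx.2
  intro v hv
  obtain ⟨w, hw, rfl⟩ := (m.mem_V v).1 hv
  refine irr (k := k) (P := fun v => m.θ v ∈ N) (MV.sp_mem N).xor (fun g v hv h => ?_) (zv_lt k) (zv_ne k) hz w hw
  obtain ⟨y, hy, rfl⟩ := m.π_surj g
  show m.θ _ ∈ N
  rw [← m.conj y hy v hv]
  exact hN.conj_mem _ h _

end Redx


theorem MV.red (m : MV G k) (hO : pPrimeCore 2 m.H = ⊥) : m.V.Normal ∨ IsSimpleGroup G := by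
  refine or_iff_not_imp_left.2 fun hV => ?_
  have : Nontrivial G := ⟨⟨m.z, 1, MV.z_ne⟩⟩
  refine ⟨fun N hN => or_iff_not_imp_left.2 fun h => ?_⟩
  have hn : ∀ x : G, x ∈ normalizer (N : Set G) := fun x => by rw [normalizer_eq_top]; trivial
  have hVN := Redx.V_le hO N h
  have hb : (m.bar N).Normal := (hN.subgroupOf m.M).map _ MV.πh_surj
  rcases Mathieu.simple_M24.eq_bot_or_eq_top_of_normal _ hb with e | e
  · have h1 : ∀ x ∈ N, x ∈ m.M → x ∈ m.V := fun x hx hm =>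
      (m.π_eq_one x hm).1 (mem_bot.1 (e ▸ MV.mem_bar.2 ⟨x, hx, hm, rfl⟩))
    have hs := m.syl.inf_of_le_normalizer (N := N) fun x _ => hn x
    rw [top_inf_eq, show m.T ⊓ N = m.V from
      le_antisymm (fun x hx => h1 x hx.2 (MV.T_le hx.1)) (le_inf MV.V_le_T hVN)] at hs
    have h2 : N ≤ m.V := W2.le_of_npc (W2.npc_of_burnside hs fun n hn hm x hx => MV.V_comm (h1 n hn hm) hx) hs
      ((PComp.opOf_le_pPrimeCore hN.isSubnormal).trans (by rw [Redx.core hO]; exact bot_le)) le_rfl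
    exact absurd (le_antisymm h2 hVN ▸ hN) hV
  · have h1 : m.M ≤ N := fun x hx => by
      obtain ⟨y, hy, hm, e'⟩ := MV.mem_bar.1 (show m.π x ∈ m.bar N by rw [e]; trivial)
      obtain ⟨v, hv, rfl⟩ := MV.exists_θ_of_π_eq hx hm e'.symm
      exact mul_mem (hVN (MV.θ_mem hv)) hy
    refine eq_top_iff.2 fun g _ => ?_
    obtain ⟨n, hnN, hg⟩ := (m.syl.of_le (MV.T_le.trans h1) le_top).frattini (hn g)
    have h2 : n * g ∈ m.M := MV.wc (cj_le_iff.2 fun x hx => MV.T_le (conj_mem_of_mem_normalizer hg (MV.V_le_T hx)))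
    simpa using mul_mem (inv_mem hnN) (h1 h2)

end CfsgLib.M24R
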