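import Mathlib
import Cfsg.Agent.Lib.M24R.WC
import Cfsg.Agent.Lib.M24R.B1K
import Cfsg.Agent.S2901

/-!
# `C(z)` is not contained in `N(V)` (plans/M24R.md)
-/

set_option autoImplicit false
set_option Elab.async false

namespace CfsgLib.M24R

open Subgroup Cfsg CfsgLib.Tech CfsgLib.J4T CfsgLib.J4T.Rec CfsgLib.Golay CfsgLib.M24E CfsgLib.WD.Km
open scoped Pointwise

variable {G : Type*} [Group G] [Finite G] {k : Bool} {m : MV G k}

namespace B1x

theorem exists_conj {u : G} (hu : u ∈ m.V) (h : IsConj m.z u) : ∃ x ∈ m.M, x * m.z * x⁻¹ = u := by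
  obtain ⟨v, hv, rfl⟩ := (m.mem_V u).1 hu
  obtain ⟨γ, e⟩ := (tz_iff hv).1 ((MV.isConj_z hv).1 h)
  obtain ⟨x, hx, rfl⟩ := m.π_surj γ
  exact ⟨x, hx, by rw [MV.z, m.conj x hx _ (zv_lt k), e]⟩

omit [Finite G] in
theorem cj_comm {g a b : G} (ha : a ∈ cj g m.V) (hb : b ∈ cj g m.V) : a * b = b * a := by
  have := MV.V_comm (mem_cj.1 ha) (mem_cj.1 hb)
  calc a * b = g * (g⁻¹ * a * g * (g⁻¹ * b * g)) * g⁻¹ := by group
    _ = b * a := by rw [this]; group

omit [Finite G] in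
theorem cj_sq {g a : G} (ha : a ∈ cj g m.V) : a * a = 1 := by
  calc a * a = g * (g⁻¹ * a * g * (g⁻¹ * a * g)) * g⁻¹ := by group
    _ = 1 := by rw [MV.V_sq (mem_cj.1 ha)]; group

omit [Finite G] in
theorem not_T_le : ¬ m.T ≤ m.V := fun h => by
  have : Finite m.V := Nat.finite_of_card_ne_zero (by rw [MV.card_V]; norm_num)
  have := card_le_of_le h
  rw [MV.card_T, MV.card_V] at this
  norm_num at this

variable (hH : m.H ≤ m.M)
include hH

omit [Finite G] in
theorem cent_le {g x : G} (h : x * (g * m.z * g⁻¹) = g * m.z * g⁻¹ * x) : x ∈ cj g m.M :=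
  mem_cj.2 (hH (MV.mem_H.2 (by
    calc g⁻¹ * x * g * m.z = g⁻¹ * (x * (g * m.z * g⁻¹)) * g := by group
      _ = _ := by rw [h]; group)))

theorem mem_M {g u : G} (hu : u ∈ m.V) (hu' : u ∈ cj g m.V) (h : IsConj m.z u) : g ∈ m.M := by
  obtain ⟨x, hx, rfl⟩ := exists_conj hu h
  exact MV.wc fun y hy => cj_eq_of_mem hx ▸ cent_le hH (cj_comm hy hu')

theorem card_le {g : G} {B : Subgroup G} (hT : B ≤ m.T) (hB : B ≤ cj g m.V) (ht : g * m.z * g⁻¹ ∈ B)
    (hV : g * m.z * g⁻¹ ∉ m.V) : Nat.card B ≤ 32 := by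
  have hM := hT.trans MV.T_le
  have hg : ∀ v < 2048, m.θ v ∈ cj g m.V → tz k v = false := fun v hv h => Bool.eq_false_iff.2 fun e =>
    hV (conj_mem_of_mem_normalizer (mem_M hH (MV.θ_mem hv) h ((MV.isConj_z hv).2 e)) MV.z_mem)
  rw [MV.card_eq hM]
  refine b1_core (k := k) ((MV.bar_le_iff hM).2 hT) (fun y hy => ?_) (MV.π_mem_bar hM ht)
    (fun e => hV ((m.π_eq_one _ (hM ht)).1 e)) (fun b hb v hv e => ?_) (MV.sp_mem B) fun v hv h =>
      ⟨(MV.comm_iff (hM ht) hv).1 (cj_comm (hB ht) (hB h)), hg v hv (hB h)⟩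
  · obtain ⟨x, hx, hx', rfl⟩ := MV.mem_bar.1 hy
    rw [← m.π_mul x hx' x hx', cj_sq (hB hx), MV.π_V (one_mem _)]
  · obtain ⟨x, hx, hx', rfl⟩ := MV.mem_bar.1 hb
    refine hg _ (cm_lt _ _ hv) ?_
    have h1 := cent_le hH ((MV.comm_iff (hM ht) hv).2 e).symm
    rw [MV.M, cj_normalizer] at h1
    have := mul_mem (conj_mem_of_mem_normalizer h1 (hB hx)) (inv_mem (hB hx))
    rwa [MV.conj_θ hx' hv, mul_inv_cancel_right] at this

theorem mem_V {g : G} (h : g * m.z * g⁻¹ ∈ m.M) : g * m.z * g⁻¹ ∈ m.V := by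
  by_contra hV
  have two : ∀ {g : G} {B : Subgroup G}, B ≤ cj g m.V → IsPGroup 2 B := fun hB =>
    isPGroup_iff_mem.2 fun x hx => ⟨1, by rw [pow_one, sq, cj_sq (hB hx)]⟩
  obtain ⟨x, hx, e⟩ := MV.syl_M.exists_conj_mem h (two (zpowers_le.2 (conj_mem_cj.2 MV.z_mem)))
  rw [show x * (g * m.z * g⁻¹) * x⁻¹ = x * g * m.z * (x * g)⁻¹ by group] at e
  have hV' : x * g * m.z * (x * g)⁻¹ ∉ m.V := fun h1 => hV (by
    have := conj_mem_of_mem_normalizer' hx h1
    rwa [show x⁻¹ * (x * g * m.z * (x * g)⁻¹) * x = g * m.z * g⁻¹ by group] at this)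
  generalize x * g = g at e hV'
  have hz := cent_le hH (MV.mem_H.1 (MV.T_le_H e)).symm
  rw [MV.M, cj_normalizer] at hz
  have h1 := Holt.card_le_sq (fun _ => cj_sq) hz fun v _ => by rw [MV.z_sq]; exact Commute.one_left v
  obtain ⟨y, hy, e1⟩ := MV.syl_M.exists_cj_le (two (inf_le_left : cj g m.V ⊓ m.H ≤ _)) (inf_le_right.trans hH)
  have e2 : y * g * m.z * (y * g)⁻¹ = y * (g * m.z * g⁻¹) * y⁻¹ := by group
  have h2 := card_le hH (g := y * g) e1 (by rw [cj_mul]; exact cj_mono y inf_le_left)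
    (by rw [e2]; exact conj_mem_cj.2 ⟨conj_mem_cj.2 MV.z_mem, MV.T_le_H e⟩) fun h2 => hV' (by
      have := conj_mem_of_mem_normalizer' hy h2
      rwa [e2, show ∀ a : G, y⁻¹ * (y * a * y⁻¹) * y = a from fun a => by group] at this)
  rw [card_cj] at h1 h2
  rw [MV.card_V] at h1
  exact absurd (h1.trans (Nat.pow_le_pow_left h2 2)) (by norm_num)

end B1x

open B1x in
theorem MV.not_H_le (m : MV G k) [IsSimpleGroup G] : ¬ m.H ≤ m.M := fun hH => by
  have hz : m.z ∈ m.M := V_le z_mem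
  rcases Cfsg.Agent.S2901.result (fun h => not_T_le (m := m) fun x _ => cent_V fun v _ => h.is_comm.comm x v) m.M
    (fun e => (normalizer_eq_top_iff.1 e).eq_bot_or_eq_top.elim (fun e => z_ne (mem_bot.1 (e ▸ z_mem)))
      fun e => not_T_le (e ▸ le_top)) m.z hz
    ⟨z_ord, m.syl.toSylowTop, V_le_T z_mem, fun x hx => mem_H.1 (T_le_H hx)⟩ hH
    (fun g h => exists_conj (B1x.mem_V hH h) (isConj_iff.2 ⟨g, rfl⟩)) with ⟨-, P, e⟩ | ⟨n, hn, -, ⟨e⟩⟩
  · have hP : (P : Subgroup G) ≤ m.M := e ▸ le_normalizer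
    have : (m.bar P).Normal := ⟨fun a ha g => by
      obtain ⟨x, hx, hx', rfl⟩ := mem_bar.1 ha
      obtain ⟨y, hy, rfl⟩ := m.π_surj g
      rw [← π_conj hy hx']
      exact π_mem_bar hP (conj_mem_of_mem_normalizer (e ▸ hy) hx)⟩
    have h1 := card_eq hP
    have h2 := nc_mono (P := fun v => m.θ v ∈ (P : Subgroup G)) (Q := fun _ => True) fun _ _ _ => trivial
    rw [(IsSylowIn.of_sylow_top P).card_eq m.syl, card_T] at h1
    rw [nc_true] at h2
    have := Mathieu.simple_M24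
    rcases ‹(m.bar P).Normal›.eq_bot_or_eq_top with h | h
    · rw [h, card_bot] at h1; omega
    · rw [h, card_top, card_M24] at h1; omega
  · rcases hn.eq_or_lt with rfl | hn
    · have : Nontrivial (Fin (5 - 1)) := inferInstanceAs (Nontrivial (Fin 4))
      have := Nat.card_congr e.toEquiv
      rw [card_M, nat_card_alternatingGroup] at this
      simp [Nat.factorial] at this
    · have := alternatingGroup.isSimpleGroup (α := Fin (n - 1)) (by simp; omega)
      have := e.isSimpleGroup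
      rcases (normal_in_normalizer (H := m.V)).eq_bot_or_eq_top with h | h
      · have h1 : (⟨m.z, hz⟩ : m.M) ∈ m.V.subgroupOf m.M := z_mem
        rw [h, mem_bot] at h1
        exact z_ne (congrArg Subtype.val h1)
      · exact not_T_le (T_le.trans (subgroupOf_eq_top.1 h))

end CfsgLib.M24R
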