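import Mathlib
import Cfsg.Agent.Lib.M24R.Defs
import Cfsg.Agent.Lib.Co1Rec.Hyp
import Cfsg.Agent.Lib.OrthE.Normal
import Cfsg.Agent.S1718

/-!
# recognition of `Co₁` (plans/M24R.md)
-/

set_option autoImplicit false
set_option Elab.async false

namespace CfsgLib.M24R

open Subgroup Cfsg CfsgLib.Tech CfsgLib.J4T CfsgLib.J4T.Rec CfsgLib.Golay CfsgLib.M24E CfsgLib.WD.Km
open CfsgLib.ExtraTwo CfsgLib.LargeExtra
open scoped Pointwise

variable {G : Type*} [Group G] [Finite G]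

namespace CgAx

open QuadraticMap CfsgLib.Co1Rec

theorem coord {Q W : Subgroup G} {z : G} (es : ES Q z) (hc : Nat.card Q = 2 ^ 9) (hW : W ≤ Q)
    (sq : ∀ w ∈ W, w * w = 1) (hcW : Nat.card W = 32) : ∃ π, Coord Q z q8 π := by
  obtain ⟨n, q, π, c⟩ := es.exists_coord
  have hz : z ∈ W := by
    by_contra hz
    have h1 := card_sq_le_of_comm es (A := c.sub (c.img W)) (fun x hx => (c.mem_sub.1 hx).1)
      (c.mem_sub.2 ⟨es.mem, by rw [c.map_z]; exact zero_mem _⟩) fun x hx y hy => by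
        obtain ⟨x1, x2⟩ := c.mem_sub.1 hx
        obtain ⟨y1, y2⟩ := c.mem_sub.1 hy
        obtain ⟨a, a1, a2, a3⟩ := c.mem_img.1 x2
        obtain ⟨b, b1, b2, b3⟩ := c.mem_img.1 y2
        rw [← c.polar_iff x1 y1, ← a3, ← b3, c.polar_iff a2 b2]
        have h3 : (a * b)⁻¹ = a * b := inv_eq_of_mul_eq_one_right (sq _ (W.mul_mem a1 b1))
        rw [← h3, mul_inv_rev, inv_eq_of_mul_eq_one_right (sq a a1), inv_eq_of_mul_eq_one_right (sq b b1)]
    rw [c.card_sub, ← c.card_img_of_not_mem hW hz, hcW, hc] at h1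
    omega
  have h1 := c.card_img hW hz
  rw [hcW, Module.natCard_eq_pow_finrank (K := ZMod 2), Nat.card_zmod] at h1
  have h2 : Module.finrank (ZMod 2) (c.img W) = 4 :=
    Nat.pow_right_injective (le_refl 2) (show 2 ^ Module.finrank (ZMod 2) (c.img W) = 2 ^ 4 by omega)
  obtain ⟨e, he⟩ := OrthE.exists_equiv_qPlus ((OrthE.nondeg_iff q).2 c.nondegenerate) (m := 4)
    (c.finrank_eq (m := 8) hc) (M := c.img W) (fun w hw => by
      obtain ⟨a, a1, a2, rfl⟩ := c.mem_img.1 hw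
      exact (c.sq a a2).2 (sq a a1)) h2
  exact ⟨_, c.congr e.symm fun v => by rw [← he, LinearEquiv.apply_symm_apply]⟩

theorem card_orth {e f : V8} (h : OrthE.Hyp q8 e f) : {w | polar q8 w e = 0 ∧ polar q8 w f = 0}.ncard ≤ 64 := by
  have h1 : Function.Injective (fun x : {w | polar q8 w e = 0 ∧ polar q8 w f = 0} × ZMod 2 × ZMod 2 =>
      x.1.1 + x.2.1 • e + x.2.2 • f) := by
    rintro ⟨⟨w, w1, w2⟩, a, b⟩ ⟨⟨w', w1', w2'⟩, a', b'⟩ e'
    have e1 := congrArg (fun x => polar q8 x e) e'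
    have e2 := congrArg (fun x => polar q8 x f) e'
    simp only [polar_add_left, polar_smul_left, w1, w2, w1', w2', h.hee, h.hff, h.hef, h.hfe, smul_eq_mul, mul_zero,
      mul_one, zero_add, add_zero] at e1 e2
    subst e1 e2
    simp only [add_left_inj] at e'
    subst e'
    rfl
  have h2 := Nat.card_le_card_of_injective _ h1
  rw [Nat.card_prod, Nat.card_prod, Nat.card_zmod, Nat.card_coe_set_eq, Module.natCard_eq_pow_finrank (K := ZMod 2),
    Nat.card_zmod, finrank_V8] at h2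
  omega

theorem inter {Q Q1 : Subgroup G} {z t : G} (p : Pair Q Q1 z t) (hI : Nat.card (Q ⊓ Q1 : Subgroup G) ≤ 4) {u : G}
    (hu : u ∈ Q ⊓ Q1) : u = 1 ∨ u = z ∨ u = t ∨ u = t * z := by
  have h1 : ({1, z, t, t * z} : Set G) ⊆ (Q ⊓ Q1 : Subgroup G) := fun x hx => p.V_le_E (p.mem_V.2 hx)
  have h2 : ({1, z, t, t * z} : Set G).ncard = 4 := Set.ncard_eq_four.2 ⟨_, _, _, _, p.h0.es.ne_one.symm,
    p.t_ne_one.symm, fun e => p.ne (by rw [eq_inv_of_mul_eq_one_left e.symm, p.h0.es.inv_eq]), p.ne.symm,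
    fun e => p.t_ne_one (by simpa using e), fun e => p.h0.es.ne_one (by simpa using e), rfl⟩
  have h3 := Set.eq_of_subset_of_ncard_le h1 (h2 ▸ hI)
  exact h3.ge hu

variable {Q Q1 : Subgroup G} {z t : G} {π : G → V8} {ρ : G → OrthE.O q8}

/-- `ρ` as a homomorphism -/
def hom (c : CT0 Q z π ρ) : centralizer ({z} : Set G) →* OrthE.O q8 :=
  MonoidHom.mk' (fun g => ρ g) fun a b => c.ρ_mul (mem_cent.1 a.2) (mem_cent.1 b.2)

omit [Finite G] in
theorem hom_eq_one (c : CT0 Q z π ρ) (g : centralizer ({z} : Set G)) : hom c g = 1 ↔ (g : G) ∈ Q :=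
  ⟨c.mem_of_ρ (mem_cent.1 g.2), c.ρ_Q⟩

theorem all_eich (c : CT0 Q z π ρ) (p : Pair Q Q1 z t) (hI : Nat.card (Q ⊓ Q1 : Subgroup G) ≤ 4)
    (hc : Nat.card Q1 = 512) {f : V8} (hf : OrthE.Hyp q8 (π t) f) {w : V8} (w1 : polar q8 w (π t) = 0)
    (w2 : polar q8 w f = 0) : OrthE.eich q8 (π t) w ∈ (hom c).range := by
  have h1 : (((Q1.subgroupOf (centralizer ({z} : Set G))).map (hom c) : Subgroup (OrthE.O q8)) : Set (OrthE.O q8)) ⊆
      OrthE.eich q8 (π t) '' {w | polar q8 w (π t) = 0 ∧ polar q8 w f = 0} := by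
    rintro _ ⟨⟨y, hyz⟩, hy, rfl⟩
    replace hy : y ∈ Q1 := hy
    have hyz' := mem_cent.1 hyz
    obtain ⟨w, h1, h2, h3⟩ := eq_eich hf (g := ρ y) (by
      rw [c.act y hyz' t p.tQ, conj_eq_of_comm (p.h1.es.comm_z y hy)]) (fun v hv => by
      obtain ⟨u, hu, rfl⟩ := c.co.surj v
      have hut := (c.co.polar_iff hu p.tQ).1 hv
      have h := p.commutator_mem_E hu hut hy hyz'
      have h3 : (ρ y).1 (π u) = π (y * u * y⁻¹ * u⁻¹) + π u := by
        rw [c.act y hyz' u hu, ← c.co.map_mul _ h.1 _ hu, inv_mul_cancel_right]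
      rcases inter p hI h with e | e | e | e <;> rw [h3, e]
      · rw [c.co.map_one, zero_add]; exact Or.inl rfl
      · rw [c.co.map_z, zero_add]; exact Or.inl rfl
      · exact Or.inr (add_comm _ _)
      · rw [c.co.map_mul_z p.tQ]; exact Or.inr (add_comm _ _))
    exact ⟨w, ⟨h1, h2⟩, h3.symm⟩
  have h2 := p.card_E_mul_card_map (hom c) (hom_eq_one c)
  have h3 : 64 ≤ Nat.card ((Q1.subgroupOf (centralizer ({z} : Set G))).map (hom c)) := by
    rw [hc] at h2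
    by_contra h4
    have h5 : Nat.card ((Q1.subgroupOf (centralizer ({z} : Set G))).map (hom c)) ≤ 63 := by omega
    have := Nat.mul_le_mul hI h5
    omega
  have h4 := Set.eq_of_subset_of_ncard_le h1
    (((Set.ncard_image_le (Set.toFinite _)).trans (card_orth hf)).trans h3) ((Set.toFinite _).image _)
  exact map_le_range _ _ (h4.ge ⟨w, ⟨w1, w2⟩, rfl⟩)

end CgAx

open CgAx QuadraticMap CfsgLib.Co1Rec in
theorem co1_of {Q W : Subgroup G} {z g h : G} (pre : Pre Q z) (hc : Nat.card Q = 2 ^ 9)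
    (hO : pCore 2 (centralizer ({z} : Set G)) ≤ Q.subgroupOf (centralizer {z})) (ht : g * z * g⁻¹ ∈ Q)
    (hne : g * z * g⁻¹ ≠ z) (hI : Nat.card (Q ⊓ cj g Q : Subgroup G) ≤ 4) (hh : h * z = z * h)
    (hn : h * (g * z * g⁻¹) * h⁻¹ * (g * z * g⁻¹) ≠ g * z * g⁻¹ * (h * (g * z * g⁻¹) * h⁻¹)) (hW : W ≤ Q)
    (sq : ∀ w ∈ W, w * w = 1) (hcW : Nat.card W = 32) (h2 : ¬ 2 ^ 22 ∣ Nat.card (centralizer ({z} : Set G))) :
    Spor.IsoCo1 G := by
  obtain ⟨π, c0⟩ := coord pre.es hc hW sq hcW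
  obtain ⟨ρ, c⟩ := exists_CT0 pre c0
  have p := pre.pair (by rw [hc]; norm_num) ht hne
  have hc1 : Nat.card (cj g Q) = 512 := by rw [card_cj, hc]; norm_num
  have nw : NW Q z := ⟨g, ht, hne⟩
  generalize g * z * g⁻¹ = t at ht hn p
  have qt : q8 (π t) = 0 := (c0.sq t ht).2 p.h1.es.mul_self
  have hf : OrthE.Hyp q8 (π t) ((ρ h).1 (π t)) := ⟨qt, (OrthE.O_map _ _).trans qt, zmod2_ne_zero.1 fun e => by
    rw [c.act h hh t ht, c0.polar_iff ht (pre.norm h hh t ht)] at e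
    exact hn e.symm⟩
  have hE : OrthE.E q8 ≤ (hom c).range := by
    refine hf.E_le nd8 ?_ _ (fun w w1 w2 => all_eich c p hI hc1 hf w1 w2) fun w _ w2 => ?_
    · obtain ⟨n, n0, n1, n2, -⟩ := ns3 (π t) ((ρ h).1 (π t)) 0
      exact ⟨n, n1, n2, by rw [n0]; exact one_ne_zero⟩
    · have h1 : polar q8 (π t) (((ρ h)⁻¹).1 w) = 0 := by rw [polar_comm, OrthE.O_polar_inv_left, w2]
      have h3 := all_eich c p hI hc1 hf (hf.pr_e (((ρ h)⁻¹).1 w)) (hf.pr_f _)
      rw [← hf.eich_eq_pr h1] at h3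
      have h4 : ρ h ∈ (hom c).range := ⟨⟨h, mem_cent.2 hh⟩, rfl⟩
      have h5 := mul_mem (mul_mem h4 h3) (inv_mem h4)
      rwa [OrthE.conj_eich, OrthE.O_apply_inv_apply] at h5
  have hR : (hom c).range ≤ OrthE.E q8 := by
    have h1 := relIndex_mul_index hE
    rw [index_E] at h1
    rcases (Nat.dvd_prime Nat.prime_two).1 (Dvd.intro _ h1) with e | e
    · exact relIndex_eq_one.1 e
    · exfalso
      rw [e] at h1
      have h3 : (hom c).range = ⊤ := index_eq_one.1 (by omega)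
      have h4 : (hom c).ker = Q.subgroupOf (centralizer ({z} : Set G)) := Subgroup.ext (hom_eq_one c)
      have h5 := (hom c).ker.card_mul_index
      rw [index_ker, h3, card_top, card_O8, h4, Nat.card_congr (subgroupOfEquivOfLe pre.le_cent).toEquiv, hc] at h5
      exact h2 (h5 ▸ by norm_num)
  have ct : CT Q z π ρ := ⟨c, fun x hx => hR ⟨⟨x, mem_cent.2 hx⟩, rfl⟩, fun e he => by
    obtain ⟨x, rfl⟩ := hE he
    exact ⟨x, mem_cent.1 x.2, rfl⟩⟩
  obtain ⟨a, P, _, b, d, e, ⟨f⟩, k⟩ := ct.hyp nw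
  exact Cfsg.Agent.S1718.result z a P b d e f k

end CfsgLib.M24R
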