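import Mathlib
import Cfsg.Agent.Lib.M24R.WC

/-!
# properties of the extraspecial group (plans/M24R.md)
-/

set_option autoImplicit false
set_option Elab.async false
set_option linter.unusedSectionVars false

namespace CfsgLib.M24R

open Subgroup Cfsg CfsgLib.Tech CfsgLib.J4T CfsgLib.J4T.Rec CfsgLib.Golay CfsgLib.M24E CfsgLib.WD.Km
open CfsgLib.ExtraTwo CfsgLib.LargeExtra
open scoped Pointwise

variable {G : Type*} [Group G] [Finite G] {k : Bool} {m : MV G k} (d : QD m)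

theorem QD.W_le : m.W ≤ d.Q := fun _ ⟨v, hv, h, e⟩ => e ▸ (d.inf v hv).2 h

theorem QD.inf_V : d.Q ⊓ m.V = m.W := le_antisymm (fun x hx => by
  obtain ⟨v, hv, rfl⟩ := (m.mem_V x).1 hx.2
  exact (MV.θ_mem_W hv).2 ((d.inf v hv).1 hx.1)) (le_inf d.W_le MV.sub_le)

theorem QD.bar : m.bar d.Q = Xk k := le_antisymm (fun _ h => let ⟨x, hx, _, e⟩ := MV.mem_bar.1 h; e ▸ d.π_mem x hx)
  fun g hg => let ⟨_, hx, e⟩ := d.π_surj g hg; e ▸ MV.π_mem_bar d.le hx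

theorem QD.le_T : d.Q ≤ m.T := fun x hx => MV.mem_T.2 ⟨d.le hx, Xk_le k (d.π_mem x hx)⟩

theorem QD.T_norm : m.T ≤ normalizer (d.Q : Set G) := fun g hg => d.norm g (MV.T_le hg) (MV.mem_H.1 (MV.T_le_H hg))

theorem QD.p_H : d.p ∈ m.H := (MV.mem_H_iff d.p_mem).2 (d.π_p ▸ pp_St k)

theorem QD.es : ES d.Q m.z := by
  have cz : ∀ x ∈ d.Q, x * m.z = m.z * x := fun x hx => MV.mem_H.1 (MV.T_le_H (d.le_T hx))
  have cen : ∀ x ∈ d.Q, (∀ q ∈ d.Q, q * x = x * q) → x = 1 ∨ x = m.z := fun x hx h => by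
    obtain ⟨v, hv, rfl⟩ := (m.mem_V x).1 ((m.π_eq_one x (d.le hx)).1 (eq_one_of_fx_W (Xk_le k (d.π_mem x hx))
      fun v hv hw => (MV.comm_iff (d.le hx) hv).1 (h _ ((d.inf v hv).2 hw)).symm))
    rw [MV.θ_eq_one hv, MV.θ_eq_z hv]
    refine fx_Xk hv fun y hy => ?_
    obtain ⟨q, hq, rfl⟩ := d.π_surj y hy
    exact (MV.comm_iff (d.le hq) hv).1 (h q hq)
  refine ⟨MV.z_ne, MV.z_sq, (d.inf _ (zv_lt k)).2 (inW_zv k), cz, cen, fun x hx y hy => ?_, by_contra fun h => ?_⟩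
  · have s : ∀ a ∈ d.Q, a * a ∈ zpowers m.z := fun a ha => MV.mem_zp.2 (d.sq a ha)
    have c : y⁻¹ * (x⁻¹ * x⁻¹) * y ∈ zpowers m.z := by
      rcases d.sq _ (inv_mem hx) with e | e <;> rw [e]
      · simp
      · rw [cz _ (inv_mem hy), inv_mul_cancel_right]; exact mem_zpowers _
    have := MV.mem_zp.1 (mul_mem (mul_mem (s _ (mul_mem hx hy)) c) (s _ (inv_mem hy)))
    rw [show x * y * (x * y) * (y⁻¹ * (x⁻¹ * x⁻¹) * y) * (y⁻¹ * y⁻¹) = x * y * (y * x)⁻¹ by group,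
      mul_inv_eq_one, mul_inv_eq_iff_eq_mul] at this
    exact this
  · push Not at h
    have e : cond k 2 23 < 2048 ∧ mv (wK k) (cond k 2 23) = 0 ∧ cond k 2 23 ≠ 0 ∧ cond k 2 23 ≠ zv k := by
      cases k <;> decide +kernel
    have := cen _ ((d.inf _ e.1).2 e.2.1) fun q hq => h q hq _ ((d.inf _ e.1).2 e.2.1)
    rw [MV.θ_eq_one e.1, MV.θ_eq_z e.1] at this
    exact this.elim e.2.2.1 e.2.2.2

theorem QD.card : Nat.card d.Q = cond k (2 ^ 9) (2 ^ 13) := by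
  rw [MV.card_eq d.le, d.bar, card_Xk, nc_congr d.inf, nc_W]
  cases k <;> rfl

theorem QD.fpf {q : G} (hq : q ∈ d.Q) (h : d.p * q * d.p⁻¹ = q ∨ d.p * q * d.p⁻¹ = q * m.z) : q = 1 ∨ q = m.z := by
  have h1 : m.π (d.p * q * d.p⁻¹) = m.π q := by
    rcases h with h | h <;> rw [h]
    rw [m.π_mul _ (d.le hq) _ (MV.V_le MV.z_mem), MV.π_V MV.z_mem, mul_one]
  rw [MV.π_conj d.p_mem (d.le hq), d.π_p, mul_inv_eq_iff_eq_mul] at h1
  obtain ⟨v, hv, rfl⟩ := (m.mem_V q).1 ((m.π_eq_one q (d.le hq)).1 (pp_fpf (d.π_mem q hq) h1))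
  rw [MV.θ_eq_one hv, MV.θ_eq_z hv]
  refine pp_fpf_W hv ((d.inf v hv).1 hq) ?_
  rw [← MV.θ_eq_one (m := m) (cm_lt _ _ hv), ← MV.θ_eq_z (m := m) (cm_lt _ _ hv), ← d.π_p, ← MV.cm_eq d.p_mem hv]
  exact h.imp (fun e => by rw [e, m.θ_sq hv]) fun e => by rw [e, ← mul_assoc, m.θ_sq hv, one_mul]

theorem QD.gen {q : G} (hq : q ∈ d.Q) :
    ∃ r ∈ d.Q, q = r * d.p * r⁻¹ * d.p⁻¹ ∨ q = r * d.p * r⁻¹ * d.p⁻¹ * m.z := by
  have hp := d.norm _ d.p_mem (MV.mem_H.1 d.p_H)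
  have hb := conj_mem_of_mem_normalizer hp hq
  have hc := conj_mem_of_mem_normalizer hp hb
  have e : d.p * (d.p * (d.p * q * d.p⁻¹) * d.p⁻¹) * d.p⁻¹ = q := by
    rw [show d.p * (d.p * (d.p * q * d.p⁻¹) * d.p⁻¹) * d.p⁻¹ = d.p ^ 3 * q * (d.p ^ 3)⁻¹ by
      rw [pow_three]; group, d.p3]; group
  have s : ∀ a ∈ d.Q, a * a ∈ zpowers m.z := fun a ha => MV.mem_zp.2 (d.sq a ha)
  have hn := mul_mem (mul_mem hb hc) hq
  have n := MV.mem_zp.2 (d.fpf hn (by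
    have := d.es.conj hn (inv_mem hb)
    rw [show ∀ b c : G, b⁻¹ * (b * c * q) * b⁻¹⁻¹ = c * q * b from fun _ _ => by group] at this
    rwa [← conj_mul (b := d.p) (c := q), ← conj_mul (b := d.p) (a := d.p * q * d.p⁻¹), e]))
  have := MV.mem_zp.1 (mul_mem (mul_mem (s _ (mul_mem (inv_mem hc) hb)) (s _ (inv_mem hb))) n)
  refine ⟨_, inv_mem hb, this.imp (fun h => ?_) fun h => ?_⟩
  · rw [← mul_one (_ * d.p⁻¹), ← h]; group
  · rw [← h]; group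

theorem QD.ab {A : Subgroup G} {g : G} (hA : A ≤ cj g d.Q) (h : ∀ x ∈ A, ∀ y ∈ A, x * y = y * x) :
    Nat.card A ≤ cond k 32 128 := by
  have es := d.es.map_conj g
  have cz : A ≤ centralizer (zpowers (g * m.z * g⁻¹) : Set G) := fun x hx =>
    mem_centralizer_iff.2 fun y hy => by rcases es.mem_zpowers.1 hy with rfl | rfl <;> simp [es.comm_z x (hA hx)]
  have cA : A ⊔ zpowers (g * m.z * g⁻¹) ≤ centralizer (A ⊔ zpowers (g * m.z * g⁻¹) : Subgroup G) := by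
    refine sup_le (le_centralizer_iff.1 (sup_le (fun x hx => mem_centralizer_iff.2 fun y hy => h y hy x hx)
      (le_centralizer_iff.1 cz))) (le_centralizer_iff.1 (sup_le cz (le_centralizer _)))
  have h1 := card_sq_le_of_comm es (sup_le hA (zpowers_le.2 es.mem)) (mem_sup_right (mem_zpowers _))
    fun x hx y hy => mem_centralizer_iff.1 (cA hy) x hx
  have h2 := card_le_of_le (le_sup_left : A ≤ A ⊔ zpowers (g * m.z * g⁻¹))
  rw [show Nat.card (d.Q.map (MulAut.conj g).toMonoidHom) = _ from card_cj g d.Q, d.card] at h1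
  refine h2.trans (Nat.mul_self_le_mul_self_iff.1 (h1.trans ?_))
  cases k <;> decide

theorem MV.comm_mem_W {v x : G} (hv : v ∈ m.V) (hx : x ∈ m.M) (h : m.π x ∈ Xk k) : v * x * v⁻¹ * x⁻¹ ∈ m.W := by
  obtain ⟨w, hw, rfl⟩ := (m.mem_V v).1 hv
  rw [MV.conj_θ hx hw, mul_inv_cancel_right]
  exact (MV.θ_mem_W (cm_lt _ _ hw)).2 (cm_inW h hw)

theorem QD.big {q : G} (hq : q ∈ d.Q) (h : q * q = m.z) :
    ∃ v₁ ∈ m.V, ∃ v₂ ∈ m.V, ∀ v ∈ [v₁, v₂, v₁ * v₂], v * q * v⁻¹ ≠ q ∧ v * q * v⁻¹ ≠ q * m.z := by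
  obtain ⟨y, hy, e⟩ := mem_Xk.1 (d.π_mem q hq)
  have h1 := of_allLT (n := nX k) (f := fun y => or (Nat.beq y 0) (frc (Nat.xor mI (xM k y)) fun A => exLT 11 fun i =>
    exLT 11 fun j => allL [2 ^ i, 2 ^ j, 2 ^ i ^^^ 2 ^ j] fun v => frc (mv A v) fun c =>
      and (not (Nat.beq c 0)) (not (Nat.beq c (zv k))))) (by cases k <;> decide +kernel) hy
  rcases Bool.or_eq_true_iff.1 h1 with h1 | h1
  · rw [beq_iff'.1 h1, (tX k).zero] at e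
    exact absurd (h.symm.trans (MV.V_sq ((m.π_eq_one q (d.le hq)).1 e))) MV.z_ne
  simp only [frc_eq, exLT_iff, allL_iff, Bool.and_eq_true, Bool.not_eq_true', ← Bool.not_eq_true, beq_iff'] at h1
  obtain ⟨i, hi, j, hj, h1⟩ := h1
  have key : ∀ v < 2048, v ∈ [2 ^ i, 2 ^ j, 2 ^ i ^^^ 2 ^ j] → m.θ v * q * (m.θ v)⁻¹ ≠ q ∧
      m.θ v * q * (m.θ v)⁻¹ ≠ q * m.z := fun v hv hm => by
    rw [MV.conj_θ (d.le hq) hv, d.es.comm_z q hq, Ne, Ne, mul_eq_right, mul_left_inj, MV.θ_eq_one (cm_lt _ _ hv),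
      MV.θ_eq_z (cm_lt _ _ hv), e, (am_x k hy).cm hv]
    exact h1 v hm
  refine ⟨_, MV.θ_mem (pw_lt hi), _, MV.θ_mem (pw_lt hj), ?_⟩
  rw [← m.θ_xor _ (pw_lt hi) _ (pw_lt hj)]
  simp only [List.forall_mem_cons]
  exact ⟨key _ (pw_lt hi) (by simp), key _ (pw_lt hj) (by simp), key _ (x_lt (pw_lt hi) (pw_lt hj)) (by simp), by simp⟩

end CfsgLib.M24R
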