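import Mathlib
import Cfsg.Agent.Lib.M24R.Defs
import Cfsg.Agent.Lib.M24E.Sextet
import Cfsg.Agent.S1551

/-!
# the stabiliser of `zv` (plans/M24R.md)
-/

set_option autoImplicit false
set_option maxHeartbeats 400000
set_option Elab.async false

namespace CfsgLib.M24R

open Subgroup Cfsg CfsgLib.Tech CfsgLib.J4T CfsgLib.J4T.Rec CfsgLib.Golay CfsgLib.M24E CfsgLib.WD.Km
open scoped Pointwise

variable {g h : M24}

namespace SxAx

theorem kr_shift {k : Bool} {a b : Finset GolayPt} (h : Kr k (symmDiff a b)) (h1 : Kr k (symmDiff a ((g : P24) • a))) :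
    Kr k (symmDiff b ((g : P24) • b)) := by
  have h2 := (h.sd h1).sd (h.smul g)
  rw [smul_symmDiff'] at h2
  convert h2 using 1
  ext p
  simp only [Finset.mem_symmDiff]
  tauto

/-- the sextet -/
def SX : Finset (Finset GolayPt) := fam [53, 786946, 5275656, 8391744, 2121856, 200960]

theorem SX_mem : SX ∈ sextets := (isSx_spec (by decide) rfl (by decide +kernel)).2

theorem tet_lt (i : Fin 6) : tet i < 2 ^ 24 := by revert i; decide

theorem mem_SX {t : Finset GolayPt} : t ∈ SX ↔ ∃ i, t = ofMask (tet i) := by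
  rw [SX, mem_fam]
  refine ⟨fun ⟨m, hm, e⟩ => ?_, fun ⟨i, e⟩ => ⟨tet i, by clear e; revert i; decide, e.symm⟩⟩
  obtain ⟨i, rfl⟩ : ∃ i, m = tet i := by clear e; revert m; decide
  exact ⟨i, e.symm⟩

theorem tet_inj {i j : Fin 6} (h : ofMask (tet i) = ofMask (tet j)) : i = j := by
  have h1 := ofMask_injOn (tet_lt i) (tet_lt j) h
  clear h
  revert i j
  decide

theorem st_false_iff : g ∈ St false ↔ (g : P24) • ofMask (tet 0) ∈ SX := by
  have h1 : Kr false (symmDiff (ofMask (vec false (zv false))) (ofMask (tet 0))) := by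
    rw [← ofMask_xor]; exact mem_of_isCode (by decide +kernel)
  rw [mem_St, ac_eq_iff (zv_lt _) (zv_lt _), mem_sextet_iff SX_mem (mem_SX.2 ⟨0, rfl⟩), Finset.card_smul_finset,
    and_iff_right (SX_mem.2.1 _ (mem_SX.2 ⟨0, rfl⟩))]
  exact ⟨kr_shift h1, kr_shift (k := false) (by rwa [symmDiff_comm])⟩

theorem st_false_iff' : g ∈ St false ↔ (g : P24) • SX = SX :=
  st_false_iff.trans (smul_sextet_eq_iff g.2 SX_mem (mem_SX.2 ⟨0, rfl⟩)).symm

end SxAx


theorem st_true_iff : g ∈ St true ↔ (g : P24) • ofMask o0 = ofMask o0 := by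
  have h1 : Kr true (symmDiff (ofMask (vec true (zv true))) (ofMask o0)) := by
    rw [← ofMask_xor, show vec true (zv true) ^^^ o0 = 16777215 by decide +kernel]
    exact Or.inr ofMask_full
  rw [mem_St, ac_eq_iff (zv_lt _) (zv_lt _)]
  refine ⟨fun h => ?_, fun h => SxAx.kr_shift (by rwa [symmDiff_comm]) (by rw [h, symmDiff_self]; exact kr_empty)⟩
  rcases SxAx.kr_shift h1 h with e | e
  · exact (symmDiff_eq_bot.1 e).symm
  · have h2 : (g : P24) • ofMask o0 = (ofMask o0)ᶜ := by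
      rw [← symmDiff_symmDiff_cancel_left (ofMask o0) ((g : P24) • ofMask o0), e]
      exact symmDiff_top _
    have h3 := congrArg Finset.card h2
    rw [Finset.card_smul_finset, ← ofMask_compl, card_ofMask (by decide), card_ofMask (by decide)] at h3
    exact absurd h3 (by decide +kernel)

theorem sg_spec (hg : g ∈ St false) (i : Fin 6) : (g : P24) • ofMask (tet i) = ofMask (tet (sg g i)) := by
  have h1 : ∀ i, ∃ j, (g : P24) • ofMask (tet i) = ofMask (tet j) := fun i =>
    SxAx.mem_SX.1 (SxAx.st_false_iff'.1 hg ▸ Finset.smul_mem_smul_finset (SxAx.mem_SX.2 ⟨i, rfl⟩))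
  choose f hf using h1
  have h2 : Function.Injective f := fun i j e =>
    SxAx.tet_inj (MulAction.injective (g : P24) ((hf i).trans (e ▸ (hf j).symm)))
  have h3 : ∃ s : Equiv.Perm (Fin 6), ∀ i, (g : P24) • ofMask (tet i) = ofMask (tet (s i)) :=
    ⟨Equiv.ofBijective f (Finite.injective_iff_bijective.1 h2), hf⟩
  rw [sg, dif_pos h3]
  exact h3.choose_spec i

theorem sg_eq (s : Equiv.Perm (Fin 6)) (h : ∀ i, (g : P24) • ofMask (tet i) = ofMask (tet (s i))) :
    g ∈ St false ∧ sg g = s := by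
  have hg : g ∈ St false := SxAx.st_false_iff.2 (SxAx.mem_SX.2 ⟨_, h 0⟩)
  exact ⟨hg, Equiv.ext fun i => SxAx.tet_inj ((sg_spec hg i).symm.trans (h i))⟩

theorem sg_mul (hg : g ∈ St false) (hh : h ∈ St false) : sg (g * h) = sg g * sg h := by
  refine (sg_eq _ fun i => ?_).2
  rw [Subgroup.coe_mul, mul_smul, sg_spec hh, sg_spec hg, Equiv.Perm.mul_apply]

theorem sg_of_rm {φ : ℕ → ℕ} (hg : RM φ g) (s : Equiv.Perm (Fin 6)) (h : ∀ i, img φ (tet i) = tet (s i)) :
    g ∈ St false ∧ sg g = s :=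
  sg_eq s fun i => (Rp.smul_eq_iff hg _ (SxAx.tet_lt _)).2 (h i)

/-- `sg` as a homomorphism -/
noncomputable def sgh : St false →* Equiv.Perm (Fin 6) := MonoidHom.mk' (fun g => sg g) fun g h => sg_mul g.2 h.2

theorem sg_one : sg 1 = 1 := map_one sgh

theorem sg_inv (hg : g ∈ St false) : sg g⁻¹ = (sg g)⁻¹ := map_inv sgh ⟨g, hg⟩

theorem sg_pow (hg : g ∈ St false) (n : ℕ) : sg (g ^ n) = sg g ^ n := map_pow sgh ⟨g, hg⟩ n

theorem E_le_St : E ≤ St false := E_le.trans (S_le_St false)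


theorem sg_E (hg : g ∈ E) : sg g = 1 := by
  obtain ⟨x, hx, rfl⟩ := (tE.mem g).1 hg
  refine (sg_of_rm (tE.rm hx) 1 ?_).2
  clear hg
  revert x
  decide +kernel

theorem sg_pp : sg (pp false) = 1 := by
  exact (sg_of_rm (rm_pp false) 1 (by decide +kernel)).2

theorem sg_ker (hg : g ∈ St false) (h : sg g = 1) : ∃ e ∈ E, ∃ i : ℕ, g = e * pp false ^ i := by
  have hn : zpowers (pp false) ≤ normalizer (E : Set M24) := zpowers_le.2 (pp_norm false)
  have hK : E ⊔ zpowers (pp false) ≤ sgh.ker.map (St false).subtype :=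
    sup_le (fun e he => ⟨⟨e, E_le_St he⟩, sg_E he, rfl⟩) (zpowers_le.2 ⟨⟨_, pp_St false⟩, sg_pp, rfl⟩)
  have h1 : Nat.card (sgh.ker.map (St false).subtype) ≤ 192 := by
    rw [← (Cfsg.Agent.S1551.result _ SxAx.SX_mem).2.1]
    refine Nat.card_le_card_of_injective (fun x => ⟨⟨x.1, SxAx.st_false_iff'.1 (map_subtype_le _ x.2)⟩, fun t ht => ?_⟩)
      fun x y e => Subtype.ext (congrArg (fun u => u.1.1) e)
    obtain ⟨i, rfl⟩ := SxAx.mem_SX.1 ht
    obtain ⟨x, y, hy, rfl⟩ := x
    exact (sg_spec y.2 i).trans (by rw [show sg y = 1 from hy]; rfl)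
  have h2 : 192 ∣ Nat.card (E ⊔ zpowers (pp false) : Subgroup M24) := by
    refine Nat.Coprime.mul_dvd_of_dvd_of_dvd (m := 64) (n := 3) (by norm_num) ?_ ?_
    · exact tE.toGp.card ▸ card_dvd_of_le le_sup_left
    · have : Fact (Nat.Prime 3) := ⟨Nat.prime_three⟩
      rw [← orderOf_eq_prime (pp_three false) fun e => by
        have := (rm_pp false).isId_iff.2 e
        revert this; decide +kernel, ← Nat.card_zpowers]
      exact card_dvd_of_le le_sup_right
  have h3 : g ∈ ((E ⊔ zpowers (pp false) : Subgroup M24) : Set M24) :=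
    (eq_of_le_of_card_ge hK (h1.trans (Nat.le_of_dvd Nat.card_pos h2))).ge ⟨⟨g, hg⟩, h, rfl⟩
  rw [coe_mul_of_right_le_normalizer_left _ _ hn] at h3
  obtain ⟨e, he, y, hy, rfl⟩ := h3
  obtain ⟨i, rfl⟩ := (mem_powers_iff_mem_zpowers.2 hy : y ∈ Submonoid.powers _)
  exact ⟨e, he, i, rfl⟩

theorem st_iff (k : Bool) : g ∈ St k ↔ g ∈ normalizer (Xk k : Set M24) := by
  refine ⟨fun hg => ?_, fun hg => ?_⟩
  · cases k
    · refine mem_normalizer_of_forall fun x hx => ?_
      have hx' := E_le_St hx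
      obtain ⟨e, he, i, e1⟩ := sg_ker (mul_mem (mul_mem hg hx') (inv_mem hg)) (by
        rw [sg_mul (mul_mem hg hx') (inv_mem hg), sg_mul hg hx', sg_E hx, sg_inv hg, mul_one, mul_inv_cancel])
      have h1 : e * pp false ^ i * (e * pp false ^ i) = 1 := by
        rw [← e1]
        calc _ = g * (x * x) * g⁻¹ := by group
          _ = 1 := by rw [tE.sq x hx]; group
      have h2 : pp false ^ (2 * i) ∈ E := by
        have h3 := conj_mem_of_mem_normalizer (pow_mem (pp_norm false) i) he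
        have e2 : pp false ^ (2 * i) = (e * (pp false ^ i * e * (pp false ^ i)⁻¹))⁻¹ := by
          rw [eq_inv_iff_mul_eq_one, mul_eq_one_comm, ← h1, two_mul, pow_add]; group
        rw [e2]
        exact inv_mem (mul_mem he h3)
      have h3 := pow_mem h2 2
      rw [← pow_mul, show 2 * i * 2 = 3 * i + i by ring, pow_add, pow_mul, pp_three, one_pow, one_mul] at h3
      rw [e1]
      exact mul_mem he h3
    · exact normR.2 (st_true_iff.1 hg)
  · refine (fx_Xk (ac_lt k g (zv k)) fun x hx => ?_).resolve_left (mt (ac_eq_zero (zv_lt k)).1 (zv_ne k))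
    have h1 : ac k (g⁻¹ * x * g) (zv k) = zv k := S_le_St k (Xk_le k (conj_mem_of_mem_normalizer' hg hx))
    rw [← ac_mul k _ _ (zv_lt k), show x * g = g * (g⁻¹ * x * g) by group, ac_mul k _ _ (zv_lt k), h1]

theorem inW_ac {k : Bool} (hg : g ∈ St k) {v : ℕ} (hv : v < 2048) (h : inW k v) : inW k (ac k g v) := by
  refine (inW_iff (ac_lt k g v)).2 fun x hx => ?_
  have h1 := ac_cm k g (g⁻¹ * x * g) hv
  rw [show g * (g⁻¹ * x * g) * g⁻¹ = x by group] at h1
  rw [← h1]
  rcases (inW_iff hv).1 h _ (conj_mem_of_mem_normalizer' ((st_iff k).1 hg) hx) with e | e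
  · exact Or.inl (by rw [e, ac_zero])
  · exact Or.inr (by rw [e]; exact hg)

end CfsgLib.M24R
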