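import Mathlib
import Cfsg.Agent.Lib.M24R.SxA

/-!
# the action on the tetrads (plans/M24R.md)
-/

set_option autoImplicit false
set_option maxHeartbeats 400000
set_option Elab.async false

namespace CfsgLib.M24R

open Subgroup Cfsg CfsgLib.Tech CfsgLib.J4T CfsgLib.J4T.Rec CfsgLib.Golay CfsgLib.M24E CfsgLib.WD.Km
open scoped Pointwise

variable {g : M24}

namespace SxBx

/-- induces a transposition -/
def s1 : ℕ := 0x551a31022cb1dd05dca8a9a5378489

/-- induces a 6-cycle -/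
def s2 : ℕ := 0x72a26b50a05b202a9c6443433ba5f2

theorem mi1 : isMi s1 = true := by decide +kernel

theorem mi2 : isMi s2 = true := by decide +kernel

theorem sg1 : mq s1 ∈ St false ∧ sg (mq s1) = Equiv.swap 0 1 := sg_of_rm (rm_of_isMi mi1) _ (by decide +kernel)

theorem sg2 : mq s2 ∈ St false ∧ sg (mq s2) = finRotate 6 := sg_of_rm (rm_of_isMi mi2) _ (by decide +kernel)

theorem exists_sg {K : Subgroup M24} (hK : K ≤ St false) (h1 : mq s1 ∈ K) (h2 : mq s2 ∈ K) (s : Equiv.Perm (Fin 6)) :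
    ∃ g ∈ K, sg g = s := by
  have h : (⊤ : Subgroup (Equiv.Perm (Fin 6))) ≤ (K.subgroupOf (St false)).map sgh := by
    rw [← Equiv.Perm.closure_cycle_adjacent_swap (isCycle_finRotate (n := 4)) support_finRotate 0, closure_le]
    rintro _ (rfl | rfl)
    exacts [⟨⟨_, hK h2⟩, h2, sg2.2⟩, ⟨⟨_, hK h1⟩, h1, sg1.2⟩]
  obtain ⟨g, hg, e⟩ := h (mem_top s)
  exact ⟨g, hg, e⟩

theorem st_ind {P : M24 → Prop} (mul : ∀ g ∈ St false, ∀ h ∈ St false, P g → P h → P (g * h)) (hE : ∀ e ∈ E, P e)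
    (hp : P (pp false)) (h1 : P (mq s1)) (h2 : P (mq s2)) (hg : g ∈ St false) : P g := by
  let K : Subgroup M24 := closure {g | g ∈ St false ∧ P g}
  have hK : K ≤ St false := (closure_le _).2 fun _ h => h.1
  have hgK : g ∈ K := by
    obtain ⟨h, hh, e⟩ := exists_sg hK (subset_closure ⟨sg1.1, h1⟩) (subset_closure ⟨sg2.1, h2⟩) (sg g)
    obtain ⟨x, hx, i, e'⟩ := sg_ker (mul_mem (inv_mem (hK hh)) hg) (by
      rw [sg_mul (inv_mem (hK hh)) hg, sg_inv (hK hh), e, inv_mul_cancel])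
    rw [inv_mul_eq_iff_eq_mul.1 e']
    have h4 : pp false ∈ K := subset_closure ⟨pp_St _, hp⟩
    exact mul_mem hh (mul_mem (subset_closure ⟨E_le_St hx, hE x hx⟩) (pow_mem h4 i))
  have h3 : g ∈ Submonoid.closure {g | g ∈ St false ∧ P g} := by
    rw [← closure_toSubmonoid_of_finite]; exact hgK
  suffices h : g ∈ St false ∧ P g from h.2
  clear hgK hg
  induction h3 using Submonoid.closure_induction with
  | mem x hx => exact hx
  | one => exact ⟨one_mem _, hE 1 (one_mem _)⟩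
  | mul x y _ _ hx hy => exact ⟨mul_mem hx.1 hy.1, mul x hx.1 y hy.1 hx.2 hy.2⟩

theorem conj_p (hg : g ∈ St false) :
    g * pp false * g⁻¹ * (pp false ^ ((Equiv.Perm.sign (sg g) : ℤˣ) : ℤ))⁻¹ ∈ E := by
  have hn : ∀ {g}, g ∈ St false → g ∈ normalizer (E : Set M24) := fun hg => (st_iff false).1 hg
  have hs : ∀ q, isMi q = true → Equiv.Perm.sign (sg (mq q)) = -1 →
      frc (cjq q (pq false) (inq q)) (fun u => memT eE 64 fun x => ap u (ap (pq false) x)) = true →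
      mq q * pp false * (mq q)⁻¹ * (pp false ^ ((Equiv.Perm.sign (sg (mq q)) : ℤˣ) : ℤ))⁻¹ ∈ E := fun q h1 h2 h3 => by
    rw [frc_eq] at h3
    simpa [h2, E] using (tE.toGp.memT_iff (((rm_of_isMi h1).cjq (rm_pp false) (rm_inq h1)).mul (rm_pp false))).1 h3
  refine st_ind (P := fun g => g * pp false * g⁻¹ * (pp false ^ ((Equiv.Perm.sign (sg g) : ℤˣ) : ℤ))⁻¹ ∈ E)
    (fun g hg h hh h1 h2 => ?_) (fun e he => ?_) ?_ (hs _ mi1 (by rw [sg1.2]; simp) (by decide +kernel))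
    (hs _ mi2 (by rw [sg2.2, sign_finRotate]; rfl) (by decide +kernel)) hg
  · have h3 := conj_mem_of_mem_normalizer (hn hg) h2
    rw [sg_mul hg hh, map_mul]
    generalize Equiv.Perm.sign (sg g) = a at h1 ⊢
    rcases Int.units_eq_one_or (Equiv.Perm.sign (sg h)) with e | e <;> rw [e] at h3 ⊢
    · convert mul_mem h3 h1 using 1
      simp [mul_assoc]
    · convert mul_mem h3 (conj_mem_of_mem_normalizer' (zpow_mem (pp_norm false) a) (inv_mem h1)) using 1
      simp [mul_assoc]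
  · have h1 := mul_mem he (conj_mem_of_mem_normalizer (pp_norm false) (inv_mem he))
    simpa [sg_E he, mul_assoc] using h1
  · simp [sg_pp]

end SxBx


theorem sg_surj (s : Equiv.Perm (Fin 6)) : ∃ g ∈ St false, sg g = s := by
  exact SxBx.exists_sg le_rfl SxBx.sg1.1 SxBx.sg2.1 s

theorem sg_even (hg : g ∈ St false) (h : Equiv.Perm.sign (sg g) = 1) : g * pp false * g⁻¹ * (pp false)⁻¹ ∈ E := by
  simpa [h] using SxBx.conj_p hg

theorem sg_odd (hg : g ∈ St false) (h : Equiv.Perm.sign (sg g) = -1) : g * pp false * g⁻¹ * pp false ∈ E := by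
  simpa [h] using SxBx.conj_p hg

theorem sg_dvec (hg : g ∈ St false) (i j : Fin 6) : inW false (ac false g (dvec i j) ^^^ dvec (sg g i) (sg g j)) := by
  have hs : ∀ q s, isMi q = true → sg (mq q) = s →
      (∀ i j, mv (wK false) (act false (ap q) (dvec i j) ^^^ dvec (s i) (s j)) = 0) →
      ∀ i j, inW false (ac false (mq q) (dvec i j) ^^^ dvec (sg (mq q) i) (sg (mq q) j)) := fun q s h1 h2 h3 i j => by
    rw [h2, ac_act (rm_of_isMi h1) (dvec_lt i j)]
    exact h3 i j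
  refine SxBx.st_ind (P := fun g => ∀ i j, inW false (ac false g (dvec i j) ^^^ dvec (sg g i) (sg g j)))
    (fun g hg h hh h1 h2 i j => ?_) (fun e he i j => ?_) (fun i j => ?_) (hs _ _ SxBx.mi1 SxBx.sg1.2 (by decide +kernel))
    (hs _ _ SxBx.mi2 SxBx.sg2.2 (by decide +kernel)) hg i j
  · have h3 := (sp_W false).xor _ (ac_lt _ _ _) _ (x_lt (ac_lt _ _ _) (dvec_lt _ _))
      (inW_ac hg (x_lt (ac_lt _ _ _) (dvec_lt _ _)) (h2 i j)) (h1 (sg h i) (sg h j))
    rwa [ac_xor _ _ (ac_lt _ _ _) (dvec_lt _ _), Nat.xor_assoc, x_cancel, ← ac_mul _ _ _ (dvec_lt _ _),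
      ← Equiv.Perm.mul_apply, ← Equiv.Perm.mul_apply, ← sg_mul hg hh] at h3
  · rw [sg_E he, Nat.xor_comm]
    exact cm_inW (k := false) he (dvec_lt i j)
  · rw [sg_pp, Nat.xor_comm]
    exact pp_triv (dvec_lt i j)

theorem sg_perf : ∃ g ∈ St false, ∃ h ∈ St false, Equiv.Perm.sign (sg g) = 1 ∧ Equiv.Perm.sign (sg h) = 1 ∧
    ∃ e ∈ E, g * h * g⁻¹ * h⁻¹ = e * pp false := by
  have m1 : isMi 0x89a6b28876bc8348208f4b0f55340e = true := by decide +kernel
  have m2 : isMi 0x7b2510156a44d26a0c970daad81c4e = true := by decide +kernel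
  have h1 := sg_of_rm (rm_of_isMi m1) (Equiv.swap 0 1 * Equiv.swap 0 4 * (Equiv.swap 2 5 * Equiv.swap 2 3))
    (by decide +kernel)
  have h2 := sg_of_rm (rm_of_isMi m2) (Equiv.swap 0 1 * Equiv.swap 0 4 * (Equiv.swap 2 3 * Equiv.swap 2 5))
    (by decide +kernel)
  refine ⟨_, h1.1, _, h2.1, by rw [h1.2]; simp, by rw [h2.2]; simp, mq (eE 17), mq_mem_tab (by norm_num), ?_⟩
  exact (((((rm_of_isMi m1).mul (rm_of_isMi m2)).mul (rm_inq m1)).mul (rm_inq m2)).eq_iff
    ((tE.rm (by norm_num)).mul (rm_pp false))).1 (by decide +kernel)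

end CfsgLib.M24R
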