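import Mathlib
import Cfsg.Agent.Lib.M24R.QA
import Cfsg.Agent.Lib.M24R.SxB

/-!
# `Q = O₂(C(z))` (plans/M24R.md)
-/

set_option autoImplicit false
set_option Elab.async false

namespace CfsgLib.M24R

open Subgroup Cfsg CfsgLib.Tech CfsgLib.J4T CfsgLib.J4T.Rec CfsgLib.Golay CfsgLib.M24E CfsgLib.WD.Km
open CfsgLib.ExtraTwo CfsgLib.LargeExtra
open scoped Pointwise

variable {G : Type*} [Group G] [Finite G] {k : Bool} {m : MV G k}

namespace O2x

/-- a section of `V → V / W` -/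
def sc (k : Bool) : ℕ := cond k 0x400040020010004001 0x8002040001

/-- the order of `V / W` -/
def nq (k : Bool) : ℕ := cond k 64 16

/-- a first element of the stabiliser -/
def q1 (k : Bool) : ℕ := cond k 0x11c6ea06ad45a6c501f195c868152b 0x3d0365dc827ca606b9454d5881c0d1

/-- a second element of the stabiliser -/
def q2 (k : Bool) : ℕ := cond k 0x28e67a482c8c1f622eae680ca4dd02 0x93ad5009103bc6c9a491a056a6dca6

/-- the matrix of `q1` -/
def a1 (k : Bool) : ℕ := cond k 0x10d08810a10218e01e04408a1a6380779 0xed5725ed7d71ed05e4a61e51ad16d598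

/-- the matrix of `q2` -/
def a2 (k : Bool) : ℕ := cond k 0x75f08a0800820290e24a220a0a810802e 0x4444024043550b39a0501ad0486a3041

theorem am1 (k : Bool) : AM k (a1 k) (mq (q1 k)) :=
  am_of (rm (by revert k; decide +kernel)) (by revert k; decide +kernel)

theorem am2 (k : Bool) : AM k (a2 k) (mq (q2 k)) :=
  am_of (rm (by revert k; decide +kernel)) (by revert k; decide +kernel)

theorem st1 (k : Bool) : mq (q1 k) ∈ St k := by rw [mem_St, am1 k _ (zv_lt k)]; revert k; decide +kernel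

theorem st2 (k : Bool) : mq (q2 k) ∈ St k := by rw [mem_St, am2 k _ (zv_lt k)]; revert k; decide +kernel

theorem sc_lt : ∀ k : Bool, ∀ x < 64, mv (sc k) x < 2048 := by decide +kernel

theorem sc_chk : ∀ k : Bool, allLT 2048 (fun v => frc (mv (wK k) v) fun x =>
    and (Nat.blt x (nq k)) (Nat.beq (mv (wK k) (mv (sc k) x)) x)) = true := by decide +kernel

/-- the action on `V / W` -/
noncomputable def aq (k : Bool) (A x : ℕ) : ℕ := frc (mv (sc k) x) fun v => frc (mv A v) (mv (wK k))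

theorem spin_chk : ∀ k : Bool, allLT (nq k) (fun x => or (Nat.beq x 0)
    (frc (spin (aq k) [a1 k, a2 k, Nat.xor mI (a1 k)] 64 x) fun O => allLT (nq k) fun y => or (Nat.beq y 0) (tb O y))) = true := by
  decide +kernel

theorem wK_lt (k : Bool) {v : ℕ} (hv : v < 2048) : mv (wK k) v < nq k ∧ mv (sc k) (mv (wK k) v) < 2048 ∧
    inW k (v ^^^ mv (sc k) (mv (wK k) v)) := by
  have h := of_allLT (sc_chk k) hv
  rw [frc_eq, Bool.and_eq_true, beq_iff', Nat.blt_eq] at h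
  refine ⟨h.1, sc_lt k _ (h.1.trans_le (by cases k <;> decide)), ?_⟩
  rw [inW, mv_xor, h.2, Nat.xor_self]

theorem xk_chk : ∀ k : Bool, allLT 1024 (fun i => frc (sE i) fun q => or
    (not (allLT 11 fun j => Nat.beq (mv (wK k) (Nat.xor (Nat.pow 2 j) (act k (ap q) (Nat.pow 2 j)))) 0))
    (memT (xE k) (nX k) (ap q))) = true := by decide +kernel

end O2x

open O2x in
theorem irr_W {P : ℕ → Prop} (hP : Sp P) (hW : ∀ v < 2048, inW k v → P v)
    (hg : ∀ g ∈ St k, ∀ v < 2048, P v → P (ac k g v)) {v : ℕ} (hv : v < 2048) (h : P v) (h' : ¬ inW k v) :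
    ∀ w < 2048, P w := by
  have red : ∀ v < 2048, (P v ↔ P (mv (sc k) (mv (wK k) v))) := fun v hv => by
    obtain ⟨-, h1, h2⟩ := wK_lt k hv
    refine ⟨fun h => ?_, fun h => ?_⟩
    · have := hP.xor _ hv _ (x_lt hv h1) h (hW _ (x_lt hv h1) h2)
      rwa [x_cancel] at this
    · have := hP.xor _ h1 _ (x_lt hv h1) h (hW _ (x_lt hv h1) h2)
      rwa [Nat.xor_comm v, x_cancel] at this
  have cl : ∀ A ∈ [a1 k, a2 k, Nat.xor mI (a1 k)], ∀ v < 2048, P v → mv A v < 2048 ∧ P (mv A v) := by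
    intro A hA v hv h
    simp only [List.mem_cons, List.not_mem_nil, or_false] at hA
    rcases hA with rfl | rfl | rfl
    · rw [← am1 k v hv]; exact ⟨ac_lt _ _ _, hg _ (st1 k) v hv h⟩
    · rw [← am2 k v hv]; exact ⟨ac_lt _ _ _, hg _ (st2 k) v hv h⟩
    · rw [← (am1 k).cm hv]; exact ⟨cm_lt _ _ hv, hP.xor _ hv _ (ac_lt _ _ _) h (hg _ (st1 k) v hv h)⟩
  intro w hw
  by_cases h0 : inW k w
  · exact hW w hw h0
  have h1 := of_allLT (spin_chk k) (wK_lt k hv).1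
  rw [Bool.or_eq_true, beq_iff', frc_eq] at h1
  have h2 := of_allLT (h1.resolve_left h') (wK_lt k hw).1
  rw [Bool.or_eq_true, beq_iff'] at h2
  refine (red w hw).2 (spin_spec (R := fun x => mv (sc k) x < 2048 ∧ P (mv (sc k) x)) (fun A hA x hx => ?_)
    ⟨(wK_lt k hv).2.1, (red v hv).1 h⟩ 64 (h2.resolve_left h0)).2
  obtain ⟨h3, h4⟩ := cl A hA _ hx.1 hx.2
  rw [aq, frc_eq, frc_eq]
  exact ⟨(wK_lt k h3).2.1, (red _ h3).1 h4⟩

theorem mem_Xk_of_cm {s : M24} (hs : s ∈ S) (h : ∀ v < 2048, inW k (cm k s v)) : s ∈ Xk k := by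
  obtain ⟨i, hi, h1⟩ := exists_sE hs
  have h2 := of_allLT (O2x.xk_chk k) hi
  rw [frc_eq, (allLT_iff _ _).2 fun j hj => beq_iff'.2 (by
    have := h _ (pw_lt hj)
    rwa [cm, ac_act h1 (pw_lt hj)] at this), Bool.not_true, Bool.false_or] at h2
  exact ((tX k).toGp.memT_iff h1).1 h2

theorem QD.core_le (d : QD m) (pre : Pre d.Q m.z) (hn : ¬ m.H ≤ m.M) : pCore 2 m.H ≤ d.Q.subgroupOf m.H := by
  set O : Subgroup G := (pCore 2 m.H).map m.H.subtype with hO
  have hp : IsPGroup 2 O := (Core.isPGroup_pCore 2 m.H).map _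
  have hOH : O ≤ m.H := map_subtype_le _
  have hc : ∀ h ∈ m.H, ∀ x ∈ O, h * x * h⁻¹ ∈ O := by
    rintro h hh _ ⟨x, hx, rfl⟩
    exact ⟨_, (pCore_normal 2 m.H).conj_mem x hx ⟨h, hh⟩, rfl⟩
  have hN : m.H ≤ normalizer (O : Set G) := fun h hh => mem_normalizer_of_forall (hc h hh)
  have hT : O ≤ m.T := (m.syl.of_le MV.T_le_H le_top).le_of_le_normalizer hp hOH hN
  have hQH : d.Q ≤ m.H := d.le_T.trans MV.T_le_H
  have hQ : d.Q ≤ O := fun x hx => ⟨⟨x, hQH hx⟩, Core.le_pCore (N := d.Q.subgroupOf m.H)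
    (hN := ⟨fun a ha g => pre.norm g (MV.mem_H.1 g.2) a ha⟩) ((MV.T_two.to_le d.le_T).comap_subtype) hx, rfl⟩
  have hW : ∀ v < 2048, m.θ v ∈ O → inW k v := fun v hv h => by
    by_contra h'
    have hV := irr_W (MV.sp_mem O) (fun v hv h => hQ ((d.inf v hv).2 h)) (fun g hg v hv h => by
      obtain ⟨x, hx, rfl⟩ := m.π_surj g
      rw [← m.conj x hx v hv]
      exact hc x ((MV.mem_H_iff hx).2 hg) _ h) hv h h'
    refine hn fun g hg => MV.wc ?_
    rintro _ ⟨y, hy, rfl⟩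
    obtain ⟨w, hw, rfl⟩ := (m.mem_V y).1 hy
    exact MV.T_le (hT (hc g hg _ (hV w hw)))
  intro o ho
  have ho' : (o : G) ∈ O := ⟨o, ho, rfl⟩
  have hM := MV.T_le (hT ho')
  have hX : m.π o ∈ Xk k := mem_Xk_of_cm (MV.mem_T.1 (hT ho')).2 fun v hv => hW _ (cm_lt _ _ hv) (by
    have := mul_mem (hc _ (MV.V_le_H (MV.θ_mem hv)) _ ho') (inv_mem ho')
    rwa [MV.conj_θ hM hv, mul_inv_cancel_right] at this)
  obtain ⟨q, hq, e⟩ := d.π_surj _ hX
  obtain ⟨v, hv, e'⟩ := MV.exists_θ_of_π_eq hM (d.le hq) e.symm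
  have h1 : m.θ v ∈ O := by
    have := mul_mem ho' (inv_mem (hQ hq))
    rwa [e', mul_inv_cancel_right] at this
  rw [mem_subgroupOf, e']
  exact mul_mem ((d.inf v hv).2 (hW v hv h1)) hq

end CfsgLib.M24R
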