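import Mathlib
import Cfsg.Agent.Lib.M24R.O2
import Cfsg.Agent.Lib.M24R.CgA

/-!
# the code module leads to `Co₁` (plans/M24R.md)
-/

set_option autoImplicit false
set_option maxHeartbeats 400000
set_option Elab.async false

namespace CfsgLib.M24R

open Subgroup Cfsg CfsgLib.Tech CfsgLib.J4T CfsgLib.J4T.Rec CfsgLib.Golay CfsgLib.M24E CfsgLib.WD.Km
open CfsgLib.ExtraTwo CfsgLib.LargeExtra
open scoped Pointwise

variable {G : Type*} [Group G] [Finite G] {m : MV G true}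

namespace CgBx

/-- maps `zv` to `2` -/
def q0 : ℕ := 0x8007215105b996ab38e9ab0338b48f

theorem mi0 : isMi q0 = true := by decide +kernel

theorem ac0 : ac true (mq q0) (zv true) = 2 := by rw [ac_act (rm_of_isMi mi0) (zv_lt _)]; decide +kernel

theorem inf_R {x : M24} (hx : x ∈ R) (h : (mq q0)⁻¹ * x * mq q0 ∈ R) : x = 1 := by
  obtain ⟨i, hi, rfl⟩ := (tR.mem x).1 hx
  have h1 := (tR.toGp.memT_iff (((rm_inq mi0).mul (tR.rm hi)).mul (rm_of_isMi mi0)).mk).2 h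
  have h2 := of_allLT (n := 16) (f := fun i => or (Nat.beq i 0)
    (not (memT uE 16 (ap (M24E.mk fun x => ap (inq q0) (ap (uE i) (ap q0 x))))))) (by decide +kernel) hi
  rw [h1, Bool.not_true, Bool.or_false, beq_iff'] at h2
  rw [h2, tR.zero]

theorem inf_W : (nc fun v => inW true v ∧ inW true (ac true (mq q0)⁻¹ v)) = 4 := by
  have h := ((sm_W true).and (sm_ker (frc (mat true (ap (inq q0))) fun A => mm (wK true) A))).congr
    (Q := fun v => inW true v ∧ inW true (ac true (mq q0)⁻¹ v)) fun v hv => by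
      rw [frc_eq, mv_mm _ _ (lt12 hv), ← am_mat true (rm_inq mi0) v hv]; rfl
  exact h.nc.trans (by decide +kernel)

theorem tr_W {v : ℕ} (hv : v < 2048) (h : inW true v) (h0 : v ≠ 0) (h1 : v ≠ zv true) :
    ∃ g ∈ St true, ac true g 2 = v := by
  refine exists_of_spin (n := 64) (L := [O2x.a1 true, O2x.a2 true]) (by norm_num) (by
    simp only [List.mem_cons, List.not_mem_nil, or_false]
    rintro _ (rfl | rfl)
    exacts [⟨_, O2x.st1 true, O2x.am1 true⟩, ⟨_, O2x.st2 true, O2x.am2 true⟩]) ?_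
  have h2 : frc (spin mv [O2x.a1 true, O2x.a2 true] 64 2) (fun O => allLT 2048 fun v =>
      or (or (Nat.beq v 0) (Nat.beq v (zv true))) (or (tb O v) (not (Nat.beq (mv (wK true) v) 0)))) = true := by
    decide +kernel
  rw [frc_eq] at h2
  have h3 := of_allLT h2 hv
  rw [show mv (wK true) v = 0 from h] at h3
  simpa [h0, h1] using h3

end CgBx


theorem not_norm_W (m : MV G true) (hO : pPrimeCore 2 m.H = ⊥) (hn : ¬ m.H ≤ m.M) :
    ¬ m.H ≤ normalizer (m.W : Set G) := by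
  intro hW
  have hT : IsSylowIn 2 m.T m.H := m.syl.of_le MV.T_le_H le_top
  have hC : centralizer (m.W : Set G) ≤ m.H := fun c hc =>
    MV.mem_H.2 (hc _ ((MV.θ_mem_W (zv_lt _)).2 (inW_zv _))).symm
  have hN : m.H ≤ normalizer ((centralizer (m.W : Set G) : Subgroup G) : Set G) := fun h hh =>
    mem_normalizer_of_forall fun c hc q hq => by
      have h1 := hc _ (conj_mem_of_mem_normalizer' (hW hh) hq)
      calc q * (h * c * h⁻¹) = h * (h⁻¹ * q * h * c) * h⁻¹ := by group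
        _ = h * c * h⁻¹ * q := by rw [h1]; group
  have e : m.T ⊓ centralizer (m.W : Set G) = m.V := by
    refine le_antisymm (fun x hx => (m.π_eq_one x (MV.T_le hx.1)).1 (eq_one_of_fx_W (MV.mem_T.1 hx.1).2 fun v hv hw =>
      (MV.comm_iff (MV.T_le hx.1) hv).1 (hx.2 _ ((MV.θ_mem_W hv).2 hw)).symm))
      (le_inf MV.V_le_T fun v hv w hw => MV.V_comm (MV.sub_le hw) hv)
  have hs := hT.inf_of_le_normalizer hN
  rw [inf_eq_right.2 hC, e] at hs
  have h1 : ∀ n ∈ centralizer (m.W : Set G), n ∈ m.M → n ∈ m.V := fun n hn hm => by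
    have h2 : m.π n ∈ normalizer (R : Set M24) := (st_iff true).1 ((MV.mem_H_iff hm).1 (hC hn))
    refine e.le (mem_inf.2 ⟨MV.mem_T.2 ⟨hm, R_le (eaR.cent _ fun r hr => ?_)⟩, hn⟩)
    obtain ⟨q, hq, rfl⟩ := m.π_surj r
    have hq' : q ∈ m.T := MV.mem_T.2 ⟨hq, R_le hr⟩
    have h3 : n * q * n⁻¹ * q⁻¹ ∈ m.M := mul_mem (mul_mem (mul_mem hm hq) (inv_mem hm)) (inv_mem hq)
    have h4 : m.π (n * q * n⁻¹ * q⁻¹) = m.π n * m.π q * (m.π n)⁻¹ * (m.π q)⁻¹ := by
      rw [m.π_mul _ (mul_mem (mul_mem hm hq) (inv_mem hm)) _ (inv_mem hq), MV.π_conj hm hq, MV.π_inv hq]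
    have h5 : n * q * n⁻¹ * q⁻¹ ∈ m.V := e.le (mem_inf.2 ⟨MV.mem_T.2 ⟨h3, h4 ▸ R_le
      (mul_mem (conj_mem_of_mem_normalizer h2 hr) (inv_mem hr))⟩, by
        simpa [mul_assoc] using mul_mem hn (conj_mem_of_mem_normalizer (hN (MV.T_le_H hq')) (inv_mem hn))⟩)
    rw [MV.π_V h5] at h4
    exact mul_inv_eq_iff_eq_mul.1 (mul_inv_eq_one.1 h4.symm)
  have h2 : centralizer (m.W : Set G) ≤ m.V :=
    W2.le_of_npc (W2.npc_of_burnside hs fun n hn hm x hx => MV.V_comm (h1 n hn hm) hx) hs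
      ((PComp.opOf_le_opOf_of_le_normalizer hC hN).trans (by rw [PComp.opOf_def, hO, Subgroup.map_bot]; exact bot_le)) le_rfl
  exact hn (by rwa [le_antisymm h2 hs.le] at hN)

theorem golay (d : QD m) (pre : Pre d.Q m.z) (hO : pPrimeCore 2 m.H = ⊥) (hn : ¬ m.H ≤ m.M) : Spor.IsoCo1 G := by
  obtain ⟨g, hg, e⟩ := m.π_surj (mq CgBx.q0)
  have ht : g * m.z * g⁻¹ = m.θ 2 := by rw [MV.z, m.conj g hg _ (zv_lt _), e, CgBx.ac0]
  have h2 : (2 : ℕ) < 2048 := by norm_num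
  have htQ : m.θ 2 ∈ d.Q := (d.inf 2 h2).2 (by unfold inW; decide +kernel)
  obtain ⟨h, hh, hc⟩ : ∃ h ∈ m.H, h * m.θ 2 * h⁻¹ * m.θ 2 ≠ m.θ 2 * (h * m.θ 2 * h⁻¹) := by
    by_contra! H
    let A : Subgroup G := closure {x | ∃ h ∈ m.H, x = h * m.θ 2 * h⁻¹}
    have hA : ∀ h ∈ m.H, h * m.θ 2 * h⁻¹ ∈ A := fun h hh => subset_closure ⟨h, hh, rfl⟩
    have hAQ : A ≤ d.Q := (closure_le _).2 (by rintro _ ⟨h, hh, rfl⟩; exact pre.norm h (MV.mem_H.1 hh) _ htQ)
    have hc : ∀ x ∈ A, ∀ y ∈ A, x * y = y * x := by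
      refine fun x hx y hy => closure_induction₂ (p := fun x y _ _ => Commute x y) ?_ (fun _ _ => Commute.one_left _)
        (fun _ _ => Commute.one_right _) (fun _ _ _ _ _ _ => Commute.mul_left) (fun _ _ _ _ _ _ => Commute.mul_right)
        (fun _ _ _ _ => Commute.inv_left) (fun _ _ _ _ => Commute.inv_right) hx hy
      rintro _ _ ⟨a, ha, rfl⟩ ⟨b, hb, rfl⟩
      have h1 := H _ (mul_mem (inv_mem hb) ha)
      calc _ = b * (b⁻¹ * a * m.θ 2 * (b⁻¹ * a)⁻¹ * m.θ 2) * b⁻¹ := by group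
        _ = _ := by rw [h1]; group
    have h3 : ∀ v < 2048, inW true v → v ≠ 0 → v ≠ zv true → m.θ v ∈ A := fun v hv h h0 h1 => by
      obtain ⟨y, hy, rfl⟩ := CgBx.tr_W hv h h0 h1
      obtain ⟨x, hx, rfl⟩ := m.π_surj y
      rw [← m.conj x hx 2 h2]
      exact hA x ((MV.mem_H_iff hx).2 hy)
    have hWA : m.W ≤ A := by
      rintro _ ⟨v, hv, h, rfl⟩
      by_cases h0 : v = 0
      · rw [h0, m.θ_zero]; exact one_mem _
      by_cases h1 : v = zv true
      · rw [h1, show zv true = 2 ^^^ 904 by decide, m.θ_xor 2 h2 904 (by norm_num)]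
        exact mul_mem (by simpa using hA 1 (one_mem _))
          (h3 904 (by norm_num) (by unfold inW; decide +kernel) (by norm_num) (by decide))
      · exact h3 v hv h h0 h1
    refine not_norm_W m hO hn fun h hh => ?_
    rw [eq_of_le_of_card_ge hWA ((d.ab (g := 1) (by rwa [cj_one]) hc).trans MV.card_W.ge)]
    refine mem_normalizer_of_cj_le ?_
    rw [map_le_iff_le_comap, closure_le]
    rintro _ ⟨a, ha, rfl⟩
    have := hA _ (mul_mem hh ha)
    simpa [mul_assoc] using this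
  refine co1_of (W := m.W) (g := g) (h := h) pre d.card (d.core_le pre hn) (ht ▸ htQ)
    (by rw [ht]; exact fun e => absurd ((MV.θ_eq_z h2).1 e) (by decide)) ?_ (MV.mem_H.1 hh) (by rwa [ht]) d.W_le
    (fun w hw => MV.V_sq (MV.sub_le hw)) MV.card_W fun h22 => ?_
  · have h3 : ∀ x ∈ d.Q, m.π (g⁻¹ * x * g) = (mq CgBx.q0)⁻¹ * m.π x * mq CgBx.q0 := fun x hx => by
      have h4 := MV.π_conj (inv_mem hg) (d.le hx)
      rwa [MV.π_inv hg, inv_inv, inv_inv, e] at h4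
    have h4 : d.Q ⊓ cj g d.Q ≤ m.V := fun x hx => (m.π_eq_one x (d.le hx.1)).1
      (CgBx.inf_R (d.π_mem x hx.1) (h3 x hx.1 ▸ d.π_mem _ (mem_cj.1 hx.2)))
    rw [← inf_eq_left.2 h4, MV.card_inf_V, ← CgBx.inf_W]
    refine nc_mono fun v hv h => ⟨(d.inf v hv).1 h.1, (d.inf _ (ac_lt _ _ _)).1 ?_⟩
    have h5 := m.conj _ (inv_mem hg) v hv
    rw [MV.π_inv hg, inv_inv, e] at h5
    exact h5 ▸ mem_cj.1 h.2
  · have hT : IsSylowIn 2 m.T m.H := m.syl.of_le MV.T_le_H le_top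
    rw [← card_mul_relIndex' hT.le, MV.card_T, pow_succ] at h22
    exact hT.not_dvd (Nat.dvd_of_mul_dvd_mul_left (by norm_num) h22)

end CfsgLib.M24R
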