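import Mathlib
import Cfsg.Agent.Lib.M24R.Defs

/-!
# actions through `S₃ ≀ 2`; stabilisers of chains (plans/M24R.md)
-/

set_option autoImplicit false
set_option Elab.async false

namespace CfsgLib.M24R

open Subgroup Cfsg CfsgLib.Tech CfsgLib.J4T CfsgLib.J4T.Rec CfsgLib.Golay CfsgLib.M24E CfsgLib.WD.Km
open CfsgLib.ExtraTwo CfsgLib.LargeExtra
open scoped Pointwise

variable {G : Type*} [Group G] [Finite G]

namespace CtBx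

/-- rotations of the two blocks -/
def rt (a b : Fin 3) (i : Fin 6) : Fin 6 :=
  if i.val < 3 then ⟨(i.val + a.val) % 3, by omega⟩ else ⟨3 + (i.val + b.val) % 3, by omega⟩

theorem rt_add : ∀ a b a' b' i, rt a b (rt a' b' i) = rt (a + a') (b + b') i := by decide +kernel

theorem rt_zero : ∀ i, rt 0 0 i = i := by decide

/-- the group of rotations of the two blocks -/
def D0 : Subgroup (Equiv.Perm (Fin 6)) where
  carrier := {s | ∃ a b, ∀ i, s i = rt a b i}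
  one_mem' := ⟨0, 0, fun i => (rt_zero i).symm⟩
  mul_mem' := fun ⟨a, b, h⟩ ⟨a', b', h'⟩ => ⟨_, _, fun i => by rw [Equiv.Perm.mul_apply, h, h', rt_add]⟩
  inv_mem' := fun {s} ⟨a, b, h⟩ => ⟨-a, -b, fun i => by
    rw [Equiv.Perm.inv_eq_iff_eq, h, rt_add, add_neg_cancel, add_neg_cancel, rt_zero]⟩

/-- the facts needed on a permutation of the blocks -/
def Ok (s : Fin 6 → Fin 6) : Prop :=
  (∃ a b, ∀ i, s (s (s (s i))) = rt a b i) ∧ ∀ a b, ∃ a' b', ∀ i, s (rt a b i) = rt a' b' (s i)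

instance : DecidablePred Ok := fun _ => inferInstanceAs (Decidable (_ ∧ _))

set_option synthInstance.maxSize 1024 in
theorem chk : ∀ a0 a1 : Fin 6, a0 ≠ a1 → a0.val / 3 = a1.val / 3 → ∀ a2 : Fin 6, a0 ≠ a2 → a1 ≠ a2 →
    a0.val / 3 = a2.val / 3 → ∀ a3 : Fin 6, a0.val / 3 ≠ a3.val / 3 → ∀ a4 : Fin 6, a3 ≠ a4 → a3.val / 3 = a4.val / 3 →
    ∀ a5 : Fin 6, a3 ≠ a5 → a4 ≠ a5 → a3.val / 3 = a5.val / 3 → Ok ![a0, a1, a2, a3, a4, a5] := by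
  decide +kernel

theorem blk_D0 {s : Equiv.Perm (Fin 6)} (h : ∀ i j : Fin 6, i.val / 3 = j.val / 3 ↔ (s i).val / 3 = (s j).val / 3) :
    s ^ 4 ∈ D0 ∧ ∀ d ∈ D0, s * d * s⁻¹ ∈ D0 := by
  have := chk (s 0) (s 1) (by simp) ((h 0 1).1 rfl) (s 2) (by simp) (by simp) ((h 0 2).1 rfl) (s 3)
    (fun e => absurd ((h 0 3).2 e) (by decide)) (s 4) (by simp) ((h 3 4).1 rfl) (s 5) (by simp) (by simp)
    ((h 3 5).1 rfl)
  rw [show ![s 0, s 1, s 2, s 3, s 4, s 5] = s by ext i; fin_cases i <;> rfl] at this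
  obtain ⟨h1, h2⟩ := this
  refine ⟨h1, fun d ⟨a, b, hd⟩ => ?_⟩
  obtain ⟨a', b', e⟩ := h2 a b
  exact ⟨a', b', fun i => by rw [Equiv.Perm.mul_apply, Equiv.Perm.mul_apply, hd, e]; simp⟩

omit [Finite G] in
theorem step {g q b b' : G} (h : q⁻¹ * (g * q * g⁻¹) = b) (hb : b⁻¹ * (g * b * g⁻¹) = b') :
    q⁻¹ * (g ^ 2 * q * (g ^ 2)⁻¹) = b * b * b' := by
  rw [← hb, mul_assoc b, mul_inv_cancel_left, ← h, sq]; group

end CtBx

open CtBx in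
theorem wr {C K : Subgroup G} (hK : C ≤ normalizer (K : Set G)) (f : Fin 6 → G)
    (inj : ∀ i j, (f j)⁻¹ * f i ∈ K → i = j) (perm : ∀ c ∈ C, ∀ i, ∃ j, (f j)⁻¹ * (c * f i * c⁻¹) ∈ K)
    (blk : ∀ c ∈ C, ∀ i j i' j' : Fin 6, (f i')⁻¹ * (c * f i * c⁻¹) ∈ K → (f j')⁻¹ * (c * f j * c⁻¹) ∈ K →
      (i.val / 3 = j.val / 3 ↔ i'.val / 3 = j'.val / 3)) :
    ∃ D ≤ C, C ≤ normalizer (D : Set G) ∧ (∀ c ∈ C, c ^ 4 ∈ D) ∧
      (∀ a ∈ D, ∀ b ∈ D, ∀ i, (f i)⁻¹ * (a * b * a⁻¹ * b⁻¹ * f i * (a * b * a⁻¹ * b⁻¹)⁻¹) ∈ K) ∧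
      ∀ c ∈ C, (∀ i, (f i)⁻¹ * (c * f i * c⁻¹) ∈ K) → c ∈ D := by
  choose! s hs using perm
  have un : ∀ c ∈ C, ∀ i j, (f j)⁻¹ * (c * f i * c⁻¹) ∈ K → s c i = j := fun c hc i j h => inj _ _ (by
    have := mul_mem h (inv_mem (hs c hc i))
    rwa [mul_inv_rev, inv_inv, mul_assoc, mul_inv_cancel_left] at this)
  let σ0 : C →* Function.End (Fin 6) :=
    { toFun := fun c => s c
      map_one' := funext fun i => un 1 (one_mem _) i i (by simp)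
      map_mul' := fun c d => funext fun i => un _ (c * d).2 i (s c (s d i)) (by
        have := mul_mem (hs c c.2 (s d i)) (conj_mem_of_mem_normalizer (hK c.2) (hs d d.2 i))
        convert this using 1
        rw [coe_mul]; group) }
  let σ := σ0.toHomPerm
  have hσ : ∀ (c : C) i, σ c i = s c i := fun _ _ => rfl
  have hb : ∀ c : C, σ c ^ 4 ∈ D0 ∧ ∀ d ∈ D0, σ c * d * (σ c)⁻¹ ∈ D0 := fun c =>
    blk_D0 fun i j => blk c c.2 i j _ _ (hs c c.2 i) (hs c c.2 j)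
  refine ⟨(D0.comap σ).map C.subtype, map_subtype_le _, fun c hc => mem_normalizer_of_forall ?_, fun c hc =>
    ⟨⟨c, hc⟩ ^ 4, (map_pow σ _ 4).symm ▸ (hb ⟨c, hc⟩).1, rfl⟩, ?_, fun c hc h => ⟨⟨c, hc⟩, ⟨0, 0, fun i => ?_⟩, rfl⟩⟩
  · rintro _ ⟨x, hx, rfl⟩
    exact ⟨⟨c, hc⟩ * x * ⟨c, hc⟩⁻¹, by simpa using (hb ⟨c, hc⟩).2 _ hx, rfl⟩
  · rintro _ ⟨a, ⟨a1, a2, ha⟩, rfl⟩ _ ⟨b, ⟨b1, b2, hb⟩, rfl⟩ i
    have e : σ a * σ b = σ b * σ a := Equiv.ext fun i => by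
      simp only [Equiv.Perm.mul_apply, ha, hb, rt_add, add_comm]
    have e1 : σ (a * b * a⁻¹ * b⁻¹) = 1 := by
      rw [map_mul, map_mul, map_mul, e, map_inv, map_inv]; group
    have := hs _ (a * b * a⁻¹ * b⁻¹).2 i
    rwa [← hσ, e1] at this
  · rw [hσ, un c hc i i (h i), rt_zero]

omit [Finite G] in
theorem pow16 {Q A B : Subgroup G} {z c : G} (pre : Pre Q z) (hB : B ≤ A) (hA : A ≤ Q) (hz : z ∈ B) (hc : c * z = z * c)
    (h1 : ∀ q ∈ Q, q⁻¹ * (c * q * c⁻¹) ∈ A) (h2 : ∀ q ∈ A, q⁻¹ * (c * q * c⁻¹) ∈ B)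
    (h3 : ∀ q ∈ B, q⁻¹ * (c * q * c⁻¹) ∈ zpowers z) : c ^ 16 = 1 := by
  have es := pre.es
  have sq : ∀ q ∈ Q, q * q ∈ zpowers z := fun q hq => es.mem_zpowers.2 (es.sq hq)
  have kz : ∀ g : G, Commute g z → ∀ q, q⁻¹ * (g * q * g⁻¹) ∈ zpowers z → q⁻¹ * (g ^ 2 * q * (g ^ 2)⁻¹) = 1 :=
    fun g hg q h => by
      rcases es.mem_zpowers.1 h with e | e <;> rw [CtBx.step e rfl]
      · simp
      · rw [hg.mul_inv_cancel, es.mul_self, inv_mul_cancel, one_mul]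
  have k2 : ∀ q ∈ Q, q⁻¹ * (c ^ 2 * q * (c ^ 2)⁻¹) ∈ B := fun q hq => by
    rw [CtBx.step rfl rfl]
    exact mul_mem (zpowers_le.2 hz (sq _ (hA (h1 q hq)))) (h2 _ (h1 q hq))
  have k4 : ∀ q ∈ Q, q⁻¹ * ((c ^ 2) ^ 2 * q * ((c ^ 2) ^ 2)⁻¹) ∈ zpowers z := fun q hq => by
    rw [CtBx.step rfl (kz c hc _ (h3 _ (k2 q hq))), mul_one]
    exact sq _ (hA (hB (k2 q hq)))
  have k8 := pre.cent (((c ^ 2) ^ 2) ^ 2) fun q hq => by
    have := kz _ (((show Commute c z from hc).pow_left 2).pow_left 2) q (k4 q hq)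
    rw [inv_mul_eq_one, eq_mul_inv_iff_mul_eq] at this
    exact this
  rw [show c ^ 16 = ((c ^ 2) ^ 2) ^ 2 * ((c ^ 2) ^ 2) ^ 2 by group]
  rcases k8 with e | e <;> rw [e]
  exacts [one_mul 1, es.mul_self]

end CfsgLib.M24R
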