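import Mathlib
import Cfsg.Agent.Lib.M24R.QA
import Cfsg.Agent.Lib.M24R.CtB

/-!
# the action of `C(v₀ Q)` on `[Q, v₀]` (plans/M24R.md)
-/

set_option autoImplicit false
set_option Elab.async false

namespace CfsgLib.M24R

open Subgroup Cfsg CfsgLib.Tech CfsgLib.J4T CfsgLib.J4T.Rec CfsgLib.Golay CfsgLib.M24E CfsgLib.WD.Km
open CfsgLib.ExtraTwo CfsgLib.LargeExtra
open scoped Pointwise

variable {G : Type*} [Group G] [Finite G] {m : MV G false}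

namespace CtUx

/-- the commutators of `E` with `v₀` -/
noncomputable def cU (e : ℕ) : ℕ := mv (Nat.xor mI (xM false e)) 234

theorem cU_eq {e : ℕ} (he : e < 64) : cm false (mq (eE e)) 234 = cU e := (am_x false he).cm (by norm_num)

theorem inU_iff {v : ℕ} (hv : v < 2048) : inU v ↔ ∃ e < 64, v = cU e ∨ v = cU e ^^^ zv false := by
  have lt : ∀ e < 64, cU e < 2048 := fun e he => cU_eq he ▸ cm_lt _ _ (by norm_num)
  refine (((sm_ker _).eq_iff ((sm_im (p := fun _ => true) (f := cU) (n := 64) fun e he _ => lt e he).or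
    (sm_im (p := fun _ => true) (f := fun e => cU e ^^^ zv false) (n := 64) fun e he _ =>
      x_lt (lt e he) (zv_lt false)))).1 (by clear lt hv; decide +kernel) v hv).trans ?_
  simp only [true_and, ← exists_or, ← and_or_left, eq_comm]

/-- representatives of the six special classes of `U / ⟨z⟩` -/
def fv (i : Fin 6) : ℕ := [192, 1055, 1247, 318, 1272, 1478].getD i 0

theorem fv_lt : ∀ i, fv i < 2048 := by decide

theorem fv_U : ∀ i, inU (fv i) ∧ tz false (fv i) = false ∧ fv i ≠ 0 := by unfold inU; decide +kernel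

theorem fv_inj : ∀ i j, fv j ^^^ fv i = 0 ∨ fv j ^^^ fv i = zv false → i = j := by decide +kernel

theorem fv_blk : ∀ i j : Fin 6, tz false (fv i ^^^ fv j) = true ∧ tz false (fv i ^^^ fv j ^^^ zv false) = true ↔
    i.val / 3 ≠ j.val / 3 := by decide +kernel

theorem U_list {v : ℕ} (hv : v < 2048) (h : inU v) : v ∈ (List.range 32).map (mv 0x3eb4f813e41f0c0) :=
  ((sm_ker _).le_iff (sm_ls (by decide +kernel))).1 (by clear hv h; decide +kernel) v hv h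

theorem U_ntz {v : ℕ} (hv : v < 2048) (h : inU v) : tz false v = false → v ≠ 0 →
    ∃ j, fv j ^^^ v = 0 ∨ fv j ^^^ v = zv false := by
  have := U_list hv h
  clear hv h; revert v; decide +kernel

theorem U_gen {v : ℕ} (hv : v < 2048) (h : inU v) : ∃ i j, v = fv i ^^^ fv j ∨ v = fv i ^^^ fv j ^^^ zv false := by
  have := U_list hv h
  clear hv h; revert v; decide +kernel

omit [Finite G] in
theorem mem_z {x : G} : x ∈ zpowers m.z ↔ x = 1 ∨ x = m.z := ExtraTwo.mem_zpowers_iff_of_mul_self MV.z_sq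

omit [Finite G] in
theorem θ_mem_z {v w : ℕ} (hv : v < 2048) (hw : w < 2048) :
    (m.θ v)⁻¹ * m.θ w ∈ zpowers m.z ↔ v ^^^ w = 0 ∨ v ^^^ w = zv false := by
  rw [mem_z, m.θ_inv hv, ← m.θ_xor v hv w hw, MV.θ_eq_one (x_lt hv hw), MV.θ_eq_z (x_lt hv hw)]

/-- both `x` and `x z` are conjugate to `z` -/
def TT (m : MV G false) (x : G) : Prop := IsConj m.z x ∧ IsConj m.z (x * m.z)

omit [Finite G] in
theorem TT.conj {c x : G} (hc : c ∈ m.H) (h : TT m x) : TT m (c * x * c⁻¹) :=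
  ⟨h.1.trans (isConj_iff.2 ⟨c, rfl⟩), h.2.trans (isConj_iff.2 ⟨c, by
    rw [← conj_mul, MV.mem_H.1 hc, mul_inv_cancel_right]⟩)⟩

omit [Finite G] in
theorem TT.mul {x y : G} (hy : y ∈ zpowers m.z) (h : TT m x) : TT m (x * y) := by
  rcases mem_z.1 hy with rfl | rfl
  · rwa [mul_one]
  · exact ⟨h.2, by rw [mul_assoc, MV.z_sq, mul_one]; exact h.1⟩

theorem tt_iff (i j : Fin 6) : TT m (m.θ (fv i) * m.θ (fv j)) ↔ i.val / 3 ≠ j.val / 3 := by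
  have h := x_lt (fv_lt i) (fv_lt j)
  rw [TT, ← m.θ_xor _ (fv_lt i) _ (fv_lt j), MV.z, ← m.θ_xor _ h _ (zv_lt false), ← MV.z, MV.isConj_z h,
    MV.isConj_z (x_lt h (zv_lt false)), fv_blk]

omit [Finite G] in
theorem mul_z {g a b : G} (hb : b ∈ m.V) {a' b' : G} (h1 : a'⁻¹ * (g * a * g⁻¹) ∈ zpowers m.z)
    (h2 : b⁻¹ * (g * b' * g⁻¹) ∈ zpowers m.z) : (a' * b)⁻¹ * (g * (a * b') * g⁻¹) ∈ zpowers m.z := by
  have := mul_mem h1 h2
  rwa [MV.V_comm (zpowers_le.2 MV.z_mem h1) (zpowers_le.2 MV.z_mem h2), ← mul_assoc, show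
    b⁻¹ * (g * b' * g⁻¹) * a'⁻¹ * (g * a * g⁻¹) = b⁻¹ * (g * b' * g⁻¹ * (a'⁻¹ * (g * a * g⁻¹))) by group,
    show g * b' * g⁻¹ = b * (b⁻¹ * (g * b' * g⁻¹)) by group,
    MV.V_comm (mul_mem hb (zpowers_le.2 MV.z_mem h2)) (zpowers_le.2 MV.z_mem h1),
    show b⁻¹ * (a'⁻¹ * (g * a * g⁻¹) * (b * (b⁻¹ * (g * b' * g⁻¹)))) = (a' * b)⁻¹ * (g * (a * b') * g⁻¹) by
      group] at this

end CtUx

open CtUx

omit [Finite G] in
theorem QD.mem_U (d : QD m) {x : G} : x ∈ m.U ↔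
    ∃ q ∈ d.Q, x = q * m.θ 234 * q⁻¹ * m.θ 234 ∨ x = q * m.θ 234 * q⁻¹ * m.θ 234 * m.z := by
  have h0 : 234 < 2048 := by norm_num
  have key : ∀ q ∈ d.Q, ∀ e < 64, m.π q = mq (eE e) → q * m.θ 234 * q⁻¹ * m.θ 234 = m.θ (cU e) ∧ cU e < 2048 :=
    fun q hq e he h => by
      rw [← cU_eq he, ← h, ← MV.cm_eq (d.le hq) h0, m.conj q (d.le hq) _ h0, MV.θ_comm h0 (ac_lt _ _ _)]
      exact ⟨rfl, cm_lt _ _ h0⟩
  refine ⟨fun ⟨v, hv, h, e⟩ => ?_, fun ⟨q, hq, h⟩ => ?_⟩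
  · obtain ⟨i, hi, h1⟩ := (inU_iff hv).1 h
    obtain ⟨q, hq, e1⟩ := d.π_surj _ (mem_Xk.2 ⟨i, hi, rfl⟩)
    obtain ⟨h2, h3⟩ := key q hq i hi e1
    exact ⟨q, hq, h1.imp (fun h => by rw [h2, e, h]) fun h => by rw [h2, e, h, m.θ_xor _ h3 _ (zv_lt false), MV.z]⟩
  · obtain ⟨i, hi, e1⟩ := mem_Xk.1 (d.π_mem q hq)
    obtain ⟨h2, h3⟩ := key q hq i hi e1
    rcases h with h | h
    · exact ⟨_, h3, (inU_iff h3).2 ⟨i, hi, .inl rfl⟩, h.trans h2⟩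
    · have h4 := x_lt h3 (zv_lt false)
      exact ⟨_, h4, (inU_iff h4).2 ⟨i, hi, .inr rfl⟩, by rw [h, h2, m.θ_xor _ h3 _ (zv_lt false), MV.z]⟩

theorem QD.norm_U (d : QD m) (pre : Pre d.Q m.z) {c : G} (hc : c ∈ m.H) (h : c * m.θ 234 * c⁻¹ * m.θ 234 ∈ d.Q) :
    c ∈ normalizer (m.U : Set G) := by
  have h0 : 234 < 2048 := by norm_num
  have hz : c * m.z * c⁻¹ = m.z := by rw [MV.mem_H.1 hc, mul_inv_cancel_right]
  have key : ∀ q ∈ d.Q, c * (q * m.θ 234 * q⁻¹ * m.θ 234) * c⁻¹ ∈ m.U := fun q hq => by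
    have h1 := pre.norm c (MV.mem_H.1 hc) q hq
    have h2 := pre.norm _ (MV.V_comm (MV.θ_mem h0) MV.z_mem) _ (inv_mem h1)
    rw [m.θ_inv h0] at h2
    have e : c * (q * m.θ 234 * q⁻¹ * m.θ 234) * c⁻¹ = c * q * c⁻¹ * (c * m.θ 234 * c⁻¹ * m.θ 234 *
        (m.θ 234 * (c * q * c⁻¹)⁻¹ * m.θ 234) * (c * m.θ 234 * c⁻¹ * m.θ 234)⁻¹) := by
      simp only [mul_inv_rev, m.θ_inv h0, mul_assoc, inv_inv, inv_mul_cancel_left,
        show ∀ x, m.θ 234 * (m.θ 234 * x) = x from fun x => by rw [← mul_assoc, m.θ_sq h0, one_mul]]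
    refine d.mem_U.2 ⟨_, h1, (pre.es.conj h2 h).imp (fun e1 => ?_) fun e1 => ?_⟩ <;> rw [e, e1] <;> group
  refine mem_normalizer_of_forall fun x hx => ?_
  obtain ⟨q, hq, rfl | rfl⟩ := d.mem_U.1 hx
  · exact key q hq
  · rw [← conj_mul, hz]
    exact mul_mem (key q hq) ⟨_, zv_lt false, by decide +kernel, rfl⟩

theorem QD.loc_U (d : QD m) (pre : Pre d.Q m.z) {C : Subgroup G}
    (hC : ∀ h, h ∈ C ↔ h ∈ m.H ∧ h * m.θ 234 * h⁻¹ * m.θ 234 ∈ d.Q) :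
    ∃ D ≤ C, C ≤ normalizer (D : Set G) ∧ (∀ c ∈ C, c ^ 4 ∈ D) ∧
      (∀ a ∈ D, ∀ b ∈ D, ∀ u ∈ m.U, u⁻¹ * (a * b * a⁻¹ * b⁻¹ * u * (a * b * a⁻¹ * b⁻¹)⁻¹) ∈ zpowers m.z) ∧
      ∀ c ∈ C, (∀ u ∈ m.U, u⁻¹ * (c * u * c⁻¹) ∈ zpowers m.z) → c ∈ D := by
  have fU : ∀ i, m.θ (fv i) ∈ m.U := fun i => ⟨_, fv_lt i, (fv_U i).1, rfl⟩
  have hH : ∀ c ∈ C, c ∈ m.H := fun c hc => ((hC c).1 hc).1
  obtain ⟨D, h1, h2, h3, h4, h5⟩ := wr (C := C) (K := zpowers m.z) (fun c hc => mem_normalizer_of_forall fun x hx => by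
      rcases mem_z.1 hx with rfl | rfl
      · simp
      · rw [MV.mem_H.1 (hH c hc), mul_inv_cancel_right]; exact hx) (fun i => m.θ (fv i))
    (fun i j h => fv_inj i j ((θ_mem_z (fv_lt j) (fv_lt i)).1 h)) (fun c hc i => by
      obtain ⟨v, hv, h, e⟩ := conj_mem_of_mem_normalizer (d.norm_U pre (hH c hc) ((hC c).1 hc).2) (fU i)
      obtain ⟨j, hj⟩ := U_ntz hv h (Bool.eq_false_iff.2 fun e1 => Bool.eq_false_iff.1 (fv_U i).2.1
        ((MV.isConj_z (fv_lt i)).1 (((MV.isConj_z hv).2 e1).trans (isConj_iff.2 ⟨c, e⟩).symm))) fun e1 => by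
          rw [e1, m.θ_zero, conj_eq_one_iff, MV.θ_eq_one (fv_lt i)] at e
          exact (fv_U i).2.2 e
      exact ⟨j, e ▸ (θ_mem_z (fv_lt j) hv).2 hj⟩) fun c hc i j i' j' hi hj => by
      have := mul_z (MV.θ_mem (fv_lt j')) hi hj
      rw [← not_iff_not, ← ne_eq, ← ne_eq, ← tt_iff (m := m), ← tt_iff (m := m)]
      refine ⟨fun h => ?_, fun h => ?_⟩
      · have := (h.conj (hH c hc)).mul (inv_mem this)
        rwa [mul_inv_rev, mul_inv_cancel_left, inv_inv] at this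
      · simpa [mul_assoc] using (h.mul this).conj (inv_mem (hH c hc))
  refine ⟨D, h1, h2, h3, fun a ha b hb u ⟨v, hv, h, e⟩ => ?_, fun c hc h => h5 c hc fun i => h _ (fU i)⟩
  obtain ⟨i, j, e1⟩ := U_gen hv h
  have h6 := mul_z (MV.θ_mem (fv_lt j)) (h4 a ha b hb i) (h4 a ha b hb j)
  rw [← m.θ_xor _ (fv_lt i) _ (fv_lt j)] at h6
  rcases e1 with rfl | rfl
  · exact e ▸ h6
  · rw [e, m.θ_xor _ (x_lt (fv_lt i) (fv_lt j)) _ (zv_lt false)]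
    refine mul_z MV.z_mem h6 ?_
    have := MV.mem_H.1 (hH _ (h1 (mul_mem (mul_mem (mul_mem ha hb) (inv_mem ha)) (inv_mem hb))))
    rw [← MV.z, this, mul_inv_cancel_right, inv_mul_cancel]
    exact one_mem _

end CfsgLib.M24R
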