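import Mathlib
import Cfsg.Agent.Lib.M24R.CtU

/-!
# the structure of `C(v₀ Q)` (plans/M24R.md)
-/

set_option autoImplicit false
set_option Elab.async false

namespace CfsgLib.M24R

open Subgroup Cfsg CfsgLib.Tech CfsgLib.J4T CfsgLib.J4T.Rec CfsgLib.Golay CfsgLib.M24E CfsgLib.WD.Km
open CfsgLib.ExtraTwo CfsgLib.LargeExtra
open scoped Pointwise

variable {G : Type*} [Group G] [Finite G] {m : MV G false}

namespace CtCx

section

omit [Finite G]

variable {Q : Subgroup G} {z x y t : G}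

theorem es_mul (es : ES Q z) (hx : x ∈ Q) (hy : y ∈ Q) (ht : t ∈ Q) :
    Commute (x * y) t ↔ (Commute x t ↔ Commute y t) := by
  by_cases h1 : Commute x t <;> by_cases h2 : Commute y t <;> simp only [h1, h2, iff_true, iff_false, iff_self,
    not_true]
  · exact h1.mul_left h2
  · exact fun h => h2 (by simpa using h1.inv_left.mul_left h)
  · exact fun h => h1 (by simpa using h.mul_left h2.inv_left)
  · exact es.mul_comm_of_not_comm ht hx hy h1 h2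

theorem sq_comm (h : Commute x y) : x * y * (x * y) = x * x * (y * y) := by
  rw [mul_assoc, ← mul_assoc y, ← h.eq]; group

theorem sq_not (es : ES Q z) (hx : x ∈ Q) (hy : y ∈ Q) (h : ¬ Commute x y) :
    x * y * (x * y) = z * (x * x * (y * y)) := by
  rw [mul_assoc, ← mul_assoc y, es.comm_of_ne hy hx fun e => h e.symm, ← mul_assoc, ← mul_assoc, es.comm_z x hx]; group

/-- the elements of `C` acting trivially on `A / B` -/
def Tr {C B : Subgroup G} (h : C ≤ normalizer (B : Set G)) (A : Subgroup G) : Subgroup G where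
  carrier := {c | c ∈ C ∧ ∀ a ∈ A, a⁻¹ * (c * a * c⁻¹) ∈ B}
  one_mem' := ⟨one_mem _, fun a _ => by simp⟩
  mul_mem' {c d} hc hd := ⟨mul_mem hc.1 hd.1, fun a ha => by
    convert mul_mem (hc.2 a ha) (conj_mem_of_mem_normalizer (h hc.1) (hd.2 a ha)) using 1
    group⟩
  inv_mem' {c} hc := ⟨inv_mem hc.1, fun a ha => by
    convert conj_mem_of_mem_normalizer (h (inv_mem hc.1)) (inv_mem (hc.2 a ha)) using 1
    group⟩

theorem mem_Tr {C B A : Subgroup G} {h : C ≤ normalizer (B : Set G)} {c : G} :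
    c ∈ Tr h A ↔ c ∈ C ∧ ∀ a ∈ A, a⁻¹ * (c * a * c⁻¹) ∈ B := Iff.rfl

/-- the elements of `A` fixed by `c` modulo `B` -/
def Fs {A B : Subgroup G} (h : A ≤ normalizer (B : Set G)) (c : G) : Subgroup G where
  carrier := {a | a ∈ A ∧ a⁻¹ * (c * a * c⁻¹) ∈ B}
  one_mem' := ⟨one_mem _, by simp⟩
  mul_mem' {a b} ha hb := ⟨mul_mem ha.1 hb.1, by
    convert mul_mem (conj_mem_of_mem_normalizer (h (inv_mem hb.1)) ha.2) hb.2 using 1
    group⟩
  inv_mem' {a} ha := ⟨inv_mem ha.1, by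
    convert conj_mem_of_mem_normalizer (h ha.1) (inv_mem ha.2) using 1
    group⟩

end

theorem Tr_norm {C B A : Subgroup G} (h : C ≤ normalizer (B : Set G)) (hA : C ≤ normalizer (A : Set G)) :
    C ≤ normalizer (Tr h A : Set G) := fun g hg => mem_normalizer_of_forall fun c hc =>
  ⟨mul_mem (mul_mem hg hc.1) (inv_mem hg), fun a ha => by
    convert conj_mem_of_mem_normalizer (h hg) (hc.2 _ (conj_mem_of_mem_normalizer (hA (inv_mem hg)) ha)) using 1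
    group⟩

/-- numbers of the elements of `E` centralising `U` -/
def xi (b : Fin 4) : ℕ := [0, 28, 42, 54].getD b 0

/-- representatives of `W / U` -/
def wi (a : Fin 4) : ℕ := [0, 17, 23, 6].getD a 0

/-- the commuting pairs -/
def Bc (a b : Fin 4) : Prop := a = 0 ∨ b = 0 ∨ a = b

instance (a b : Fin 4) : Decidable (Bc a b) := inferInstanceAs (Decidable (_ ∨ _ ∨ _))

theorem xi_lt : ∀ b, xi b < 64 := by decide

theorem wi_lt : ∀ a, wi a < 2048 := by decide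

theorem wi_W : ∀ a, inW false (wi a) := by unfold inW; decide +kernel

theorem wi_inj : ∀ a a', inU (wi a ^^^ wi a') → a = a' := by unfold inU; decide +kernel

theorem xi_inj : ∀ b b', xi b = xi b' → b = b' := by decide

theorem am_xi (b : Fin 4) : AM false (xM false (xi b)) (mq (eE (xi b))) := am_x false (xi_lt b)

theorem ac_wi (a b : Fin 4) : ac false (mq (eE (xi b))) (wi a) = wi a ↔ Bc a b := by
  rw [am_xi b _ (wi_lt a)]
  revert a b; decide +kernel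

theorem ac_U (b : Fin 4) {v : ℕ} (hv : v < 2048) (h : inU v) : ac false (mq (eE (xi b))) v = v :=
  ((sm_ker _).le_iff (am_xi b).fx).1 (by clear h hv; revert b; decide +kernel) v hv h

theorem exists_xi {e : ℕ} (he : e < 64) (h : ∀ i, ac false (mq (eE e)) (CtUx.fv i) = CtUx.fv i) : ∃ b, e = xi b := by
  have a : AM false (xM false e) (mq (eE e)) := am_x false he
  simp only [fun i => a _ (CtUx.fv_lt i)] at h
  clear a; revert e; decide +kernel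

theorem exists_wi {v : ℕ} (hv : v < 2048) (h : inW false v) : ∃ a, inU (v ^^^ wi a) := by
  have := of_allLT (n := 2048) (f := fun v => or (not (Nat.beq (mv (wK false) v) 0))
    (anyL [0, 17, 23, 6] fun w => Nat.beq (mv 0x2001000800400400200102303b01302a (Nat.xor v w)) 0)) (by decide +kernel) hv
  rw [show mv (wK false) v = 0 from h] at this
  simp only [Nat.beq_refl, Bool.not_true, Bool.false_or, anyL_iff, beq_iff', List.mem_cons, List.not_mem_nil, or_false,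
    exists_eq_or_imp, exists_eq_left] at this
  rcases this with h | h | h | h
  exacts [⟨0, h⟩, ⟨1, h⟩, ⟨2, h⟩, ⟨3, h⟩]

theorem cm_dvec (b : Fin 4) (i j : Fin 6) (hi : 2 ≤ i) (hj : 2 ≤ j) : inU (cm false (mq (eE (xi b))) (dvec i j)) := by
  rw [(am_xi b).cm (dvec_lt i j), inU]
  revert b i j; decide +kernel

theorem U_W {v : ℕ} (hv : v < 2048) (h : inU v) : inW false v :=
  ((sm_ker _).le_iff (sm_W false)).1 (by clear h hv; decide +kernel) v hv h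

/-- first coordinates of the six classes -/
def fa (i : Fin 6) : Fin 4 := [0, 0, 0, 1, 2, 3].getD i 0

/-- second coordinates of the six classes -/
def fb (i : Fin 6) : Fin 4 := [1, 2, 3, 1, 2, 3].getD i 0

theorem f_inj : ∀ i j, fa i = fa j → fb i = fb j → i = j := by decide

theorem f_ex : ∀ a b, (Bc a b ↔ b ≠ 0) → ∃ i, a = fa i ∧ b = fb i ∨ a = 0 ∧ b = 0 := by decide

theorem f_sq : ∀ i, Bc (fa i) (fb i) ∧ fb i ≠ 0 := by decide

theorem f_blk : ∀ i j : Fin 6, i.val / 3 = j.val / 3 ↔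
    i = j ∨ ¬ (Bc (fa i) (fb j) ↔ (Bc (fa j) (fb i) ↔ Bc (fb j) (fb i))) := by decide

theorem f_gen : ∀ b, b = 0 ∨ (∃ i, fa i = 0 ∧ fb i = b) ∧ ∃ i, fa i = b ∧ fb i = b := by decide

variable (d : QD m)

omit [Finite G] in
theorem wQ (a : Fin 4) : m.θ (wi a) ∈ d.Q := (d.inf _ (wi_lt a)).2 (wi_W a)

omit [Finite G] in
theorem comm_wi {q : G} (hq : q ∈ d.Q) {b : Fin 4} (e : m.π q = mq (eE (xi b))) (a : Fin 4) :
    Commute (m.θ (wi a)) q ↔ Bc a b := by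
  rw [← ac_wi, ← e, ← MV.comm_iff (d.le hq) (wi_lt a)]
  exact ⟨fun h => h.symm.eq, fun h => h.symm⟩

theorem exists_sq (a b : Fin 4) (h : ¬ Bc a b) : ∃ n ∈ d.Q, m.π n = mq (eE (xi b)) ∧ n * n = m.z := by
  obtain ⟨q, hq, e⟩ := d.π_surj _ (mem_Xk.2 ⟨_, xi_lt b, rfl⟩)
  rcases d.sq q hq with h1 | h1
  · refine ⟨_, mul_mem (wQ d a) hq, (MV.π_θ_mul (wi_lt a) (d.le hq)).trans e, ?_⟩
    rw [sq_not d.es (wQ d a) hq (mt (comm_wi d hq e a).1 h), h1, m.θ_sq (wi_lt a), mul_one, mul_one]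
  · exact ⟨q, hq, e, h1⟩

theorem exists_N : ∃ N : Fin 4 → G, (∀ b, N b ∈ d.Q ∧ m.π (N b) = mq (eE (xi b))) ∧ N 0 = 1 ∧
    (∀ b, b ≠ 0 → N b * N b = m.z) ∧ ∀ b b', Commute (N b) (N b') ↔ Bc b b' := by
  have es := d.es
  obtain ⟨n1, q1, e1, s1⟩ := exists_sq d 2 1 (by decide)
  obtain ⟨n2, q2, e2, s2, c⟩ : ∃ n ∈ d.Q, m.π n = mq (eE (xi 2)) ∧ n * n = m.z ∧ ¬ Commute n n1 := by
    obtain ⟨n, q, e, s⟩ := exists_sq d 1 2 (by decide)
    by_cases c : Commute n n1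
    · refine ⟨_, mul_mem (wQ d 2) q, (MV.π_θ_mul (wi_lt 2) (d.le q)).trans e, ?_, ?_⟩
      · rw [sq_comm ((comm_wi d q e 2).2 (by decide)), s, m.θ_sq (wi_lt 2), one_mul]
      · rw [es_mul es (wQ d 2) q q1, comm_wi d q1 e1]
        exact fun h => absurd (h.2 c) (by decide)
    · exact ⟨n, q, e, s, c⟩
  have c' : ¬ Commute n1 n2 := fun h => c h.symm
  have c1 : ¬ Commute (n1 * n2) n1 := by rw [es_mul es q1 q2 q1]; exact fun h => c (h.1 (Commute.refl _))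
  have c2 : ¬ Commute (n1 * n2) n2 := by rw [es_mul es q1 q2 q2]; exact fun h => c' (h.2 (Commute.refl _))
  have c3 : ¬ Commute n1 (n1 * n2) := fun h => c1 h.symm
  have c4 : ¬ Commute n2 (n1 * n2) := fun h => c2 h.symm
  refine ⟨![1, n1, n2, n1 * n2], fun b => ?_, rfl, fun b hb => ?_, fun b b' => ?_⟩
  · fin_cases b
    · exact ⟨one_mem _, MV.π_one.trans tE.zero.symm⟩
    · exact ⟨q1, e1⟩
    · exact ⟨q2, e2⟩
    · refine ⟨mul_mem q1 q2, ?_⟩
      show m.π (n1 * n2) = _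
      rw [m.π_mul _ (d.le q1) _ (d.le q2), e1, e2]
      exact tE.mul _ (xi_lt 1) _ (xi_lt 2)
  · fin_cases b
    · exact absurd rfl hb
    · exact s1
    · exact s2
    · show n1 * n2 * (n1 * n2) = _
      rw [sq_not es q1 q2 c', s1, s2, es.mul_self, mul_one]
  · fin_cases b <;> fin_cases b' <;> simp [Bc, c, c', c1, c2, c3, c4]

end CtCx

open CtCx in
theorem QD.loc_up (d : QD m) (pre : Pre d.Q m.z) {C : Subgroup G}
    (hC : ∀ h, h ∈ C ↔ h ∈ m.H ∧ h * m.θ 234 * h⁻¹ * m.θ 234 ∈ d.Q) :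
    ∃ P D : Subgroup G, d.Q ≤ P ∧ P ≤ D ∧ D ≤ C ∧ C ≤ normalizer (P : Set G) ∧ C ≤ normalizer (D : Set G) ∧
      IsPGroup 2 P ∧ ⁅D, D⁆ ≤ P ∧ (∀ c ∈ C, c ^ 4 ∈ D) ∧ ∀ i j : Fin 6, 2 ≤ i → 2 ≤ j → m.θ (dvec i j) ∈ P := by
  have es := pre.es
  have hz : ∀ c ∈ C, c * m.z = m.z * c := fun c hc => MV.mem_H.1 ((hC c).1 hc).1
  have UQ : m.U ≤ d.Q := fun _ ⟨v, hv, h, e⟩ => e ▸ (d.inf v hv).2 (U_W hv h)
  have UV : m.U ≤ m.V := MV.sub_le
  have zU : m.z ∈ m.U := ⟨_, zv_lt false, by decide +kernel, rfl⟩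
  have nU : C ≤ normalizer (m.U : Set G) := fun c hc => d.norm_U pre ((hC c).1 hc).1 ((hC c).1 hc).2
  have nZ : C ≤ normalizer (zpowers m.z : Set G) := fun c hc => mem_normalizer_of_forall fun x hx => by
    rcases es.mem_zpowers.1 hx with rfl | rfl
    · simp
    · rw [hz c hc, mul_inv_cancel_right]; exact hx
  obtain ⟨A, hA⟩ : ∃ A : Subgroup G, ∀ y, y ∈ A ↔ y ∈ d.Q ∧ ∀ u ∈ m.U, Commute u y :=
    ⟨d.Q ⊓ centralizer (m.U : Set G), fun y => by rw [mem_inf, mem_centralizer_iff]; rfl⟩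
  have AQ : A ≤ d.Q := fun y hy => ((hA y).1 hy).1
  have nA : C ≤ normalizer (A : Set G) := fun c hc => mem_normalizer_of_forall fun y hy =>
    (hA _).2 ⟨pre.norm c (hz c hc) y (AQ hy), fun u hu => by
      have := (((hA y).1 hy).2 _ (conj_mem_of_mem_normalizer (nU (inv_mem hc)) hu)).conj c
      rwa [show c * (c⁻¹ * u * c⁻¹⁻¹) * c⁻¹ = u by group] at this⟩
  have AU : A ≤ normalizer (m.U : Set G) := fun y hy => mem_normalizer_of_forall fun u hu => by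
    rwa [← (((hA y).1 hy).2 u hu).eq, mul_inv_cancel_right]
  have VA : ∀ v ∈ m.V, v ∈ d.Q → v ∈ A := fun v hv h => (hA v).2 ⟨h, fun u hu => MV.V_comm (UV hu) hv⟩
  have UA : m.U ≤ A := fun u hu => VA u (UV hu) (UQ hu)
  obtain ⟨N, N1, N0, Ns, Nc⟩ := exists_N d
  have NA : ∀ b, N b ∈ A := fun b => (hA _).2 ⟨(N1 b).1, fun _ ⟨v, hv, h, e⟩ => e ▸
    ((MV.comm_iff (d.le (N1 b).1) hv).2 ((N1 b).2 ▸ ac_U b hv h)).symm⟩
  have wA : ∀ a, m.θ (wi a) ∈ A := fun a => VA _ (MV.θ_mem (wi_lt a)) (wQ d a)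
  have eA : ∀ a b, m.θ (wi a) * N b ∈ A := fun a b => mul_mem (wA a) (NA b)
  have πA : ∀ y ∈ A, ∃ b, m.π y = mq (eE (xi b)) := fun y hy => by
    obtain ⟨e, he, e1⟩ := mem_Xk.1 (d.π_mem y (AQ hy))
    obtain ⟨b, rfl⟩ := exists_xi he fun i => by
      rw [← show m.π y = mq (eE e) from e1, ← MV.comm_iff (d.le (AQ hy)) (CtUx.fv_lt i)]
      exact (((hA y).1 hy).2 _ ⟨_, CtUx.fv_lt i, (CtUx.fv_U i).1, rfl⟩).symm
    exact ⟨b, e1⟩
  have dec : ∀ y ∈ A, ∃ a b, ∃ u ∈ m.U, y = m.θ (wi a) * N b * u := fun y hy => by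
    obtain ⟨b, e⟩ := πA y hy
    obtain ⟨v, hv, e1⟩ := MV.exists_θ_of_π_eq (d.le (AQ hy)) (d.le (N1 b).1) (e.trans (N1 b).2.symm)
    obtain ⟨a, ha⟩ := exists_wi hv ((d.inf v hv).1 (by
      rw [← mul_inv_eq_iff_eq_mul.2 e1]; exact mul_mem (AQ hy) (inv_mem (N1 b).1)))
    have hu : m.θ (v ^^^ wi a) ∈ m.U := ⟨_, x_lt hv (wi_lt a), ha, rfl⟩
    refine ⟨a, b, _, hu, ?_⟩
    rw [← (((hA _).1 (eA a b)).2 _ hu).eq, ← mul_assoc, m.θ_xor _ hv _ (wi_lt a), mul_assoc (m.θ v),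
      m.θ_sq (wi_lt a), mul_one, e1]
  have cw : ∀ a b, Commute (m.θ (wi a)) (N b) ↔ Bc a b := fun a b => comm_wi d (N1 b).1 (N1 b).2 a
  have esq : ∀ a b, m.θ (wi a) * N b * (m.θ (wi a) * N b) = m.z ↔ (Bc a b ↔ b ≠ 0) ∧ ¬ (a = 0 ∧ b = 0) := fun a b => by
    by_cases h0 : b = 0
    · subst h0
      rw [N0, mul_one, m.θ_sq (wi_lt a)]
      simp [Bc, es.ne_one.symm]
    · by_cases h1 : Bc a b
      · rw [sq_comm ((cw a b).2 h1), Ns b h0, m.θ_sq (wi_lt a)]; simp [h0, h1]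
      · rw [sq_not es (wQ d a) (N1 b).1 (mt (cw a b).1 h1), Ns b h0, m.θ_sq (wi_lt a), one_mul, es.mul_self]
        simp [h0, h1, es.ne_one.symm]
  let f : Fin 6 → G := fun i => m.θ (wi (fa i)) * N (fb i)
  have fA : ∀ i, f i ∈ A := fun i => eA _ _
  have inj : ∀ i j, (f j)⁻¹ * f i ∈ m.U → i = j := fun i j h => by
    have M1 := d.le (AQ (fA i))
    have M2 := d.le (AQ (fA j))
    have h1 := MV.π_V (UV h)
    rw [m.π_mul _ (inv_mem M2) _ M1, MV.π_inv M2, inv_mul_eq_one, MV.π_θ_mul (wi_lt _) (d.le (N1 _).1),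
      MV.π_θ_mul (wi_lt _) (d.le (N1 _).1), (N1 _).2, (N1 _).2] at h1
    have h2 := xi_inj _ _ (tE.inj _ (xi_lt _) _ (xi_lt _) h1)
    have h3 := conj_mem_of_mem_normalizer (AU (NA (fb j))) h
    rw [show N (fb j) * ((f j)⁻¹ * f i) * (N (fb j))⁻¹ = (m.θ (wi (fa j)))⁻¹ * m.θ (wi (fa i)) by
      simp only [f, h2]; group, m.θ_inv (wi_lt _), ← m.θ_xor _ (wi_lt _) _ (wi_lt _)] at h3
    exact f_inj i j (wi_inj _ _ ((MV.θ_mem_sub (x_lt (wi_lt _) (wi_lt _))).1 h3)).symm h2.symm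
  have fc : ∀ i j : Fin 6, i.val / 3 = j.val / 3 ↔ i = j ∨ ¬ Commute (f i) (f j) := fun i j => by
    have fj := AQ (fA j)
    rw [f_blk, es_mul es (wQ d _) (N1 _).1 fj, Commute.symm_iff (b := f j), Commute.symm_iff (b := f j),
      es_mul es (wQ d _) (N1 _).1 (wQ d _), es_mul es (wQ d _) (N1 _).1 (N1 _).1, cw, Nc,
      Commute.symm_iff (a := N _), cw, iff_true_intro (show Commute (m.θ (wi (fa j))) (m.θ (wi (fa i))) from
        MV.θ_comm (wi_lt _) (wi_lt _)), true_iff]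
  obtain ⟨D1, a1, a2, a3, a4, a5⟩ := d.loc_U pre hC
  obtain ⟨D2, -, b2, b3, b4, b5⟩ := wr nU f inj (fun c hc i => by
    obtain ⟨a, b, u, hu, e⟩ := dec _ (conj_mem_of_mem_normalizer (nA hc) (fA i))
    have h1 : c * f i * c⁻¹ * (c * f i * c⁻¹) = m.z := by
      rw [conj_mul, (esq _ _).2 ⟨iff_of_true (f_sq i).1 (f_sq i).2, fun h => (f_sq i).2 h.2⟩, hz c hc,
        mul_inv_cancel_right]
    rw [e, sq_comm (((hA _).1 (eA a b)).2 u hu).symm, MV.V_sq (UV hu), mul_one, esq] at h1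
    obtain ⟨j, ⟨rfl, rfl⟩ | h⟩ := f_ex a b h1.1
    exacts [⟨j, by rwa [e, inv_mul_cancel_left]⟩, absurd h h1.2]) fun c hc i j i' j' hi hj => by
    rw [fc, fc]
    refine or_congr ⟨fun e => inj _ _ ?_, fun e => inj _ _ ?_⟩ (not_congr ?_)
    · subst e
      convert mul_mem hj (inv_mem hi) using 1
      group
    · subst e
      convert conj_mem_of_mem_normalizer (nU (inv_mem hc)) (mul_mem (inv_mem hj) hi) using 1
      group
    · have k : ∀ {x y u : G}, y ∈ A → u ∈ m.U → (Commute (x * u) y ↔ Commute x y) := fun hy hu =>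
        ⟨fun h => by simpa using h.mul_left (((hA _).1 hy).2 _ hu).inv_left,
          fun h => h.mul_left (((hA _).1 hy).2 _ hu)⟩
      rw [← k (fA j') hi, Commute.symm_iff (b := f j'), ← k (mul_mem (fA i') (UA hi)) hj, mul_inv_cancel_left,
        mul_inv_cancel_left, Commute.conj_iff, Commute.symm_iff]
  have tA : ∀ c ∈ C, (∀ i, (f i)⁻¹ * (c * f i * c⁻¹) ∈ m.U) → ∀ y ∈ A, y⁻¹ * (c * y * c⁻¹) ∈ m.U := fun c hc h y hy => by
    have k : ∀ b, N b ∈ Fs AU c ∧ m.θ (wi b) ∈ Fs AU c := fun b => by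
      rcases f_gen b with rfl | ⟨⟨i, e1, e2⟩, j, e3, e4⟩
      · exact ⟨N0 ▸ one_mem _, (show m.θ (wi 0) = 1 from m.θ_zero) ▸ one_mem _⟩
      · have h1 : f i ∈ Fs AU c := ⟨fA i, h i⟩
        have h2 : f j ∈ Fs AU c := ⟨fA j, h j⟩
        simp only [f, e1, e2, e3, e4, show m.θ (wi 0) = 1 from m.θ_zero, one_mul] at h1 h2
        exact ⟨h1, (mul_mem_cancel_right h1).1 h2⟩
    obtain ⟨a, b, u, hu, rfl⟩ := dec y hy
    exact (mul_mem (mul_mem (k a).2 (k b).1) (show u ∈ Fs AU c from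
      ⟨UA hu, mul_mem (inv_mem hu) (conj_mem_of_mem_normalizer (nU hc) hu)⟩)).2
  have cq : ∀ q ∈ d.Q, ∀ y ∈ d.Q, y⁻¹ * (q * y * q⁻¹) ∈ zpowers m.z := fun q hq y hy => by
    rcases es.conj hy hq with e | e <;> rw [e] <;> simp
  refine ⟨Tr nZ m.U ⊓ Tr nU A, D1 ⊓ D2, fun q hq => ?_, fun c hc => ?_, inf_le_left.trans a1, fun c hc => ?_, fun c hc => ?_,
    isPGroup_iff_mem.2 fun c hc => ⟨4, ?_⟩, commutator_le.2 fun a ha b hb => ?_,
    fun c hc => mem_inf.2 ⟨a3 c hc, b3 c hc⟩, fun i j hi hj => ?_⟩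
  · have : q ∈ C := (hC q).2 ⟨MV.mem_H.2 (es.comm_z q hq), UQ (d.mem_U.2 ⟨q, hq, .inl rfl⟩)⟩
    exact mem_inf.2 ⟨⟨this, fun u hu => cq q hq u (UQ hu)⟩, this, fun y hy => zpowers_le.2 zU (cq q hq y (AQ hy))⟩
  · obtain ⟨⟨h1, h2⟩, -, h3⟩ := mem_inf.1 hc
    exact mem_inf.2 ⟨a5 c h1 h2, b5 c h1 fun i => h3 _ (fA i)⟩
  · exact inf_normalizer_le_normalizer_inf (mem_inf.2 ⟨Tr_norm nZ nU hc, Tr_norm nU nA hc⟩)
  · exact inf_normalizer_le_normalizer_inf (mem_inf.2 ⟨a2 hc, b2 hc⟩)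
  · obtain ⟨h0, -, h3⟩ := mem_inf.1 hc
    refine pow16 pre UA AQ zU (hz c h0.1) (fun q hq => (hA _).2
      ⟨mul_mem (inv_mem hq) (pre.norm c (hz c h0.1) q hq), fun u hu => ?_⟩) h3 h0.2
    have h4 := (inv_mem h0).2 u hu
    have h5 := cq q hq u (UQ hu)
    have k : ∀ g : G, g * m.z = m.z * g → ∀ t ∈ zpowers m.z, g * t * g⁻¹ = t := fun g hg t ht => by
      rcases es.mem_zpowers.1 ht with rfl | rfl
      exacts [by simp, by rw [hg, mul_inv_cancel_right]]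
    have h6 : c * q * c⁻¹ * u * (c * q * c⁻¹)⁻¹ = q * u * q⁻¹ :=
      calc _ = c * (q * u * q⁻¹ * (q * (u⁻¹ * (c⁻¹ * u * c⁻¹⁻¹)) * q⁻¹)) * c⁻¹ := by group
        _ = c * (u * ((u⁻¹ * (q * u * q⁻¹)) * (u⁻¹ * (c⁻¹ * u * c⁻¹⁻¹)))) * c⁻¹ := by
          rw [k q (es.comm_z q hq) _ h4]; group
        _ = u * (c * (u⁻¹ * (q * u * q⁻¹)) * c⁻¹) := by
          rw [MV.V_comm (zpowers_le.2 MV.z_mem h5) (zpowers_le.2 MV.z_mem h4)]; group
        _ = _ := by rw [k c (hz c h0.1) _ h5]; group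
    show u * _ = _ * u
    calc _ = q⁻¹ * (q * u * q⁻¹) * (c * q * c⁻¹) := by group
      _ = _ := by rw [← h6]; group
  · have hab : a * b * a⁻¹ * b⁻¹ ∈ C := by
      have h1 := a1 (mem_inf.1 ha).1
      have h2 := a1 (mem_inf.1 hb).1
      exact mul_mem (mul_mem (mul_mem h1 h2) (inv_mem h1)) (inv_mem h2)
    exact mem_inf.2 ⟨⟨hab, a4 a (mem_inf.1 ha).1 b (mem_inf.1 hb).1⟩, hab,
      tA _ hab (b4 a (mem_inf.1 ha).2 b (mem_inf.1 hb).2)⟩
  · have hv := dvec_lt i j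
    have : m.θ (dvec i j) ∈ C := (hC _).2 ⟨MV.V_le_H (MV.θ_mem hv), by
      rw [MV.θ_comm hv (by norm_num), mul_inv_cancel_right, m.θ_sq (by norm_num)]; exact one_mem _⟩
    refine mem_inf.2 ⟨⟨this, fun u hu => ?_⟩, this, fun y hy => ?_⟩
    · rw [MV.V_comm (MV.θ_mem hv) (UV hu)]; simp
    · obtain ⟨b, e⟩ := πA y hy
      rw [MV.conj_θ (d.le (AQ hy)) hv, e, ← mul_assoc]
      simpa using conj_mem_of_mem_normalizer (AU (inv_mem hy))
        (show m.θ _ ∈ m.U from ⟨_, cm_lt _ _ hv, cm_dvec b i j hi hj, rfl⟩)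

end CfsgLib.M24R
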