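import Mathlib
import Cfsg.Agent.Lib.M24R.QA
import Cfsg.Agent.Lib.Sect.Tools

/-!
# no conjugate of `v₀` inverts `p` (plans/M24R.md)
-/

set_option autoImplicit false
set_option Elab.async false

namespace CfsgLib.M24R

open Subgroup Cfsg CfsgLib.Tech CfsgLib.J4T CfsgLib.J4T.Rec CfsgLib.Golay CfsgLib.M24E CfsgLib.WD.Km
open CfsgLib.ExtraTwo CfsgLib.LargeExtra
open scoped Pointwise

variable {G : Type*} [Group G] [Finite G] {m : MV G false}

namespace CtDx

/-- the elements of `Q` centralised by `s` modulo `z` -/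
def F {Q : Subgroup G} {z : G} (es : ES Q z) (s : G) : Subgroup G where
  carrier := {q | q ∈ Q ∧ (s * q * s⁻¹ = q ∨ s * q * s⁻¹ = q * z)}
  one_mem' := ⟨one_mem _, by simp⟩
  mul_mem' {a b} ha hb := ⟨mul_mem ha.1 hb.1, by
    have e : a * z * b = a * b * z := by rw [mul_assoc, ← es.comm_z b hb.1, mul_assoc]
    rw [← conj_mul]
    rcases ha.2 with h | h <;> rcases hb.2 with h' | h' <;> rw [h, h']
    exacts [.inl rfl, .inr (mul_assoc _ _ _).symm, .inr e,
      .inl (by rw [← mul_assoc, e, mul_assoc, es.mul_self, mul_one])]⟩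
  inv_mem' {a} ha := ⟨inv_mem ha.1, by
    rw [← conj_inv]
    rcases ha.2 with h | h <;> rw [h]
    exacts [.inl rfl, .inr (by rw [es.comm_z a ha.1, mul_inv_rev, inv_eq_of_mul_eq_one_right es.mul_self])]⟩

omit [Finite G] in
theorem mul {Q : Subgroup G} {z s t q : G} (es : ES Q z) (hs : s * z = z * s) (h : q ∈ F es s) (h' : q ∈ F es t) :
    q ∈ F es (s * t) := ⟨h.1, by
  rw [show s * t * q * (s * t)⁻¹ = s * (t * q * t⁻¹) * s⁻¹ by group]
  rcases h'.2 with e | e <;> rw [e]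
  · exact h.2
  · rw [← conj_mul, hs, mul_inv_cancel_right]
    rcases h.2 with e | e <;> rw [e]
    exacts [.inr rfl, .inl (by rw [mul_assoc, es.mul_self, mul_one])]⟩

theorem card_le {Q : Subgroup G} {z g : G} (pre : Pre Q z) (hg : g * z = z * g) (s : G) :
    Nat.card (F pre.es s) ≤ Nat.card (F pre.es (g * s * g⁻¹)) :=
  Nat.card_le_card_of_injective (fun x => ⟨g * x * g⁻¹, pre.norm g hg x x.2.1, by
    rw [conj_inv, conj_mul, conj_mul]
    rcases x.2.2 with e | e <;> rw [e]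
    exacts [.inl rfl, .inr (by rw [← conj_mul, hg, mul_inv_cancel_right])]⟩) fun a b e => by
      simpa using congrArg Subtype.val e

theorem big (d : QD m) (pre : Pre d.Q m.z) : 256 ≤ Nat.card (F pre.es (m.θ 234)) := by
  obtain ⟨j, hj, h1, h2, h3⟩ : ∃ j < 192, j ≠ 15 ∧ tb 0xffffffffffffffff j = true ∧
    (mv (Nat.xor mI (iM false j)) 234 = 0 ∨ mv (Nat.xor mI (iM false j)) 234 = zv false) := by decide +kernel
  obtain ⟨q, hq, e⟩ := d.π_surj (ie j) ((im_E j hj).2 h2)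
  refine le_trans (by rw [MV.card_W]; rfl) (Sect.two_mul_card_le (K := m.W) (fun x hx => ⟨d.W_le hx, .inl ?_⟩) fun h => h1 ?_)
  · rw [MV.V_comm (MV.θ_mem (by norm_num)) (MV.sub_le hx), mul_inv_cancel_right]
  · refine (ie_eq_one hj).1 (e ▸ MV.π_V (MV.sub_le (h ⟨hq, ?_⟩)))
    rw [MV.conj_θ (d.le hq) (by norm_num), e, (am_ie false hj).cm (by norm_num)]
    rcases h3 with h | h <;> rw [h]
    exacts [.inl (by rw [m.θ_zero, one_mul]), .inr (pre.es.comm_z q hq).symm]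

end CtDx

theorem QD.ninv_up (d : QD m) (pre : Pre d.Q m.z) {h : G} (hh : h ∈ m.H) :
    h * m.θ 234 * h⁻¹ * d.p * (h * m.θ 234 * h⁻¹)⁻¹ * d.p ∉ d.Q := fun hw => by
  have hh' := MV.mem_H.1 hh
  have hp := MV.mem_H.1 d.p_H
  have b1 := (CtDx.big d pre).trans (CtDx.card_le pre hh' _)
  have b2 := b1.trans (CtDx.card_le pre hp _)
  have ht : h * m.θ 234 * h⁻¹ ∈ m.H := mul_mem (mul_mem hh (MV.V_le_H (MV.θ_mem (by norm_num)))) (inv_mem hh)
  have t2 : (h * m.θ 234 * h⁻¹)⁻¹ = h * m.θ 234 * h⁻¹ := by rw [conj_inv, m.θ_inv (by norm_num)]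
  generalize h * m.θ 234 * h⁻¹ = t at *
  have c := Sect.card_mul_le (A := CtDx.F pre.es t) (B := CtDx.F pre.es (d.p * t * d.p⁻¹)) (T := d.Q)
    (fun _ h => h.1) fun _ h => h.1
  have e : (t * d.p * t⁻¹ * d.p)⁻¹ * (t * (d.p * t * d.p⁻¹)) = d.p := by
    rw [t2, inv_mul_eq_iff_eq_mul, mul_assoc _ d.p, show d.p * d.p = d.p⁻¹ from
      eq_inv_of_mul_eq_one_left (by rw [← d.p3, pow_three'])]
    group
  have l := Sect.card_le_two (K := CtDx.F pre.es (d.p * t * d.p⁻¹) ⊓ CtDx.F pre.es t) fun q hq => d.fpf hq.1.1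
    (e ▸ CtDx.mul pre.es (pre.es.comm_z _ (inv_mem hw)) ⟨hq.1.1, by
      rcases pre.es.comm _ (inv_mem hw) q hq.1.1 with e | e <;> rw [e]
      exacts [.inl (mul_inv_cancel_right _ _), .inr (by
        rw [← mul_assoc, mul_inv_cancel_right, pre.es.comm_z q hq.1.1])]⟩
      (CtDx.mul pre.es (MV.mem_H.1 ht) hq.2 hq.1)).2
  rw [d.card] at c
  have := (Nat.mul_le_mul b1 b2).trans (c.trans (Nat.mul_le_mul_right _ l))
  simp at this

end CfsgLib.M24R
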