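import Mathlib
import Cfsg.Agent.Lib.M24R.SxB
import Cfsg.Agent.Lib.M24R.CtC
import Cfsg.Agent.Lib.M24R.CtD

/-!
# the structure of `C(z) / Q` (plans/M24R.md)
-/

set_option autoImplicit false
set_option Elab.async false

namespace CfsgLib.M24R

open Subgroup Cfsg CfsgLib.Tech CfsgLib.J4T CfsgLib.J4T.Rec CfsgLib.Golay CfsgLib.M24E CfsgLib.WD.Km
open CfsgLib.ExtraTwo CfsgLib.LargeExtra
open scoped Pointwise

variable {G : Type*} [Group G] [Finite G] {m : MV G false}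

namespace CtAx

theorem k_mul : ∀ i j l : Fin 6, mv (wK false) (dvec i j ^^^ dvec j l ^^^ dvec i l) = 0 := by decide +kernel

theorem k_all : mv (wK false) (dvec 0 1 ^^^ dvec 2 3 ^^^ dvec 4 5) = 0 := by decide +kernel

theorem k_ne : ∀ i j : Fin 6, i ≠ j → mv (wK false) (dvec i j) ≠ 0 := by decide +kernel

theorem k_cov : ∀ v < 2048, ∃ i j : Fin 6, mv (wK false) v = mv (wK false) (dvec i j) := by decide +kernel

theorem pp_ne : pp false ≠ 1 := fun h => by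
  have := pp_fpf_W (k := false) (v := 23) (by norm_num) (by unfold inW; decide +kernel)
    (Or.inl (by rw [h, cm_eq_zero, ac_one _ (by norm_num)]))
  revert this; decide +kernel

variable (d : QD m) [(d.Q.subgroupOf m.H).Normal]

open Classical in
/-- the image in `H / Q` -/
noncomputable def br (x : G) : m.H ⧸ d.Q.subgroupOf m.H := if h : x ∈ m.H then QuotientGroup.mk ⟨x, h⟩ else 1

/-- the image of a subgroup -/
def im (B : Subgroup G) : Subgroup (m.H ⧸ d.Q.subgroupOf m.H) := (B.subgroupOf m.H).map (QuotientGroup.mk' _)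

variable {d} {x y : G} {v w : ℕ}

omit [Finite G] in
theorem br_eq (hx : x ∈ m.H) : br d x = QuotientGroup.mk ⟨x, hx⟩ := dif_pos hx

omit [Finite G] in
theorem br_mul (hx : x ∈ m.H) (hy : y ∈ m.H) : br d (x * y) = br d x * br d y := by
  rw [br_eq hx, br_eq hy, br_eq (mul_mem hx hy)]; rfl

omit [Finite G] in
theorem br_inv (hx : x ∈ m.H) : br d x⁻¹ = (br d x)⁻¹ := by
  rw [br_eq hx, br_eq (inv_mem hx)]; rfl

omit [Finite G] in
theorem br_pow (hx : x ∈ m.H) (n : ℕ) : br d (x ^ n) = br d x ^ n := by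
  rw [br_eq hx, br_eq (pow_mem hx n)]; rfl

omit [Finite G] in
theorem br_conj (hx : x ∈ m.H) (hy : y ∈ m.H) : br d (x * y * x⁻¹) = br d x * br d y * (br d x)⁻¹ := by
  rw [br_mul (mul_mem hx hy) (inv_mem hx), br_mul hx hy, br_inv hx]

omit [Finite G] in
theorem br_eq_one (hx : x ∈ m.H) : br d x = 1 ↔ x ∈ d.Q := by
  rw [br_eq hx, QuotientGroup.eq_one_iff, mem_subgroupOf]

omit [Finite G] in
theorem br_eq_iff (hx : x ∈ m.H) (hy : y ∈ m.H) : br d x = br d y ↔ x⁻¹ * y ∈ d.Q := by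
  rw [← br_eq_one (mul_mem (inv_mem hx) hy), br_mul (inv_mem hx) hy, br_inv hx, inv_mul_eq_one]

omit [Finite G] in
theorem br_surj (a : m.H ⧸ d.Q.subgroupOf m.H) : ∃ x ∈ m.H, a = br d x := by
  obtain ⟨x, rfl⟩ := QuotientGroup.mk_surjective a
  exact ⟨x, x.2, (br_eq x.2).symm⟩

omit [Finite G] in
theorem mem_im {B : Subgroup G} {a : m.H ⧸ d.Q.subgroupOf m.H} : a ∈ im d B ↔ ∃ x ∈ B, x ∈ m.H ∧ a = br d x :=
  ⟨fun ⟨x, hx, e⟩ => ⟨x, hx, x.2, by rw [br_eq x.2]; exact e.symm⟩,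
    fun ⟨x, h1, h2, e⟩ => ⟨⟨x, h2⟩, h1, by rw [e, br_eq h2]; rfl⟩⟩

omit [Finite G] [(d.Q.subgroupOf m.H).Normal] in
theorem θH (hv : v < 2048) : m.θ v ∈ m.H := MV.V_le_H (MV.θ_mem hv)

omit [Finite G] in
theorem mem_A {a : m.H ⧸ d.Q.subgroupOf m.H} : a ∈ im d m.V ↔ ∃ v < 2048, a = br d (m.θ v) :=
  mem_im.trans ⟨fun ⟨x, h, _, e⟩ => let ⟨v, hv, e'⟩ := (m.mem_V x).1 h; ⟨v, hv, e' ▸ e⟩,
    fun ⟨_, hv, e⟩ => ⟨_, MV.θ_mem hv, θH hv, e⟩⟩

omit [Finite G] in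
theorem θ_eq (hv : v < 2048) (hw : w < 2048) : br d (m.θ v) = br d (m.θ w) ↔ inW false (v ^^^ w) := by
  rw [br_eq_iff (θH hv) (θH hw), m.θ_inv hv, ← m.θ_xor v hv w hw, d.inf _ (x_lt hv hw)]

omit [Finite G] in
theorem θ_mul (hv : v < 2048) (hw : w < 2048) : br d (m.θ v) * br d (m.θ w) = br d (m.θ (v ^^^ w)) := by
  rw [m.θ_xor v hv w hw, br_mul (θH hv) (θH hw)]

omit [(d.Q.subgroupOf m.H).Normal] in
theorem Q_H {q : G} (hq : q ∈ d.Q) : q ∈ m.H := MV.T_le_H (d.le_T hq)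

theorem mem_N_of (hx : x ∈ m.H) (h : x ∈ m.M) : br d x ∈ normalizer (im d m.V : Set _) :=
  mem_normalizer_of_forall fun a ha => by
    obtain ⟨v, hv, rfl⟩ := mem_A.1 ha
    rw [← br_conj hx (θH hv), m.conj x h v hv]
    exact mem_A.2 ⟨_, ac_lt _ _ _, rfl⟩

theorem mem_N (hx : x ∈ m.H) : br d x ∈ normalizer (im d m.V : Set _) ↔ x ∈ m.M := by
  refine ⟨fun h => MV.wc (cj_le_iff.2 fun u hu => ?_), mem_N_of hx⟩
  have hu' := MV.V_le_H hu
  obtain ⟨w, hw, e⟩ := mem_A.1 (conj_mem_of_mem_normalizer h (mem_im.2 ⟨u, hu, hu', rfl⟩))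
  rw [← br_conj hx hu', eq_comm, br_eq_iff (θH hw) (mul_mem (mul_mem hx hu') (inv_mem hx))] at e
  exact (m.M.mul_mem_cancel_left (inv_mem (MV.θ_mem_M hw))).1 (d.le e)

theorem lift {a : m.H ⧸ d.Q.subgroupOf m.H} (h : a ∈ normalizer (im d m.V : Set _)) :
    ∃ x ∈ m.H, x ∈ m.M ∧ a = br d x := by
  obtain ⟨x, hx, rfl⟩ := br_surj a
  exact ⟨x, hx, (mem_N hx).1 h, rfl⟩

variable (d) in
/-- the action on the tetrads -/
noncomputable def sσ (a : m.H ⧸ d.Q.subgroupOf m.H) : Equiv.Perm (Fin 6) := sg (m.π (br_surj a).choose)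

theorem sσ_br (hx : x ∈ m.H) (h : x ∈ m.M) : sσ d (br d x) = sg (m.π x) := by
  obtain ⟨h1, h2⟩ := (br_surj (br d x)).choose_spec
  rw [sσ]
  generalize (br_surj (br d x)).choose = y at h1 h2
  have hq := (br_eq_iff hx h1).1 h2
  rw [show y = x * (x⁻¹ * y) by group, m.π_mul _ h _ (d.le hq),
    sg_mul ((MV.mem_H_iff h).1 hx) ((MV.mem_H_iff (d.le hq)).1 (Q_H hq)), sg_E (d.π_mem _ hq), mul_one]

/-- an element of `M ⊓ H` over `e * g` -/
theorem ovr {e : M24} (he : e ∈ E) (hx : x ∈ m.M) (hy : y ∈ m.M) (hy' : y ∈ m.H) (h : m.π x = e * m.π y) :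
    ∃ a ∈ im d m.V, br d x = a * br d y := by
  obtain ⟨q, hq, rfl⟩ := d.π_surj e he
  rw [← m.π_mul _ (d.le hq) _ hy] at h
  obtain ⟨v, hv, rfl⟩ := MV.exists_θ_of_π_eq hx (mul_mem (d.le hq) hy) h
  exact ⟨_, mem_A.2 ⟨v, hv, rfl⟩, by
    rw [br_mul (θH hv) (mul_mem (Q_H hq) hy'), br_mul (Q_H hq) hy', (br_eq_one (Q_H hq)).2 hq, one_mul]⟩

theorem p3 : br d d.p ^ 3 = 1 := by rw [← br_pow d.p_H, d.p3, (br_eq_one (one_mem _)).2 (one_mem _)]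

theorem p_A : ∀ a ∈ im d m.V, br d d.p * a = a * br d d.p := fun a ha => by
  obtain ⟨v, hv, rfl⟩ := mem_A.1 ha
  rw [← mul_inv_eq_iff_eq_mul, ← br_conj d.p_H (θH hv), m.conj _ d.p_mem v hv, d.π_p, eq_comm, θ_eq hv (ac_lt _ _ _)]
  exact pp_triv hv

omit [Finite G] in
theorem A_sq {a : m.H ⧸ d.Q.subgroupOf m.H} (ha : a ∈ im d m.V) : a * a = 1 := by
  obtain ⟨v, hv, rfl⟩ := mem_A.1 ha
  rw [← br_mul (θH hv) (θH hv), m.θ_sq hv, (br_eq_one (one_mem _)).2 (one_mem _)]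

theorem cube {Y : Type*} [Group Y] {a p g r : Y} (ha : a * a = 1) (hc : r * a = a * r) (hp : p ^ 3 = 1) (hr : r ^ 3 = 1)
    (e : g * p * g⁻¹ = a * r) : g * p * g⁻¹ = r := by
  have h1 : (a * r) ^ 3 = 1 := by rw [← e, conj_pow, hp, mul_one, mul_inv_cancel]
  rw [(show Commute a r from hc.symm).mul_pow, hr, mul_one, pow_succ, pow_two, ha, one_mul] at h1
  rw [e, h1, one_mul]

omit [Finite G] in
theorem ex_lift {g : M24} (hg : g ∈ St false) : ∃ x ∈ m.H, x ∈ m.M ∧ m.π x = g := by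
  obtain ⟨x, hx, rfl⟩ := m.π_surj g
  exact ⟨x, (MV.mem_H_iff hx).2 hg, hx, rfl⟩

variable (d) in
/-- the structure on `N(A)` -/
noncomputable def tbq : TB (m.H ⧸ d.Q.subgroupOf m.H) where
  A := im d m.V
  p := br d d.p
  σ := sσ d
  d i j := br d (m.θ (dvec i j))
  d_mem i j := mem_A.2 ⟨_, dvec_lt i j, rfl⟩
  d_mul i j l := by
    rw [θ_mul (dvec_lt _ _) (dvec_lt _ _), θ_eq (x_lt (dvec_lt _ _) (dvec_lt _ _)) (dvec_lt _ _)]
    exact k_mul i j l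
  d_sq i j := A_sq (mem_A.2 ⟨_, dvec_lt i j, rfl⟩)
  d_all := by
    have h := x_lt (dvec_lt 0 1) (dvec_lt 2 3)
    rw [θ_mul (dvec_lt _ _) (dvec_lt _ _), θ_mul h (dvec_lt _ _), br_eq_one (θH (x_lt h (dvec_lt _ _))),
      d.inf _ (x_lt h (dvec_lt _ _))]
    exact k_all
  d_ne i j h e := k_ne i j h ((d.inf _ (dvec_lt i j)).1 ((br_eq_one (θH (dvec_lt i j))).1 e))
  mem_A a ha := by
    obtain ⟨v, hv, rfl⟩ := mem_A.1 ha
    obtain ⟨i, j, e⟩ := k_cov v hv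
    exact ⟨i, j, (θ_eq hv (dvec_lt i j)).2 (by rw [inW, mv_xor, e, Nat.xor_self])⟩
  σ_mul g hg h hh := by
    obtain ⟨x, h1, h2, rfl⟩ := lift hg
    obtain ⟨y, h3, h4, rfl⟩ := lift hh
    rw [← br_mul h1 h3, sσ_br h1 h2, sσ_br h3 h4, sσ_br (mul_mem h1 h3) (mul_mem h2 h4), m.π_mul _ h2 _ h4,
      sg_mul ((MV.mem_H_iff h2).1 h1) ((MV.mem_H_iff h4).1 h3)]
  σ_d g hg i j := by
    obtain ⟨x, h1, h2, rfl⟩ := lift hg
    rw [← br_conj h1 (θH (dvec_lt i j)), m.conj x h2 _ (dvec_lt i j), sσ_br h1 h2, θ_eq (ac_lt _ _ _) (dvec_lt _ _)]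
    exact sg_dvec ((MV.mem_H_iff h2).1 h1) i j
  σ_alt s _ := by
    obtain ⟨g, hg, rfl⟩ := sg_surj s
    obtain ⟨x, h1, h2, rfl⟩ := ex_lift (m := m) hg
    exact ⟨_, mem_N_of h1 h2, sσ_br h1 h2⟩
  σ_ker g hg h := by
    obtain ⟨x, h1, h2, rfl⟩ := lift hg
    rw [sσ_br h1 h2] at h
    obtain ⟨e, he, i, e'⟩ := sg_ker ((MV.mem_H_iff h2).1 h1) h
    rw [← d.π_p, ← MV.π_pow d.p_mem] at e'
    obtain ⟨a, ha, e2⟩ := ovr (d := d) he h2 (pow_mem d.p_mem i) (pow_mem d.p_H i) e'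
    exact ⟨a, ha, i, by rw [e2, br_pow d.p_H]⟩
  p3 := p3
  p_A := p_A
  p_even g hg h := by
    obtain ⟨x, h1, h2, rfl⟩ := lift hg
    rw [sσ_br h1 h2] at h
    obtain ⟨a, ha, e⟩ := ovr (d := d) (sg_even ((MV.mem_H_iff h2).1 h1) h)
      (mul_mem (mul_mem h2 d.p_mem) (inv_mem h2)) d.p_mem d.p_H (by
        rw [MV.π_conj h2 d.p_mem, d.π_p, inv_mul_cancel_right])
    rw [br_conj h1 d.p_H] at e
    exact cube (A_sq ha) (p_A a ha) p3 p3 e
  p_odd g hg h := by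
    obtain ⟨x, h1, h2, rfl⟩ := lift hg
    rw [sσ_br h1 h2] at h
    obtain ⟨a, ha, e⟩ := ovr (d := d) (sg_odd ((MV.mem_H_iff h2).1 h1) h)
      (mul_mem (mul_mem h2 d.p_mem) (inv_mem h2)) (inv_mem d.p_mem) (inv_mem d.p_H) (by
        rw [MV.π_conj h2 d.p_mem, MV.π_inv d.p_mem, d.π_p, mul_inv_cancel_right])
    rw [br_conj h1 d.p_H, br_inv d.p_H] at e
    exact cube (A_sq ha) (show Commute (br d d.p) a from p_A a ha).inv_left.eq p3 (by rw [inv_pow, p3, inv_one]) e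
  p_perf := by
    obtain ⟨g, hg, h, hh, s1, s2, e, he, e'⟩ := sg_perf
    obtain ⟨x, h1, h2, rfl⟩ := ex_lift (m := m) hg
    obtain ⟨y, h3, h4, rfl⟩ := ex_lift (m := m) hh
    have h5 := mul_mem (mul_mem h2 h4) (inv_mem h2)
    obtain ⟨a, ha, e2⟩ := ovr (d := d) he (mul_mem h5 (inv_mem h4)) d.p_mem d.p_H (by
      rw [m.π_mul _ h5 _ (inv_mem h4), MV.π_conj h2 h4, MV.π_inv h4, e', d.π_p])
    rw [br_mul (mul_mem (mul_mem h1 h3) (inv_mem h1)) (inv_mem h3), br_conj h1 h3, br_inv h3] at e2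
    exact ⟨_, mem_N_of h1 h2, _, mem_N_of h3 h4, by rwa [sσ_br h1 h2], by rwa [sσ_br h3 h4], a, ha, e2⟩
  wc g hg := by
    obtain ⟨x, hx, rfl⟩ := br_surj g
    refine mem_N_of hx (MV.wc (cj_le_iff.2 fun u hu => ?_))
    have hu' := MV.V_le_H hu
    rw [← mem_N (d := d) (mul_mem (mul_mem hx hu') (inv_mem hx)), br_conj hx hu']
    exact cj_le_iff.1 hg _ (mem_im.2 ⟨u, hu, hu', rfl⟩)

theorem im_norm {C B : Subgroup G} (h : C ≤ normalizer (B : Set G)) : im d C ≤ normalizer (im d B : Set _) :=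
  fun a ha => mem_normalizer_of_forall fun b hb => by
    obtain ⟨x, h1, h2, rfl⟩ := mem_im.1 ha
    obtain ⟨y, h3, h4, rfl⟩ := mem_im.1 hb
    exact mem_im.2 ⟨_, conj_mem_of_mem_normalizer (h h1) h3, mul_mem (mul_mem h2 h4) (inv_mem h2), (br_conj h2 h4).symm⟩

end CtAx

open CtAx

theorem QD.exists_TX (d : QD m) (pre : Pre d.Q m.z) (hn : ¬ m.H ≤ m.M) [(d.Q.subgroupOf m.H).Normal] :
    ∃ t : TX (m.H ⧸ d.Q.subgroupOf m.H), t.p = QuotientGroup.mk ⟨d.p, d.p_H⟩ := by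
  have h234 : m.θ 234 ∈ m.H := θH (by norm_num)
  have e01 : (tbq d).d 0 1 = br d (m.θ 234) := rfl
  refine ⟨⟨tbq d, fun h => ?_, ?_, ?_, fun g e => ?_, fun h => hn fun x hx => ?_⟩, br_eq d.p_H⟩
  · have h1 := d.π_mem _ ((br_eq_one d.p_H).1 h)
    rw [d.π_p] at h1
    exact pp_ne (pp_fpf h1 rfl)
  · obtain ⟨g, hg, e⟩ := sg_surj (Equiv.swap 0 1)
    obtain ⟨x, h1, h2, rfl⟩ := ex_lift (m := m) hg
    refine ⟨_, mem_N_of h1 h2, ?_⟩
    show Equiv.Perm.sign (sσ d (br d x)) = -1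
    rw [sσ_br h1 h2, e, Equiv.Perm.sign_swap (by decide)]
  · rw [e01]
    let C : Subgroup G := ((centralizer {br d (m.θ 234)}).comap (QuotientGroup.mk' (d.Q.subgroupOf m.H))).map m.H.subtype
    have hC0 : ∀ h, h ∈ C ↔ h ∈ m.H ∧ br d h ∈ centralizer {br d (m.θ 234)} := fun h =>
      ⟨fun ⟨y, hy, e⟩ => e ▸ ⟨y.2, by rw [show m.H.subtype y = (y : G) from rfl, br_eq y.2]; exact hy⟩,
        fun ⟨h1, h2⟩ => ⟨⟨h, h1⟩, by rw [br_eq h1] at h2; exact h2, rfl⟩⟩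
    have hC : ∀ h, h ∈ C ↔ h ∈ m.H ∧ h * m.θ 234 * h⁻¹ * m.θ 234 ∈ d.Q := fun h => (hC0 h).trans
      (and_congr_right fun h1 => by
        have h2 := mul_mem (mul_mem h1 h234) (inv_mem h1)
        rw [mem_centralizer_singleton_iff, ← br_eq_one (mul_mem h2 h234), br_mul h2 h234, br_conj h1 h234,
          mul_eq_one_iff_eq_inv, ← br_inv h234, m.θ_inv (by norm_num), mul_inv_eq_iff_eq_mul])
    have eC : centralizer {br d (m.θ 234)} = im d C := by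
      ext a
      obtain ⟨x, hx, rfl⟩ := br_surj a
      exact ⟨fun h => mem_im.2 ⟨x, (hC0 x).2 ⟨hx, h⟩, hx, rfl⟩, fun h => by
        obtain ⟨y, h1, -, e⟩ := mem_im.1 h
        rw [e]; exact ((hC0 y).1 h1).2⟩
    obtain ⟨P, D, -, h2, h3, h4, h5, h6, h7, h8, h9⟩ := d.loc_up pre hC
    have mono : ∀ {A B : Subgroup G}, A ≤ B → im d A ≤ im d B := fun h => map_mono (comap_mono h)
    rw [eC]
    refine ⟨im d P, im d D, mono h2, mono h3, im_norm h4, im_norm h5, h6.comap_subtype.map _,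
      commutator_le.2 fun a ha b hb => ?_, fun c hc => ?_, fun i j hi hj => ?_⟩
    · obtain ⟨x, a1, a2, rfl⟩ := mem_im.1 ha
      obtain ⟨y, b1, b2, rfl⟩ := mem_im.1 hb
      have h0 := mul_mem (mul_mem a2 b2) (inv_mem a2)
      exact mem_im.2 ⟨_, h7 (commutator_mem_commutator a1 b1), mul_mem h0 (inv_mem b2), by
        rw [commutatorElement_def, commutatorElement_def, br_mul h0 (inv_mem b2), br_conj a2 b2, br_inv b2]⟩
    · obtain ⟨x, a1, a2, rfl⟩ := mem_im.1 hc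
      exact mem_im.2 ⟨_, h8 x a1, pow_mem a2 4, (br_pow a2 4).symm⟩
    · exact mem_im.2 ⟨_, h9 i j hi hj, θH (dvec_lt i j), rfl⟩
  · obtain ⟨h, hh, rfl⟩ := br_surj g
    have h2 := mul_mem (mul_mem hh h234) (inv_mem hh)
    refine d.ninv_up pre hh ((br_eq_one (mul_mem (mul_mem (mul_mem h2 d.p_H) (inv_mem h2)) d.p_H)).1 ?_)
    rw [br_mul (mul_mem (mul_mem h2 d.p_H) (inv_mem h2)) d.p_H, br_conj h2 d.p_H, br_conj hh h234,
      mul_eq_one_iff_eq_inv]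
    exact e
  · exact (mem_N (d := d) hx).1 ((normalizer_eq_top_iff.2 h).ge (mem_top _))

end CfsgLib.M24R
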