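import Mathlib
import Cfsg.Agent.Lib.M24R.Defs
import Cfsg.Agent.Lib.Tech.Invol

/-!
# `N(A)`: first properties (plans/M24R.md)
-/

set_option autoImplicit false
set_option Elab.async false

namespace CfsgLib.M24R

open Subgroup Cfsg CfsgLib.Tech CfsgLib.J4T CfsgLib.J4T.Rec CfsgLib.Golay CfsgLib.M24E CfsgLib.WD.Km
open scoped Pointwise

variable {X : Type*} [Group X] [Finite X] (t : TB X) {g : X}

omit [Finite X] in
theorem TB.d_self (i : Fin 6) : t.d i i = 1 := by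
  have h := t.d_mul i i i
  exact mul_left_cancel (h.trans (mul_one _).symm)

omit [Finite X] in
theorem TB.d_symm (i j : Fin 6) : t.d i j = t.d j i := by
  have h1 := t.d_mul i j i
  rw [t.d_self] at h1
  exact mul_left_cancel ((t.d_sq i j).trans h1.symm)

omit [Finite X] in
theorem TB.A_sq {a : X} (ha : a ∈ t.A) : a * a = 1 := by
  obtain ⟨i, j, rfl⟩ := t.mem_A a ha
  exact t.d_sq i j

omit [Finite X] in
theorem TB.A_comm {a b : X} (ha : a ∈ t.A) (hb : b ∈ t.A) : a * b = b * a := by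
  have h := t.A_sq (t.A.mul_mem ha hb)
  have h1 : a⁻¹ = a := inv_eq_of_mul_eq_one_right (t.A_sq ha)
  have h2 : b⁻¹ = b := inv_eq_of_mul_eq_one_right (t.A_sq hb)
  have h3 : (a * b)⁻¹ = a * b := inv_eq_of_mul_eq_one_right h
  rw [← h3, mul_inv_rev, h1, h2]

namespace TbAx

/-- coordinates of the `d 0 i` -/
def c : Fin 6 → ℕ := ![0, 1, 2, 4, 8, 15]

/-- coordinates of the `d i j` -/
def cc (i j : Fin 6) : ℕ := c i ^^^ c j

/-- `x` or `1` -/
def pw {Y : Type*} [Group Y] (x : Y) (b : Bool) : Y := cond b x 1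

theorem pw_xor {Y : Type*} [Group Y] {x : Y} (h : x * x = 1) (a b : Bool) : pw x (a ^^ b) = pw x a * pw x b := by
  cases a <;> cases b <;> simp [pw, h]

theorem pw_mem {Y : Type*} [Group Y] {H : Subgroup Y} {x : Y} (h : x ∈ H) (a : Bool) : pw x a ∈ H := by
  cases a
  · exact H.one_mem
  · exact h

/-- the element of `A` with coordinates `n` -/
def D (n : ℕ) : X :=
  pw (t.d 0 1) (n.testBit 0) * pw (t.d 0 2) (n.testBit 1) * pw (t.d 0 3) (n.testBit 2) * pw (t.d 0 4) (n.testBit 3)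

omit [Finite X] in
theorem D_mem (n : ℕ) : D t n ∈ t.A :=
  t.A.mul_mem (t.A.mul_mem (t.A.mul_mem (pw_mem (t.d_mem _ _) _) (pw_mem (t.d_mem _ _) _)) (pw_mem (t.d_mem _ _) _))
    (pw_mem (t.d_mem _ _) _)

omit [Finite X] in
theorem mm {a b c d : X} (hb : b ∈ t.A) (hc : c ∈ t.A) : a * b * (c * d) = a * c * (b * d) := by
  rw [mul_assoc, mul_assoc, ← mul_assoc b, t.A_comm hb hc, mul_assoc]

omit [Finite X] in
theorem D_xor (a b : ℕ) : D t (a ^^^ b) = D t a * D t b := by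
  unfold D
  simp only [Nat.testBit_xor, pw_xor (t.d_sq _ _)]
  have m := fun i j s => pw_mem (t.d_mem i j) s
  rw [mm t (m 0 4 _) (t.A.mul_mem (t.A.mul_mem (m _ _ _) (m _ _ _)) (m _ _ _)),
    mm t (m 0 3 _) (t.A.mul_mem (m _ _ _) (m _ _ _)), mm t (m 0 2 _) (m 0 1 _)]

omit [Finite X] in
theorem D_zero : D t 0 = 1 := by simp [D, pw]

omit [Finite X] in
theorem d0_eq (i : Fin 6) : t.d 0 i = D t (c i) := by
  have h5 : t.d 0 5 = t.d 0 1 * t.d 0 2 * t.d 0 3 * t.d 0 4 := by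
    have h := t.d_all
    rw [← t.d_mul 2 0 3, ← t.d_mul 4 0 5, t.d_symm 2 0, t.d_symm 4 0, ← mul_assoc, ← mul_assoc] at h
    have h' := t.d_sq 0 5
    exact (mul_right_cancel (h.trans h'.symm)).symm
  fin_cases i
  · simpa [c, D_zero] using t.d_self 0
  · simp [c, D, pw, Nat.testBit]
  · simp [c, D, pw, Nat.testBit]
  · simp [c, D, pw, Nat.testBit]
  · simp [c, D, pw, Nat.testBit]
  · simpa [c, D, pw, Nat.testBit] using h5

omit [Finite X] in
theorem d_eq (i j : Fin 6) : t.d i j = D t (cc i j) := by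
  rw [← t.d_mul i 0 j, t.d_symm i 0, d0_eq, d0_eq, cc, D_xor]

theorem cc_lt (i j : Fin 6) : cc i j < 16 := by revert i j; decide

theorem ex_cc : ∀ n < 16, n ≠ 0 → ∃ i j : Fin 6, i ≠ j ∧ cc i j = n := by decide

omit [Finite X] in
theorem D_eq_one {n : ℕ} (hn : n < 16) (h : D t n = 1) : n = 0 := by
  by_contra h0
  obtain ⟨i, j, hij, e⟩ := ex_cc n hn h0
  exact t.d_ne i j hij (by rw [d_eq, e, h])

omit [Finite X] in
theorem D_inj {a b : ℕ} (ha : a < 16) (hb : b < 16) (h : D t a = D t b) : a = b := by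
  have h1 : D t (a ^^^ b) = 1 := by rw [D_xor, h]; exact t.A_sq (D_mem t b)
  exact Nat.xor_eq_zero_iff.1 (D_eq_one t (Nat.xor_lt_two_pow (n := 4) ha hb) h1)

omit [Finite X] in
theorem d_eq_iff (i j l n : Fin 6) : t.d i j = t.d l n ↔ cc i j = cc l n :=
  ⟨fun h => D_inj t (cc_lt _ _) (cc_lt _ _) (by rwa [← d_eq, ← d_eq]), fun h => by rw [d_eq, d_eq, h]⟩

omit [Finite X] in
theorem d_mul_d {i j l n a b : Fin 6} (h : cc i j ^^^ cc l n = cc a b) : t.d i j * t.d l n = t.d a b := by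
  rw [d_eq, d_eq, d_eq, ← D_xor, h]

theorem cc_eq_iff : ∀ i j l n : Fin 6, i ≠ j → (cc i j = cc l n ↔ i = l ∧ j = n ∨ i = n ∧ j = l) := by
  decide +kernel

omit [Finite X] in
theorem σ_one : t.σ 1 = 1 := map_one t.σh

omit [Finite X] in
theorem σ_inv (hg : g ∈ t.N) : t.σ g⁻¹ = (t.σ g)⁻¹ := map_inv t.σh ⟨g, hg⟩

omit [Finite X] in
theorem σ_pow (hg : g ∈ t.N) (n : ℕ) : t.σ (g ^ n) = t.σ g ^ n := map_pow t.σh ⟨g, hg⟩ n

omit [Finite X] in
theorem σ_conj {x : X} (hg : g ∈ t.N) (hx : x ∈ t.N) : t.σ (g * x * g⁻¹) = t.σ g * t.σ x * (t.σ g)⁻¹ := by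
  rw [t.σ_mul _ (t.N.mul_mem hg hx) _ (t.N.inv_mem hg), t.σ_mul _ hg _ hx, σ_inv t hg]

theorem ex_even (i j : Fin 6) (h : i ≠ j) :
    ∃ s : Equiv.Perm (Fin 6), Equiv.Perm.sign s = 1 ∧ s 0 = i ∧ s 1 = j := by
  have key : ∀ i j : Fin 6, i ≠ j → (Equiv.swap 0 i * Equiv.swap 1 (Equiv.swap 0 i j)) 0 = i ∧
      (Equiv.swap 0 i * Equiv.swap 1 (Equiv.swap 0 i j)) 1 = j := by decide +kernel
  obtain ⟨h0, h1⟩ := key i j h
  generalize Equiv.swap 0 i * Equiv.swap 1 (Equiv.swap 0 i j) = s at h0 h1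
  rcases Int.units_eq_one_or (Equiv.Perm.sign s) with hs | hs
  · exact ⟨s, hs, h0, h1⟩
  · refine ⟨s * Equiv.swap 4 5, ?_, ?_, ?_⟩
    · rw [map_mul, hs, Equiv.Perm.sign_swap (by decide)]; rfl
    · rw [Equiv.Perm.mul_apply, Equiv.swap_apply_of_ne_of_ne (by decide) (by decide), h0]
    · rw [Equiv.Perm.mul_apply, Equiv.swap_apply_of_ne_of_ne (by decide) (by decide), h1]

omit [Finite X] in
theorem A_pgroup : IsPGroup 2 t.A :=
  isPGroup_iff_mem.2 fun _ hx => ⟨1, by rw [pow_one, pow_two]; exact t.A_sq hx⟩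

omit [Finite X] in
theorem A_ne_bot : t.A ≠ ⊥ := fun h => t.d_ne 0 1 (by decide) (mem_bot.1 (h ▸ t.d_mem 0 1))

omit [Finite X] in
theorem p_pow_A {a : X} (ha : a ∈ t.A) (i : ℕ) : t.p ^ i * a = a * t.p ^ i :=
  ((show Commute t.p a from t.p_A a ha).pow_left i).eq

omit [Finite X] in
/-- a power of `p` of 2-power order is trivial -/
theorem p_pow_eq_one {i n : ℕ} (h : (t.p ^ i) ^ 2 ^ n = 1) : t.p ^ i = 1 := by
  have h3 : (t.p ^ i) ^ 3 = 1 := by rw [← pow_mul, mul_comm, pow_mul, t.p3, one_pow]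
  have := pow_gcd_eq_one.2 ⟨h3, h⟩
  rwa [(show Nat.Coprime 3 (2 ^ n) from Nat.Coprime.pow_right n (by decide)), pow_one] at this

end TbAx

open TbAx

omit [Finite X] in
theorem TB.d_eq_iff {i j l n : Fin 6} (h : i ≠ j) : t.d i j = t.d l n ↔ i = l ∧ j = n ∨ i = n ∧ j = l :=
  (TbAx.d_eq_iff t i j l n).trans (cc_eq_iff i j l n h)

omit [Finite X] in
theorem TB.card_A : Nat.card t.A = 16 := by
  have : Function.Bijective (fun n : Fin 16 => (⟨D t n, D_mem t n⟩ : t.A)) := by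
    refine ⟨fun a b h => Fin.ext (D_inj t a.2 b.2 (congrArg Subtype.val h)), fun a => ?_⟩
    obtain ⟨i, j, e⟩ := t.mem_A a a.2
    exact ⟨⟨cc i j, cc_lt i j⟩, Subtype.ext (by rw [e, d_eq])⟩
  rw [← Nat.card_eq_of_bijective _ this, Nat.card_fin]

omit [Finite X] in
theorem TB.σ_eq_one (hg : g ∈ t.N) : t.σ g = 1 ↔ ∀ a ∈ t.A, g * a = a * g := by
  constructor
  · intro h a ha
    obtain ⟨i, j, rfl⟩ := t.mem_A a ha
    have := t.σ_d g hg i j
    rw [h, Equiv.Perm.one_apply, Equiv.Perm.one_apply] at this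
    exact mul_inv_eq_iff_eq_mul.1 this
  · intro h
    have key : ∀ i j, i ≠ j → i = t.σ g i ∨ i = t.σ g j := fun i j hij => by
      have e := t.σ_d g hg i j
      rw [h _ (t.d_mem i j), mul_inv_cancel_right, t.d_eq_iff hij] at e
      exact e.imp And.left And.left
    ext1 i
    have n1 : ∀ i : Fin 6, i ≠ i + 1 ∧ i ≠ i + 2 ∧ i + 1 ≠ i + 2 := by decide
    rcases key i (i + 1) (n1 i).1 with e | e
    · exact e.symm
    rcases key i (i + 2) (n1 i).2.1 with e' | e'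
    · exact e'.symm
    exact absurd ((t.σ g).injective (e.symm.trans e')) (n1 i).2.2

omit [Finite X] in
theorem TB.N1_le_N : t.N1 ≤ t.N := fun _ h => (t.mem_N1.1 h).1

theorem TB.N_norm : t.N ≤ normalizer (t.N1 : Set X) := fun g hg =>
  mem_normalizer_of_forall fun x hx => by
    obtain ⟨h1, h2⟩ := t.mem_N1.1 hx
    refine t.mem_N1.2 ⟨t.N.mul_mem (t.N.mul_mem hg h1) (t.N.inv_mem hg), ?_⟩
    rw [σ_conj t hg h1, map_mul, map_mul, h2, mul_one, map_inv, mul_inv_cancel]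

omit [Finite X] in
theorem TB.A_le : t.A ≤ t.N1 := fun a ha => by
  have hN : a ∈ t.N := le_normalizer ha
  refine t.mem_N1.2 ⟨hN, ?_⟩
  rw [(t.σ_eq_one hN).2 fun b hb => t.A_comm ha hb, map_one]

theorem TbAx.mem_N_of_cent (h : ∀ a ∈ t.A, g * a = a * g) : g ∈ t.N :=
  mem_normalizer_of_forall fun x hx => by rwa [h x hx, mul_inv_cancel_right]

theorem TB.p_mem : t.p ∈ t.N1 := by
  have hN : t.p ∈ t.N := mem_N_of_cent t t.p_A
  refine t.mem_N1.2 ⟨hN, ?_⟩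
  rw [(t.σ_eq_one hN).2 t.p_A, map_one]

omit [Finite X] in
theorem TB.N1_le_cent : t.N1 ≤ centralizer {t.p} := fun g hg => by
  obtain ⟨h1, h2⟩ := t.mem_N1.1 hg
  exact mem_centralizer_singleton_iff.2 (mul_inv_eq_iff_eq_mul.1 (t.p_even g h1 h2))

omit [Finite X] in
theorem TB.N_le_norm_p : t.N ≤ normalizer (zpowers t.p : Set X) := fun g hg => by
  rw [mem_normalizer_iff_cj, cj_zpowers]
  rcases Int.units_eq_one_or (Equiv.Perm.sign (t.σ g)) with hs | hs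
  · rw [t.p_even g hg hs]
  · rw [t.p_odd g hg hs, zpowers_inv]

theorem TB.cent (h : ∀ a ∈ t.A, g * a = a * g) : ∃ a ∈ t.A, ∃ i : ℕ, g = a * t.p ^ i :=
  t.σ_ker g (mem_N_of_cent t h) ((t.σ_eq_one (mem_N_of_cent t h)).2 h)

theorem TB.cent_two (h : ∀ a ∈ t.A, g * a = a * g) {n : ℕ} (h2 : g ^ 2 ^ n = 1) : g ∈ t.A := by
  obtain ⟨a, ha, i, rfl⟩ := t.cent h
  have hc : Commute a (t.p ^ i) := (p_pow_A t ha i).symm
  have h3 : (t.p ^ i) ^ 2 ^ (n + 1) = 1 := by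
    have e : (a * t.p ^ i) ^ 2 ^ (n + 1) = 1 := by rw [pow_succ, pow_mul, h2, one_pow]
    rwa [hc.mul_pow, pow_succ', pow_mul a, pow_two a, t.A_sq ha, one_pow, one_mul, ← pow_succ'] at e
  rwa [p_pow_eq_one t h3, mul_one]

theorem TB.cent_odd (h : ∀ a ∈ t.A, g * a = a * g) (h2 : Odd (orderOf g)) : g ∈ zpowers t.p := by
  obtain ⟨a, ha, i, rfl⟩ := t.cent h
  have hc : Commute a (t.p ^ i) := (p_pow_A t ha i).symm
  have h3 : (a * t.p ^ i) ^ 3 = a := by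
    rw [hc.mul_pow, ← pow_mul, mul_comm i, pow_mul, t.p3, one_pow, mul_one, pow_succ, pow_two, t.A_sq ha, one_mul]
  have h4 : a ^ orderOf (a * t.p ^ i) = 1 := by
    have : ((a * t.p ^ i) ^ 3) ^ orderOf (a * t.p ^ i) = 1 := by
      rw [← pow_mul, mul_comm 3, pow_mul, pow_orderOf_eq_one, one_pow]
    rwa [h3] at this
  obtain ⟨k, hk⟩ := h2
  rw [hk, pow_succ, pow_mul, pow_two, t.A_sq ha, one_pow, one_mul] at h4
  rw [h4, one_mul]
  exact pow_mem (mem_zpowers _) i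

omit [Finite X] in
theorem TbAx.ex_σ {s : Equiv.Perm (Fin 6)} (hs : Equiv.Perm.sign s = 1) : ∃ g ∈ t.N1, t.σ g = s := by
  obtain ⟨g, hg, e⟩ := t.σ_alt s hs
  exact ⟨g, t.mem_N1.2 ⟨hg, e ▸ hs⟩, e⟩

omit [Finite X] in
theorem TB.tr {a : X} (ha : a ∈ t.A) (h1 : a ≠ 1) : ∃ g ∈ t.N1, g * t.d 0 1 * g⁻¹ = a := by
  obtain ⟨i, j, rfl⟩ := t.mem_A a ha
  have hij : i ≠ j := fun h => h1 (by rw [h, t.d_self])
  obtain ⟨s, hs, h0, h1⟩ := ex_even i j hij
  obtain ⟨g, hg, e⟩ := ex_σ t hs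
  exact ⟨g, hg, by rw [t.σ_d g (t.N1_le_N hg), e, h0, h1]⟩

omit [Finite X] in
/-- an `N1`-invariant subgroup meeting `A` contains `A` -/
theorem TbAx.A_le_of_mem {B : Subgroup X} (h : t.N1 ≤ normalizer (B : Set X)) {b : X} (hb : b ∈ B) (hA : b ∈ t.A)
    (h1 : b ≠ 1) : t.A ≤ B := fun a ha => by
  by_cases ha1 : a = 1
  · rw [ha1]; exact B.one_mem
  obtain ⟨g, hg, rfl⟩ := t.tr hA h1
  obtain ⟨k, hk, rfl⟩ := t.tr ha ha1
  refine conj_mem_of_mem_normalizer (h hk) ?_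
  have := conj_mem_of_mem_normalizer' (h hg) hb
  rwa [← mul_assoc, ← mul_assoc, inv_mul_cancel, one_mul, inv_mul_cancel_right] at this

omit [Finite X] in
theorem TB.nrm {B : Subgroup X} (hB : B ≤ t.A) (h : t.N1 ≤ normalizer (B : Set X)) : B = ⊥ ∨ B = t.A := by
  by_cases h0 : B = ⊥
  · exact Or.inl h0
  obtain ⟨⟨b, hb⟩, h1⟩ := ne_bot_iff_exists_ne_one.1 h0
  exact Or.inr (le_antisymm hB (A_le_of_mem t h hb (hB hb) fun e => h1 (Subtype.ext e)))

theorem TbAx.card_ker : Nat.card t.σh.ker = 16 * orderOf t.p := by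
  have hp : ∀ x : zpowers t.p, ∀ a ∈ t.A, (x : X) * a = a * x := fun x a ha => by
    obtain ⟨n, hn⟩ := mem_zpowers_iff.1 x.2
    rw [← hn]
    exact ((show Commute t.p a from t.p_A a ha).zpow_left n).eq
  have hc : ∀ (y : t.A × zpowers t.p), ∀ a ∈ t.A, (y.1 : X) * y.2 * a = a * (y.1 * y.2) := fun y a ha => by
    rw [mul_assoc, hp _ _ ha, ← mul_assoc, t.A_comm y.1.2 ha, mul_assoc]
  have : Function.Bijective (fun y : t.A × zpowers t.p =>
      (⟨⟨y.1 * y.2, mem_N_of_cent t (hc y)⟩, (t.σ_eq_one (mem_N_of_cent t (hc y))).2 (hc y)⟩ : t.σh.ker)) := by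
    constructor
    · rintro ⟨a, x⟩ ⟨b, y⟩ h
      have e : (a : X) * x = b * y := congrArg (fun z : t.σh.ker => ((z : t.N) : X)) h
      have e1 : (b : X)⁻¹ * a = y * (x : X)⁻¹ := by
        rw [inv_mul_eq_iff_eq_mul, ← mul_assoc, ← e, mul_inv_cancel_right]
      obtain ⟨i, hi⟩ := (Submonoid.mem_powers_iff _ _).1
        (mem_powers_iff_mem_zpowers.2 ((zpowers t.p).mul_mem y.2 ((zpowers t.p).inv_mem x.2)))
      have e2 : t.p ^ i = 1 := p_pow_eq_one t (n := 1) (by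
        rw [pow_one, pow_two, hi, ← e1]; exact t.A_sq (t.A.mul_mem (t.A.inv_mem b.2) a.2))
      rw [hi] at e2
      have e3 : (y : X) = x := mul_inv_eq_one.1 e2
      rw [e2] at e1
      exact Prod.ext (Subtype.ext (inv_mul_eq_one.1 e1).symm) (Subtype.ext e3.symm)
    · rintro ⟨⟨x, hx⟩, hk⟩
      obtain ⟨a, ha, i, e⟩ := t.σ_ker x hx hk
      exact ⟨(⟨a, ha⟩, ⟨t.p ^ i, pow_mem (mem_zpowers _) i⟩), Subtype.ext (Subtype.ext e.symm)⟩
  rw [← Nat.card_eq_of_bijective _ this, Nat.card_prod, t.card_A, Nat.card_zpowers]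

omit [Finite X] in
theorem TbAx.alt_le_range : alternatingGroup (Fin 6) ≤ t.σh.range := fun s hs => by
  obtain ⟨g, hg, e⟩ := t.σ_alt s (Equiv.Perm.mem_alternatingGroup.1 hs)
  exact ⟨⟨g, hg⟩, e⟩

theorem TbAx.card_alt : Nat.card (alternatingGroup (Fin 6)) = 360 := by
  have h := two_mul_nat_card_alternatingGroup (α := Fin 6)
  rw [Nat.card_perm, Nat.card_fin] at h
  have : Nat.factorial 6 = 720 := by decide
  omega

theorem TB.card_N1 : Nat.card t.N1 = 5760 * orderOf t.p := by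
  rw [TB.N1, card_map_of_injective t.N.subtype_injective]
  have h1 : t.σh.ker ≤ (alternatingGroup (Fin 6)).comap t.σh := fun x hx => by
    rw [mem_comap, MonoidHom.mem_ker.1 hx]; exact one_mem _
  rw [← card_mul_relIndex' h1, card_ker, ← MonoidHom.comap_bot, relIndex_comap,
    map_comap_eq_self (alt_le_range t), relIndex_bot_left, card_alt]
  ring

omit [Finite X] in
theorem TB.card_N : Nat.card t.N = Nat.card t.N1 ∨ Nat.card t.N = 2 * Nat.card t.N1 := by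
  rw [TB.N1, card_map_of_injective t.N.subtype_injective]
  have h1 := ((alternatingGroup (Fin 6)).comap t.σh).card_mul_index
  have h2 : ((alternatingGroup (Fin 6)).comap t.σh).index ∣ 2 := by
    rw [index_comap, ← alternatingGroup.index_eq_two (α := Fin 6)]
    exact relIndex_dvd_index_of_normal _ _
  rcases (Nat.dvd_prime Nat.prime_two).1 h2 with h | h
  · left; rw [← h1, h, mul_one]
  · right; rw [← h1, h, mul_comm]

theorem TB.syl_of {T K : Subgroup X} (hA : t.A ≤ K) (h : IsSylowIn 2 T (K ⊓ t.N)) : IsSylowIn 2 T K := by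
  have hAT : t.A ≤ T := h.le_of_le_normalizer (A_pgroup t) (le_inf hA le_normalizer) inf_le_right
  have hTK : T ≤ K := h.1.trans inf_le_left
  refine isSylowIn_of_isSylowIn_normalizer hTK (h.of_le (le_inf hTK le_normalizer) fun g hg => ⟨hg.1, ?_⟩)
  refine t.wc g (((cj_mono g hAT).trans (mem_normalizer_iff_cj.1 hg.2).le).trans (h.1.trans inf_le_right))

theorem TB.syl : ∃ T : Subgroup X, IsSylowIn 2 T ⊤ ∧ t.A ≤ T ∧ T ≤ t.N ∧ T ≤ centralizer {t.d 0 1} := by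
  obtain ⟨T, hT⟩ := exists_isSylowIn 2 (⊤ ⊓ t.N)
  have hAT : t.A ≤ T := hT.le_of_le_normalizer (A_pgroup t) (le_inf le_top le_normalizer) inf_le_right
  have hN : T ≤ t.N := hT.1.trans inf_le_right
  obtain ⟨a, ha, ho, hc⟩ := exists_mem_center_of_normalized hT.2 hAT hN (A_ne_bot t)
  obtain ⟨g, hg, e⟩ := t.tr ha (ne_one_of_orderOf_two ho)
  have hg' : g⁻¹ ∈ t.N := t.N.inv_mem (t.N1_le_N hg)
  refine ⟨cj g⁻¹ T, (t.syl_of le_top hT).cj_of_mem (mem_top _), ?_, ?_, ?_⟩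
  · rw [← mem_normalizer_iff_cj.1 hg']; exact cj_mono _ hAT
  · rw [← cj_eq_of_mem hg']; exact cj_mono _ hN
  · have : t.d 0 1 = g⁻¹ * a * g⁻¹⁻¹ := by rw [← e]; group
    rw [this, ← cj_centralizer_singleton]
    exact cj_mono _ fun x hx => mem_centralizer_singleton_iff.2 (hc x hx)

end CfsgLib.M24R
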