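import Mathlib
import Cfsg.Agent.Lib.M24R.TbA

/-!
# `N(A)`: involutions and normal subgroups (plans/M24R.md)
-/

set_option autoImplicit false
set_option Elab.async false

namespace CfsgLib.M24R

open Subgroup Cfsg CfsgLib.Tech CfsgLib.J4T CfsgLib.J4T.Rec CfsgLib.Golay CfsgLib.M24E CfsgLib.WD.Km
open scoped Pointwise

variable {X : Type*} [Group X] [Finite X] (t : TB X)

namespace TbBx

open TbAx Equiv Equiv.Perm

/-- `(01)(23)` -/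
def s0 : Perm (Fin 6) := swap 0 1 * swap 2 3

theorem s0_sq : s0 * s0 = 1 := by decide +kernel

theorem s0_ne : s0 ≠ 1 := by decide +kernel

theorem s0_sign : sign s0 = 1 := by
  rw [s0, map_mul, sign_swap (by decide), sign_swap (by decide)]; rfl

theorem ctype {s : Perm (Fin 6)} (h2 : s * s = 1) (h1 : s ≠ 1) (hs : sign s = 1) :
    s.cycleType = Multiset.replicate 2 2 := by
  have e := cycleType_of_pow_prime_eq_one (p := 2) (σ := s) (by rw [pow_two, h2])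
  have h3 := s.sum_cycleType_le
  have h4 := sign_of_cycleType s
  have h5 : s.cycleType.card ≠ 0 := fun h => h1 (card_cycleType_eq_zero.1 h)
  generalize s.cycleType.card = k at e h4 h5
  rw [e, Multiset.sum_replicate, smul_eq_mul] at h3 h4
  rw [Fintype.card_fin] at h3
  rw [hs] at h4
  have hk : k = 1 ∨ k = 2 ∨ k = 3 := by omega
  rcases hk with rfl | rfl | rfl
  · exact absurd h4 (by decide)
  · exact e
  · exact absurd h4 (by decide)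

theorem conj_s0 {s : Perm (Fin 6)} (h2 : s * s = 1) (h1 : s ≠ 1) (hs : sign s = 1) :
    ∃ u : Perm (Fin 6), sign u = 1 ∧ u * s * u⁻¹ = s0 := by
  obtain ⟨u, hu⟩ := isConj_iff.1 (isConj_iff_cycleType_eq.2 ((ctype h2 h1 hs).trans (ctype s0_sq s0_ne s0_sign).symm))
  rcases Int.units_eq_one_or (sign u) with h | h
  · exact ⟨u, h, hu⟩
  · refine ⟨swap 4 5 * u, by rw [map_mul, h, sign_swap (by decide)]; rfl, ?_⟩
    have : swap (4 : Fin 6) 5 * s0 * (swap 4 5)⁻¹ = s0 := by decide +kernel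
    rw [← this, ← hu]; group

omit [Finite X] in
theorem to_s0 {x : X} (hx : x ∈ t.N1) (h1 : t.σ x ≠ 1) (h2 : t.σ x * t.σ x = 1) :
    ∃ g ∈ t.N1, t.σ (g * x * g⁻¹) = s0 := by
  obtain ⟨u, hu, e⟩ := conj_s0 h2 h1 (t.mem_N1.1 hx).2
  obtain ⟨g, hg, rfl⟩ := ex_σ t hu
  exact ⟨g, hg, by rw [σ_conj t (t.N1_le_N hg) (t.N1_le_N hx), e]⟩

theorem to_s0' {x : X} (hx : x ∈ t.N1) (hx' : x ∉ t.A) (h2 : x * x = 1) : ∃ g ∈ t.N1, t.σ (g * x * g⁻¹) = s0 := by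
  have hN := t.N1_le_N hx
  refine to_s0 t hx (fun h => hx' (t.cent_two ((t.σ_eq_one hN).1 h) (n := 1) (by rw [pow_one, pow_two, h2]))) ?_
  rw [← t.σ_mul _ hN _ hN, h2, σ_one]

theorem k1 : ∀ i j : Fin 6, cc (s0 i) (s0 j) = cc i j → ∃ l n, cc l n ^^^ cc (s0 l) (s0 n) = cc i j := by
  decide +kernel

theorem k2 : ∀ i j : Fin 6, cc (s0 i) (s0 j) = cc i j →
    cc i j = cc 0 0 ∨ cc i j = cc 0 1 ∨ cc i j = cc 2 3 ∨ cc i j = cc 4 5 := by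
  decide +kernel

omit [Finite X] in
theorem fix_cc {x : X} (hx : x ∈ t.N) (hs : t.σ x = s0) {i j : Fin 6} (h : x * t.d i j = t.d i j * x) :
    cc (s0 i) (s0 j) = cc i j := by
  rw [← TbAx.d_eq_iff t, ← hs, ← t.σ_d x hx, h, mul_inv_cancel_right]

omit [Finite X] in
/-- `C_A(x) = [A, x]` -/
theorem fixA {x a : X} (hx : x ∈ t.N) (hs : t.σ x = s0) (ha : a ∈ t.A) (h : x * a = a * x) :
    ∃ b ∈ t.A, b * (x * b * x⁻¹) = a := by
  obtain ⟨i, j, rfl⟩ := t.mem_A a ha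
  obtain ⟨l, n, e⟩ := k1 i j (fix_cc t hx hs h)
  exact ⟨t.d l n, t.d_mem l n, by rw [t.σ_d x hx, hs, d_mul_d t e]⟩

omit [Finite X] in
theorem p_comm {x : X} (hx : x ∈ t.N1) (i : ℕ) : Commute (t.p ^ i) x :=
  (show Commute x t.p from mem_centralizer_singleton_iff.1 (t.N1_le_cent hx)).symm.pow_left i

omit [Finite X] in
theorem dec {x y : X} (hx : x ∈ t.N) (hy : y ∈ t.N) (h : t.σ y = t.σ x) :
    ∃ a ∈ t.A, ∃ i : ℕ, y = t.p ^ i * (a * x) := by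
  obtain ⟨a, ha, i, e⟩ := t.σ_ker (y * x⁻¹) (t.N.mul_mem hy (t.N.inv_mem hx)) (by
    rw [t.σ_mul _ hy _ (t.N.inv_mem hx), σ_inv t hx, h, mul_inv_cancel])
  exact ⟨a, ha, i, by rw [← mul_assoc, p_pow_A t ha, ← e, inv_mul_cancel_right]⟩

omit [Finite X] in
theorem conj0 {x y : X} (hx : x ∈ t.N1) (hs : t.σ x = s0) (h2 : x * x = 1) (hy : y ∈ t.N1) (hs' : t.σ y = s0)
    (h2' : y * y = 1) : ∃ g ∈ t.N1, g * x * g⁻¹ = y := by
  have hN := t.N1_le_N hx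
  obtain ⟨a, ha, i, rfl⟩ := dec t hN (t.N1_le_N hy) (hs'.trans hs.symm)
  have hc := p_comm t (t.N1.mul_mem (t.A_le ha) hx) i
  have hb : a * (x * a * x⁻¹) ∈ t.A := t.A.mul_mem ha (conj_mem_of_mem_normalizer hN ha)
  have e1 : a * x * (a * x) = a * (x * a * x⁻¹) := by
    rw [inv_eq_of_mul_eq_one_right h2]; group
  have e2 : (t.p ^ i) ^ 2 * (a * (x * a * x⁻¹)) = 1 := by
    rw [← e1, ← pow_two, ← hc.mul_pow, pow_two, h2']
  have e3 : t.p ^ i = 1 := p_pow_eq_one t (n := 2) (by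
    have : (t.p ^ i) ^ 2 ∈ t.A := by rw [eq_inv_of_mul_eq_one_left e2]; exact t.A.inv_mem hb
    rw [show 2 ^ 2 = 2 * 2 by rfl, pow_mul, pow_two]; exact t.A_sq this)
  rw [e3, one_pow, one_mul] at e2
  have e4 : x * a = a * x := by
    rw [← mul_inv_eq_iff_eq_mul]
    exact mul_left_cancel (e2.trans (t.A_sq ha).symm)
  obtain ⟨b, hb, e5⟩ := fixA t hN hs ha e4
  refine ⟨b, t.A_le hb, ?_⟩
  rw [e3, one_mul, ← e5, inv_eq_of_mul_eq_one_right (t.A_sq hb)]; group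

theorem k3 : ∀ i j : Fin 6, i ≠ j → ∃ l n : Fin 6, j ≠ l ∧ j ≠ n ∧ (swap j l * swap j n) i = i ∧
    (swap j l * swap j n) j ≠ j := by decide +kernel

theorem ex_ncomm {u : Perm (Fin 6)} (h : u ≠ 1) : ∃ s : Perm (Fin 6), sign s = 1 ∧ s * u * s⁻¹ * u⁻¹ ≠ 1 := by
  obtain ⟨i, hi⟩ : ∃ i, i ≠ u i := by
    by_contra! hc
    exact h (Equiv.ext fun i => (hc i).symm)
  obtain ⟨l, n, h1, h2, h3, h4⟩ := k3 i (u i) hi
  refine ⟨swap (u i) l * swap (u i) n, by rw [map_mul, sign_swap h1, sign_swap h2]; rfl, fun e => h4 ?_⟩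
  generalize swap (u i) l * swap (u i) n = s at h3 e ⊢
  rw [mul_inv_eq_one, mul_inv_eq_iff_eq_mul] at e
  have := congrArg (fun f : Perm (Fin 6) => f i) e
  simpa only [Perm.mul_apply, h3] using this

omit [Finite X] in
theorem all_even {K : Subgroup X} (hn : t.N1 ≤ normalizer (K : Set X)) {x : X} (hx : x ∈ K)
    (hN : x ∈ t.N) (h : t.σ x ≠ 1) {s : Perm (Fin 6)} (hs : sign s = 1) : ∃ k ∈ K, k ∈ t.N1 ∧ t.σ k = s := by
  let J : Subgroup (alternatingGroup (Fin 6)) :=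
    (((K ⊓ t.N1).subgroupOf t.N).map t.σh).subgroupOf (alternatingGroup (Fin 6))
  have mJ : ∀ s : alternatingGroup (Fin 6), s ∈ J ↔ ∃ k ∈ K, k ∈ t.N1 ∧ t.σ k = s := fun s =>
    ⟨fun ⟨k, hk, e⟩ => ⟨k, hk.1, hk.2, e⟩, fun ⟨k, h1, h2, e⟩ => ⟨⟨k, t.N1_le_N h2⟩, ⟨h1, h2⟩, e⟩⟩
  haveI : J.Normal := ⟨fun s hs u => by
    obtain ⟨k, h1, h2, e⟩ := (mJ s).1 hs
    obtain ⟨g, hg, e'⟩ := ex_σ t (mem_alternatingGroup.1 u.2)
    refine (mJ _).2 ⟨g * k * g⁻¹, conj_mem_of_mem_normalizer (hn hg) h1,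
      t.N1.mul_mem (t.N1.mul_mem hg h2) (t.N1.inv_mem hg), ?_⟩
    rw [σ_conj t (t.N1_le_N hg) (t.N1_le_N h2), e, e']; rfl⟩
  rcases alternatingGroup.normal_subgroup_eq_bot_or_eq_top (N := J) (by rw [Nat.card_fin]; decide) with hJ | hJ
  · exfalso
    obtain ⟨u, hu, hne⟩ := ex_ncomm h
    obtain ⟨g, hg, rfl⟩ := ex_σ t hu
    have hg' := t.N1_le_N hg
    have h1 : g * x * g⁻¹ ∈ t.N := t.N.mul_mem (t.N.mul_mem hg' hN) (t.N.inv_mem hg')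
    have e : t.σ (g * x * g⁻¹ * x⁻¹) = t.σ g * t.σ x * (t.σ g)⁻¹ * (t.σ x)⁻¹ := by
      rw [t.σ_mul _ h1 _ (t.N.inv_mem hN), σ_conj t hg' hN, σ_inv t hN]
    have hsg : sign (t.σ (g * x * g⁻¹ * x⁻¹)) = 1 := by
      rw [e, map_mul, map_mul, map_mul, map_inv, map_inv, hu, one_mul, inv_one, mul_one, mul_inv_cancel]
    have : (⟨_, mem_alternatingGroup.2 hsg⟩ : alternatingGroup (Fin 6)) ∈ J :=
      (mJ _).2 ⟨_, K.mul_mem (conj_mem_of_mem_normalizer (hn hg) hx) (K.inv_mem hx),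
        t.mem_N1.2 ⟨t.N.mul_mem h1 (t.N.inv_mem hN), hsg⟩, rfl⟩
    rw [hJ, mem_bot] at this
    exact hne (e.symm.trans (congrArg Subtype.val this))
  · exact (mJ ⟨s, mem_alternatingGroup.2 hs⟩).1 (hJ ▸ mem_top _)

end TbBx

open TbAx TbBx

theorem TB.inv_conj {x y : X} (hx : x ∈ t.N1) (hx' : x ∉ t.A) (h2 : x * x = 1) (hy : y ∈ t.N1) (hy' : y ∉ t.A)
    (h2' : y * y = 1) : ∃ g ∈ t.N1, g * x * g⁻¹ = y := by
  obtain ⟨g, hg, e⟩ := to_s0' t hx hx' h2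
  obtain ⟨h, hh, e'⟩ := to_s0' t hy hy' h2'
  have sq : ∀ g x : X, x * x = 1 → g * x * g⁻¹ * (g * x * g⁻¹) = 1 := fun g x h => by
    rw [conj_mul, h, mul_one, mul_inv_cancel]
  obtain ⟨k, hk, e2⟩ := conj0 t (t.N1.mul_mem (t.N1.mul_mem hg hx) (t.N1.inv_mem hg)) e (sq g x h2)
    (t.N1.mul_mem (t.N1.mul_mem hh hy) (t.N1.inv_mem hh)) e' (sq h y h2')
  refine ⟨h⁻¹ * k * g, t.N1.mul_mem (t.N1.mul_mem (t.N1.inv_mem hh) hk) hg, ?_⟩
  calc _ = h⁻¹ * (k * (g * x * g⁻¹) * k⁻¹) * h := by group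
    _ = y := by rw [e2]; group

theorem TB.exists_inv : ∃ x ∈ t.N1, x ∉ t.A ∧ x * x = 1 := by
  obtain ⟨x, hx, hs⟩ := ex_σ t s0_sign
  have hN := t.N1_le_N hx
  obtain ⟨a, ha, i, e⟩ := t.σ_ker (x * x) (t.N.mul_mem hN hN) (by rw [t.σ_mul _ hN _ hN, hs, s0_sq])
  have hp : t.p ^ i ∈ t.N1 := pow_mem t.p_mem i
  have hy : t.p ^ i * x ∈ t.N1 := t.N1.mul_mem hp hx
  have hs' : t.σ (t.p ^ i * x) = s0 := by
    rw [t.σ_mul _ (t.N1_le_N hp) _ hN, hs, (t.σ_eq_one (t.N1_le_N hp)).2 fun b hb => p_pow_A t hb i, one_mul]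
  have e' : t.p ^ i * x * (t.p ^ i * x) = a := by
    rw [← pow_two, (p_comm t hx i).mul_pow, pow_two x, e, ← p_pow_A t ha, ← mul_assoc, ← pow_succ, ← pow_mul,
      mul_comm i, pow_mul, t.p3, one_pow, one_mul]
  generalize t.p ^ i * x = y at hy hs' e'
  have hyN := t.N1_le_N hy
  obtain ⟨b, hb, e2⟩ := fixA t hyN hs' ha (by rw [← e', mul_assoc])
  have hbN := t.N1_le_N (t.A_le hb)
  refine ⟨b * y, t.N1.mul_mem (t.A_le hb) hy, fun h => s0_ne ?_, ?_⟩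
  · have h1 : y ∈ t.A := (t.A.mul_mem_cancel_left hb).1 h
    rw [← hs', (t.σ_eq_one hyN).2 fun c hc => t.A_comm h1 hc]
  · rw [← t.A_sq ha]
    calc _ = b * (y * b * y⁻¹) * (y * y) := by group
      _ = a * a := by rw [e2, e']

theorem TB.N1_le {K : Subgroup X} (hn : t.N1 ≤ normalizer (K : Set X)) (hA : t.A ≤ K) {x : X} (hx : x ∈ K)
    (hN : x ∈ t.N) (h : t.σ x ≠ 1) : t.N1 ≤ K := by
  have key : ∀ g ∈ t.N1, ∃ i : ℕ, ∃ k ∈ K, k ∈ t.N1 ∧ g = t.p ^ i * k := fun g hg => by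
    obtain ⟨k, h1, h2, e⟩ := all_even t hn hx hN h (t.mem_N1.1 hg).2
    obtain ⟨a, ha, i, e'⟩ := dec t (t.N1_le_N h2) (t.N1_le_N hg) e.symm
    exact ⟨i, a * k, K.mul_mem (hA ha) h1, t.N1.mul_mem (t.A_le ha) h2, e'⟩
  have hp : t.p ∈ K := by
    obtain ⟨g, hg, g', hg', s1, s2, a, ha, e⟩ := t.p_perf
    obtain ⟨i, k, h1, h2, rfl⟩ := key g (t.mem_N1.2 ⟨hg, s1⟩)
    obtain ⟨j, l, h3, h4, rfl⟩ := key g' (t.mem_N1.2 ⟨hg', s2⟩)
    have c1 := (p_comm t (t.N1.mul_mem (t.N1.mul_mem h2 (t.N1.mul_mem (pow_mem t.p_mem j) h4))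
      (t.N1.inv_mem h2)) i).eq
    have c2 := (p_comm t h2 j).eq
    have c3 := (p_comm t (t.N1.mul_mem (t.N1.mul_mem (t.N1.mul_mem h2 h4) (t.N1.inv_mem h2))
      (t.N1.inv_mem h4)) j).eq
    have e' : k * l * k⁻¹ * l⁻¹ = a * t.p := by
      rw [← e]
      calc _ = t.p ^ j * (k * l * k⁻¹ * l⁻¹) * (t.p ^ j)⁻¹ := by rw [c3]; group
        _ = t.p ^ j * k * l * k⁻¹ * (t.p ^ j * l)⁻¹ := by group
        _ = k * (t.p ^ j * l) * k⁻¹ * t.p ^ i * (t.p ^ i)⁻¹ * (t.p ^ j * l)⁻¹ := by rw [c2]; group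
        _ = _ := by rw [← c1]; group
    refine (K.mul_mem_cancel_left (hA ha)).1 (e' ▸ ?_)
    exact K.mul_mem (K.mul_mem (K.mul_mem h1 h3) (K.inv_mem h1)) (K.inv_mem h3)
  intro g hg
  obtain ⟨i, k, h1, -, rfl⟩ := key g hg
  exact K.mul_mem (pow_mem hp i) h1

theorem TB.perfect : ⁅t.N1, t.N1⁆ = t.N1 := by
  have hn : t.N1 ≤ normalizer ((⁅t.N1, t.N1⁆ : Subgroup X) : Set X) := fun g hg => by
    rw [mem_normalizer_iff_cj, cj_commutator, cj_eq_of_mem hg]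
  obtain ⟨g, hg, e⟩ := ex_σ t s0_sign
  obtain ⟨u, hu, hne⟩ := ex_ncomm s0_ne
  obtain ⟨h, hh, rfl⟩ := ex_σ t hu
  have hg' := t.N1_le_N hg
  have hh' := t.N1_le_N hh
  have h1 : h * g * h⁻¹ ∈ t.N := t.N.mul_mem (t.N.mul_mem hh' hg') (t.N.inv_mem hh')
  refine le_antisymm (commutator_le.2 fun a ha b hb =>
    t.N1.mul_mem (t.N1.mul_mem (t.N1.mul_mem ha hb) (t.N1.inv_mem ha)) (t.N1.inv_mem hb)) (t.N1_le hn ?_ (commutator_mem_commutator hh hg)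
    (t.N.mul_mem h1 (t.N.inv_mem hg')) ?_)
  · have e1 : g * t.d 0 2 * g⁻¹ * (t.d 0 2)⁻¹ = t.d 4 5 := by
      rw [t.σ_d g hg', e, inv_eq_of_mul_eq_one_right (t.d_sq 0 2)]
      exact d_mul_d t (by decide +kernel)
    refine A_le_of_mem t hn ?_ (t.d_mem 4 5) (t.d_ne 4 5 (by decide))
    rw [← e1]
    exact commutator_mem_commutator hg (t.A_le (t.d_mem 0 2))
  · rw [commutatorElement_def, t.σ_mul _ h1 _ (t.N.inv_mem hg'), σ_conj t hh' hg', σ_inv t hg', e]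
    exact hne

omit [Finite X] in
theorem TB.fix_le {g : X} (hg : g ∈ t.N1) (h1 : t.σ g ≠ 1) (h2 : t.σ g * t.σ g = 1) :
    Nat.card (t.A ⊓ centralizer {g} : Subgroup X) ≤ 4 := by
  classical
  obtain ⟨h, hh, e⟩ := to_s0 t hg h1 h2
  have hh' := t.N1_le_N hh
  have hN : h * g * h⁻¹ ∈ t.N := t.N.mul_mem (t.N.mul_mem hh' (t.N1_le_N hg)) (t.N.inv_mem hh')
  rw [← card_cj h, cj_inf, cj_centralizer_singleton, mem_normalizer_iff_cj.1 hh']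
  generalize h * g * h⁻¹ = x at e hN
  have hs : ((t.A ⊓ centralizer {x} : Subgroup X) : Set X) ⊆
      (({t.d 0 0, t.d 0 1, t.d 2 3, t.d 4 5} : Finset X) : Set X) := fun a ha => by
    obtain ⟨i, j, rfl⟩ := t.mem_A a ha.1
    have := k2 i j (fix_cc t hN e (mem_centralizer_singleton_iff.1 ha.2).symm)
    simpa only [← TbAx.d_eq_iff t, Finset.coe_insert, Finset.coe_singleton, Set.mem_insert_iff,
      Set.mem_singleton_iff] using this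
  have := Set.ncard_le_ncard hs (Finset.finite_toSet _)
  rw [Set.ncard_coe_finset] at this
  exact this.trans Finset.card_le_four

end CfsgLib.M24R
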