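import Mathlib
import Cfsg.Agent.Lib.M24R.TbB

/-!
# the simple normal subgroup (plans/M24R.md)
-/

set_option autoImplicit false
set_option Elab.async false

namespace CfsgLib.M24R

open Subgroup Cfsg CfsgLib.Tech CfsgLib.J4T CfsgLib.J4T.Rec CfsgLib.Golay CfsgLib.M24E CfsgLib.WD.Km
open scoped Pointwise

variable {X : Type*} [Group X] [Finite X]

namespace TbSx

open TbAx PComp

theorem syl_inf {T L : Subgroup X} (hT : IsSylowIn 2 T ⊤) [L.Normal] : IsSylowIn 2 (T ⊓ L) L := by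
  have := hT.inf_of_le_normalizer (N := L) le_normalizer_of_normal
  rwa [top_inf_eq] at this

theorem key (t : TB X) (hO : pPrimeCore 2 X = ⊥) (hn : ¬ t.A.Normal) {L J : Subgroup X} [L.Normal]
    (h1 : t.N1 ≤ L) (hL : ∀ x, ∃ l ∈ L, ∃ n ∈ t.N, x = l * n) (h0 : J ≠ ⊥) (hJ : J ≤ L)
    (hN : L ≤ normalizer (J : Set X)) : t.N1 ≤ J := by
  obtain ⟨T, hT, hAT, -, -⟩ := t.syl
  have hS := syl_inf (L := L) hT
  have hOJ : opOf 2 J = ⊥ := by
    rw [eq_bot_iff, ← hO, ← opOf_top]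
    exact (opOf_le_opOf_of_le_normalizer hJ hN).trans (opOf_le_opOf_of_le_normalizer le_top le_normalizer_of_normal)
  have hS' := hS.inf_of_le_normalizer hN
  rw [inf_eq_right.2 hJ] at hS'
  have hne : T ⊓ L ⊓ J ≠ ⊥ := fun h => h0 (by
    have h3 := hS'.3
    rw [h, relIndex_bot_left] at h3
    rw [← hOJ, opOf_eq_self_of_coprime ((Nat.Prime.coprime_iff_not_dvd Nat.prime_two).2 h3).symm])
  obtain ⟨z, hz, ho, hc⟩ := exists_mem_center_of_normalized hS.2 inf_le_left (fun g hg => by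
    rw [mem_normalizer_iff_cj, cj_inf, cj_eq_of_mem hg, mem_normalizer_iff_cj.1 (hN hg.2)]) hne
  have hzA : z ∈ t.A := t.cent_two (fun a ha => (hc a ⟨hAT ha, h1 (t.A_le ha)⟩).symm) (n := 1)
    (by rw [pow_one, ← ho, pow_orderOf_eq_one])
  have hAJ : t.A ≤ J := A_le_of_mem t (h1.trans hN) hz.2 hzA (ne_one_of_orderOf_two ho)
  by_cases hx : ∃ x ∈ J, x ∈ t.N ∧ t.σ x ≠ 1
  · obtain ⟨x, h2, h3, h4⟩ := hx
    exact t.N1_le (h1.trans hN) hAJ h2 h3 h4
  exfalso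
  have hc' : ∀ x ∈ J, x ∈ t.N → ∀ a ∈ t.A, x * a = a * x := fun x h2 h3 =>
    (t.σ_eq_one h3).1 (by_contra fun h4 => hx ⟨x, h2, h3, h4⟩)
  have hA : IsSylowIn 2 t.A J := t.syl_of hAJ (isSylowIn_of_maximal (A_pgroup t) (le_inf hAJ le_normalizer)
    fun R hR _ h3 r hr => by
      obtain ⟨k, hk⟩ := isPGroup_iff_mem.1 hR r hr
      exact t.cent_two (hc' r (h3 hr).1 (h3 hr).2) hk)
  have hJA : J = t.A := le_antisymm (W2.le_of_npc (W2.npc_of_burnside hA hc') hA (hOJ ▸ bot_le) le_rfl) hAJ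
  rw [hJA] at hN
  refine hn (normalizer_eq_top_iff.1 (eq_top_iff.2 fun x _ => ?_))
  obtain ⟨l, hl, n, hn', rfl⟩ := hL x
  exact t.N.mul_mem (hN hl) hn'

end TbSx

open TbAx TbSx

theorem TB.simple (t : TB X) (hO : pPrimeCore 2 X = ⊥) (hn : ¬ t.A.Normal) :
    ∃ L : Subgroup X, L.Normal ∧ IsSimpleGroup L ∧ t.N1 ≤ L ∧ ∀ x, ∃ l ∈ L, ∃ n ∈ t.N, x = l * n := by
  have hAL : t.A ≤ normalClosure (t.A : Set X) := le_normalClosure
  have h0 : normalClosure (t.A : Set X) ≠ ⊥ := fun h => A_ne_bot t (eq_bot_iff.2 (h ▸ hAL))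
  have h1 : t.N1 ≤ normalClosure (t.A : Set X) :=
    key t hO hn (L := ⊤) le_top (fun x => ⟨x, mem_top _, 1, t.N.one_mem, (mul_one x).symm⟩) h0 le_top
      le_normalizer_of_normal
  have hL : ∀ x, ∃ l ∈ normalClosure (t.A : Set X), ∃ n ∈ t.N, x = l * n := fun x => by
    obtain ⟨T, hT, -, hTN, -⟩ := t.syl
    obtain ⟨g, hg, e⟩ := (syl_inf (L := normalClosure (t.A : Set X)) hT).exists_cj_le (isPGroup_cj x (A_pgroup t))
      ((cj_mono x hAL).trans (cj_eq_of_normal x _).le)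
    rw [← cj_mul] at e
    exact ⟨g⁻¹, inv_mem hg, g * x, t.wc _ (e.trans (inf_le_left.trans hTN)), by group⟩
  refine ⟨normalClosure (t.A : Set X), inferInstance, ?_, h1, hL⟩
  haveI : Nontrivial (normalClosure (t.A : Set X)) := (nontrivial_iff_ne_bot _).2 h0
  refine ⟨fun H hH => or_iff_not_imp_left.2 fun hH0 => ?_⟩
  have hN : normalClosure (t.A : Set X) ≤ normalizer (H.map (normalClosure (t.A : Set X)).subtype : Set X) :=
    fun g hg => mem_normalizer_of_forall fun _ ⟨y, hy, e⟩ => ⟨_, hH.conj_mem y hy ⟨g, hg⟩, e ▸ rfl⟩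
  have h2 := key t hO hn h1 hL (fun h => hH0 ((map_eq_bot_iff_of_injective _ (subtype_injective _)).1 h))
    (map_subtype_le H) hN
  have h3 : normalClosure (t.A : Set X) ≤ H.map (normalClosure (t.A : Set X)).subtype := by
    refine (closure_le _).2 fun y hy => ?_
    obtain ⟨a, ha, hc⟩ := Group.mem_conjugatesOfSet_iff.1 hy
    obtain ⟨x, rfl⟩ := isConj_iff.1 hc
    obtain ⟨l, hl, n, hn', rfl⟩ := hL x
    have := conj_mem_of_mem_normalizer (hN hl) (h2 (t.A_le (conj_mem_of_mem_normalizer hn' ha)))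
    rwa [show l * (n * a * n⁻¹) * l⁻¹ = l * n * a * (l * n)⁻¹ by group] at this
  refine eq_top_iff.2 fun y _ => ?_
  obtain ⟨w, hw, e⟩ := h3 y.2
  exact (Subtype.ext e : w = y) ▸ hw

end CfsgLib.M24R
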