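import Mathlib
import Cfsg.Agent.Lib.M24R.TbA

/-!
# the centraliser of `d 0 1` (plans/M24R.md)
-/

set_option autoImplicit false
set_option Elab.async false

namespace CfsgLib.M24R

open Subgroup Cfsg CfsgLib.Tech CfsgLib.J4T CfsgLib.J4T.Rec CfsgLib.Golay CfsgLib.M24E CfsgLib.WD.Km
open scoped Pointwise commutatorElement

variable {X : Type*} [Group X] [Finite X]

namespace TxBx

open CfsgLib.W2

theorem solv_two {Y : Type*} [Group Y] [Finite Y] (h : IsPGroup 2 Y) : Group.IsSolvable Y := by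
  have := h.isNilpotent
  infer_instance

omit [Finite X] in
theorem solv_ext {D C : Subgroup X} (hDC : D ≤ C) (hD : Group.IsSolvable D) [(D.subgroupOf C).Normal]
    (hq : Group.IsSolvable (C ⧸ D.subgroupOf C)) : Group.IsSolvable C :=
  Group.isSolvable_of_ker_le_range (inclusion hDC) (QuotientGroup.mk' (D.subgroupOf C))
    (by rw [QuotientGroup.ker_mk', inclusion_range])

omit [Finite X] in
theorem one_of {P : Subgroup X} (hP : IsPGroup 2 P) {w : X} (hw : w ∈ P) {n : ℕ} (hn : Odd n) (e : w ^ n = 1) :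
    w = 1 := by
  obtain ⟨k, hk⟩ := hP ⟨w, hw⟩
  have hk' : w ^ 2 ^ k = 1 := congrArg Subtype.val hk
  exact mem_bot.1 (mem_of_coprime_pow (Nat.Coprime.pow_right k (Nat.coprime_two_right.2 hn)) (mem_bot.2 e)
    (mem_bot.2 hk'))

theorem ex_even : ∀ i j : Fin 6, i ≠ j → ∃ s : Equiv.Perm (Fin 6), Equiv.Perm.sign s = 1 ∧ s 0 = i ∧ s 1 = j ∧
    ∀ l, l ≠ i → l ≠ j → ∃ l' : Fin 6, 2 ≤ l' ∧ s l' = l := by
  intro i j ij
  obtain ⟨s, h0, h1⟩ : ∃ s : Equiv.Perm (Fin 6), s 0 = i ∧ s 1 = j :=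
    ⟨Equiv.swap (Equiv.swap 0 i 1) j * Equiv.swap 0 i, by revert i j; decide, by simp⟩
  have key : ∀ s : Equiv.Perm (Fin 6), s 0 = i → s 1 = j → ∀ l, l ≠ i → l ≠ j → ∃ l' : Fin 6, 2 ≤ l' ∧ s l' = l := by
    intro s h0 h1 l li lj
    obtain ⟨l', rfl⟩ := s.surjective l
    refine ⟨l', ?_, rfl⟩
    have a : l' ≠ 0 := fun k => li (k ▸ h0)
    have b : l' ≠ 1 := fun k => lj (k ▸ h1)
    omega
  rcases Int.units_eq_one_or (Equiv.Perm.sign s) with e | e
  · exact ⟨s, e, h0, h1, key s h0 h1⟩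
  · have a0 : (s * Equiv.swap 2 3 : Equiv.Perm (Fin 6)) 0 = i := h0
    have a1 : (s * Equiv.swap 2 3 : Equiv.Perm (Fin 6)) 1 = j := h1
    exact ⟨s * Equiv.swap 2 3, by rw [map_mul, e, Equiv.Perm.sign_swap (by decide)]; rfl, a0, a1, key _ a0 a1⟩

theorem ex_two : ∀ i j l n : Fin 6, ∃ a b : Fin 6, a ≠ b ∧ a ≠ i ∧ a ≠ j ∧ b ≠ i ∧ b ≠ j ∧ l ≠ a ∧ l ≠ b ∧ n ≠ a ∧
    n ≠ b := by decide +kernel

variable (t : TX X)

omit [Finite X] in
theorem step0 {O : Subgroup X} (ho : Odd (Nat.card O)) (hn : t.A ≤ normalizer (O : Set X)) {y : X} (hy : y ∈ O)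
    (hc : y ∈ Cx (t.d 0 1)) {l n : Fin 6} (hl : 2 ≤ l) (hn' : 2 ≤ n) : y ∈ Cx (t.d l n) := by
  obtain ⟨P, D, -, -, h3, -, h5, -, -, h8⟩ := t.loc
  have a : y * t.d l n * y⁻¹ * (t.d l n)⁻¹ ∈ P :=
    mul_mem (conj_mem_of_mem_normalizer (h3 hc) (h8 l n hl hn')) (inv_mem (h8 l n hl hn'))
  have b : y * t.d l n * y⁻¹ * (t.d l n)⁻¹ ∈ O := by
    have := mul_mem hy (conj_mem_of_mem_normalizer (hn (t.d_mem l n)) (inv_mem hy))
    simpa only [mul_assoc] using this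
  have c := one_of h5 a ho (congrArg Subtype.val (pow_card_eq_one' (x := (⟨_, b⟩ : O))))
  exact mem_Cx'.2 (mul_inv_eq_one.1 c)

omit [Finite X] in
theorem step {O : Subgroup X} (ho : Odd (Nat.card O)) (hn : t.A ≤ normalizer (O : Set X)) {y : X} (hy : y ∈ O)
    {i j l n : Fin 6} (ij : i ≠ j) (hc : y ∈ Cx (t.d i j)) (li : l ≠ i) (lj : l ≠ j) (ni : n ≠ i) (nj : n ≠ j) :
    y ∈ Cx (t.d l n) := by
  obtain ⟨s, hs, rfl, rfl, h⟩ := ex_even i j ij
  obtain ⟨g, hg, rfl⟩ := t.σ_alt s hs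
  obtain ⟨l', hl, rfl⟩ := h l li lj
  obtain ⟨n', hn', rfl⟩ := h n ni nj
  rw [← t.σ_d g hg, ← cj_Cx, mem_cj] at hc ⊢
  refine step0 t (O := cj g⁻¹ O) (by rwa [card_cj]) (fun a ha => ?_) (mem_cj.2 (by simpa [mul_assoc] using hy)) hc hl hn'
  rw [← cj_normalizer, mem_cj, inv_inv]
  exact hn (conj_mem_of_mem_normalizer hg ha)

theorem cd {O : Subgroup X} (ho : Odd (Nat.card O)) (hn : t.A ≤ normalizer (O : Set X)) {i j : Fin 6} (ij : i ≠ j) :
    O ⊓ Cx (t.d i j) ≤ zpowers t.p := fun y hy => by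
  refine t.toTB.cent_odd (fun a ha => ?_) (ho.of_dvd_nat (Subgroup.orderOf_dvd_natCard O hy.1))
  obtain ⟨l, n, rfl⟩ := t.mem_A a ha
  obtain ⟨a, b, ab, h1, h2, h3, h4, h5, h6, h7, h8⟩ := ex_two i j l n
  exact mem_Cx.1 (step t ho hn hy.1 ab (step t ho hn hy.1 ij hy.2 h1 h2 h3 h4) h5 h6 h7 h8)

end TxBx

variable (t : TX X)

theorem TX.solv : Group.IsSolvable (centralizer ({t.d 0 1} : Set X)) := by
  obtain ⟨P, D, h1, h2, h3, h4, h5, h6, h7, -⟩ := t.loc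
  have n1 := (normal_subgroupOf_iff_le_normalizer h1).2 (h2.trans h3)
  have n2 := (normal_subgroupOf_iff_le_normalizer h2).2 h4
  refine TxBx.solv_ext h2 (TxBx.solv_ext h1 (TxBx.solv_two h5) (Group.isSolvable_of_comm fun a b => ?_))
    (TxBx.solv_two fun a => ?_)
  · obtain ⟨a, rfl⟩ := QuotientGroup.mk_surjective a
    obtain ⟨b, rfl⟩ := QuotientGroup.mk_surjective b
    rw [← commutatorElement_eq_one_iff_mul_comm]
    exact (QuotientGroup.eq_one_iff (N := P.subgroupOf D) ⁅a, b⁆).2 (h6 (commutator_mem_commutator a.2 b.2))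
  · obtain ⟨a, rfl⟩ := QuotientGroup.mk_surjective a
    exact ⟨2, (QuotientGroup.eq_one_iff (a ^ 4)).2 (h7 a a.2)⟩

theorem TX.odd_le {O : Subgroup X} (ho : Odd (Nat.card O)) (hn : t.A ≤ normalizer (O : Set X)) : O ≤ zpowers t.p := by
  refine W2.le_of_four ho (W2.ord_two (t.d_sq 1 0) (t.d_ne 1 0 (by decide))) (W2.ord_two (t.d_sq 0 2) (t.d_ne 0 2 (by decide)))
    (fun e => ?_) (t.toTB.A_comm (t.d_mem _ _) (t.d_mem _ _)) (hn (t.d_mem _ _)) (hn (t.d_mem _ _))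
    (TxBx.cd t ho hn (by decide)) (TxBx.cd t ho hn (by decide)) ?_
  · exact absurd ((t.toTB.d_eq_iff (by decide)).1 e) (by decide)
  · rw [t.d_mul]
    exact TxBx.cd t ho hn (by decide)

namespace TxBx

open CfsgLib.W2

theorem cenp0 : Cx (t.d 0 1) ≤ normalizer (zpowers t.p : Set X) := by
  obtain ⟨P, D, h1, h2, h3, h4, h5, h6, h7, -⟩ := t.loc
  obtain ⟨T, hT, -, TN, TC⟩ := t.toTB.syl
  have PT : P ≤ T := (hT.of_le TC le_top).le_of_le_normalizer h5 (h1.trans h2) h3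
  have pC : t.p ∈ Cx (t.d 0 1) := mem_Cx.2 (t.p_A _ (t.d_mem 0 1))
  have p3 : ∀ w ∈ zpowers t.p, w ^ 3 = 1 := fun w hw => by
    obtain ⟨k, rfl⟩ := mem_zpowers_iff.1 hw
    rw [← zpow_natCast, ← zpow_mul, mul_comm, zpow_mul, zpow_natCast, t.p3, one_zpow]
  have Pp : P ≤ Cx t.p := fun x hx => by
    have a : x * t.p * x⁻¹ * t.p⁻¹ ∈ P := by
      have := mul_mem hx (conj_mem_of_mem_normalizer (h3 pC) (inv_mem hx))
      simpa only [mul_assoc] using this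
    exact mem_Cx'.2 (mul_inv_eq_one.1 (one_of h5 a (by decide : Odd 3) (p3 _ (mul_mem
      (conj_mem_of_mem_normalizer (t.toTB.N_le_norm_p (TN (PT hx))) (mem_zpowers _)) (inv_mem (mem_zpowers _))))))
  have pD : t.p ∈ D := by
    have := h7 _ pC
    rwa [pow_succ, t.p3, one_mul] at this
  have cm : ∀ c ∈ Cx (t.d 0 1), c * t.p * c⁻¹ ∈ Cx t.p := fun c hc => by
    have a : ⁅t.p, c * t.p * c⁻¹⁆ ∈ P := h6 (commutator_mem_commutator pD (conj_mem_of_mem_normalizer (h4 hc) pD))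
    have b := mem_Cx.1 (Pp a)
    have q3 := t.p3
    generalize c * t.p * c⁻¹ = u at *
    generalize t.p = p at *
    have e : p * u * p⁻¹ = ⁅p, u⁆ * u := by rw [commutatorElement_def]; group
    have : ⁅p, u⁆ ^ 3 = 1 := by
      generalize ⁅p, u⁆ = w at *
      have e1 : p * w * p⁻¹ = w := by rw [← b, mul_inv_cancel_right]
      have e2 : p ^ 3 * u * (p ^ 3)⁻¹ = w ^ 3 * u := by
        have f : ∀ v, p * (w * v) * p⁻¹ = w * (p * v * p⁻¹) := fun v => by rw [← conj_mul, e1]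
        calc p ^ 3 * u * (p ^ 3)⁻¹ = p * (p * (p * u * p⁻¹) * p⁻¹) * p⁻¹ := by simp [pow_succ, mul_assoc]
          _ = w ^ 3 * u := by
            rw [e, f, e, f, f, e]; simp [pow_succ, mul_assoc]
      rw [q3, one_mul, inv_one, mul_one] at e2
      exact mul_eq_right.1 e2.symm
    exact mem_Cx.2 (commutatorElement_eq_one_iff_mul_comm.1 (one_of h5 a (by decide : Odd 3) this)).symm
  set S : Set X := {u | ∃ c ∈ Cx (t.d 0 1), u = c * t.p * c⁻¹} with hS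
  have c1 : ∀ v ∈ S, closure S ≤ Cx v := by
    rintro _ ⟨c, hc, rfl⟩
    refine (closure_le _).2 ?_
    rintro _ ⟨c', hc', rfl⟩
    have := (conj_mem_Cx (g := c)).2 (cm _ (mul_mem (inv_mem hc) hc'))
    simpa [mul_assoc] using this
  have c2 : ∀ v ∈ closure S, closure S ≤ Cx v := fun v hv => (closure_le _).2 fun u hu => Cx_comm.1 (c1 u hu hv)
  have c3 : ∀ v ∈ closure S, v ^ 3 = 1 := fun v hv => by
    induction hv using closure_induction with
    | mem x hx =>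
      obtain ⟨c, -, rfl⟩ := hx
      rw [conj_pow, t.p3, mul_one, mul_inv_cancel]
    | one => exact one_pow 3
    | mul x y hx hy ex ey => rw [(show Commute x y from mem_Cx.1 (c2 y hy hx)).mul_pow, ex, ey, one_mul]
    | inv x _ ex => rw [inv_pow, ex, inv_one]
  have o3 : IsPGroup 3 (closure S) := fun v => ⟨1, Subtype.ext (c3 v v.2)⟩
  have ho : Odd (Nat.card (closure S)) := by
    have : Fact (Nat.Prime 3) := ⟨Nat.prime_three⟩
    obtain ⟨k, hk⟩ := o3.exists_card_eq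
    rw [hk]
    exact Odd.pow (by decide)
  have le := t.odd_le ho fun a ha => mem_normalizer_of_cj_le (map_le_iff_le_comap.2 ((closure_le _).2 (by
    rintro _ ⟨c, hc, rfl⟩
    exact subset_closure (k := S) ⟨a * c, mul_mem (mem_Cx.2 (t.toTB.A_comm ha (t.d_mem 0 1))) hc, by
      simp [mul_assoc]⟩)))
  intro c hc
  refine mem_normalizer_of_cj_le ?_
  rw [cj_zpowers]
  exact zpowers_le.2 (le (subset_closure ⟨c, hc, rfl⟩))

end TxBx

theorem TX.cenp {a : X} (ha : a ∈ t.A) (h1 : a ≠ 1) : centralizer {a} ≤ normalizer (zpowers t.p : Set X) := by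
  obtain ⟨g, hg, rfl⟩ := t.toTB.tr ha h1
  have n := t.toTB.N_le_norm_p (t.toTB.N1_le_N hg)
  intro c hc
  have := TxBx.cenp0 t (mem_cj.1 ((W2.cj_Cx g _).ge hc))
  simpa [mul_assoc] using mul_mem (mul_mem n this) (inv_mem n)

theorem TX.inf_cent : t.toTB.N ⊓ centralizer {t.p} = t.toTB.N1 := by
  refine le_antisymm (fun g hg => t.toTB.mem_N1.2 ⟨hg.1, ?_⟩) (le_inf t.toTB.N1_le_N t.toTB.N1_le_cent)
  refine (Int.units_eq_one_or _).resolve_right fun e => t.p_ne ?_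
  have a := (W2.mem_Cx'.1 hg.2).symm.trans (t.p_odd g hg.1 e)
  have b := t.p3
  rwa [pow_succ, pow_two, mul_eq_one_iff_eq_inv.2 a, one_mul] at b

end CfsgLib.M24R
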