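import Mathlib
import Cfsg.Agent.Lib.M24R.TbS
import Cfsg.Agent.Lib.M24R.TxB
import Cfsg.Agent.S2901

/-!
# application of Holt's theorem (plans/M24R.md)
-/

set_option autoImplicit false
set_option Elab.async false

namespace CfsgLib.M24R

open Subgroup Cfsg CfsgLib.Tech CfsgLib.J4T CfsgLib.J4T.Rec CfsgLib.Golay CfsgLib.M24E CfsgLib.WD.Km
open scoped Pointwise

variable {X : Type*} [Group X] [Finite X]

namespace TxHx

open CfsgLib.W2

variable (t : TX X)

omit [Finite X] in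
theorem ord : orderOf t.p = 3 := by
  have : Fact (Nat.Prime 3) := ⟨Nat.prime_three⟩
  exact orderOf_eq_prime t.p3 t.p_ne

theorem cases_p {w : X} (hw : w ∈ zpowers t.p) : w = 1 ∨ w = t.p ∨ w = t.p⁻¹ := by
  classical
  obtain ⟨k, hk, rfl⟩ := Finset.mem_image.1 ((mem_zpowers_iff_mem_range_orderOf).1 hw)
  rw [ord t, Finset.mem_range] at hk
  interval_cases k
  · exact Or.inl (pow_zero _)
  · exact Or.inr (Or.inl (pow_one _))
  · exact Or.inr (Or.inr (eq_inv_of_mul_eq_one_left ((pow_succ _ _).symm.trans t.p3)))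

omit [Finite X] in
theorem nosimple {K : Type*} [Group K] [IsSimpleGroup K] (f : K →* X)
    (hn : ∀ k, f k ∈ normalizer (zpowers t.p : Set X)) {a b : K} (ha : f a = t.p) (hb : f b = t.d 0 1) : False := by
  have : ((zpowers t.p).comap f).Normal := ⟨fun x hx g => by
    rw [mem_comap, map_mul, map_mul, map_inv]
    exact conj_mem_of_mem_normalizer (hn g) hx⟩
  rcases this.eq_bot_or_eq_top with e | e
  · have : a ∈ (zpowers t.p).comap f := mem_comap.2 (ha ▸ mem_zpowers _)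
    rw [e, mem_bot] at this
    exact t.p_ne (by rw [← ha, this, map_one])
  · have : t.d 0 1 ∈ zpowers t.p := hb ▸ mem_comap.1 (e ▸ mem_top b)
    have h3 := congrArg Subtype.val (pow_card_eq_one' (x := (⟨_, this⟩ : zpowers t.p)))
    rw [Nat.card_zpowers, ord t] at h3
    have h3' : t.d 0 1 ^ 3 = 1 := h3
    rw [pow_succ, pow_two, t.d_sq, one_mul] at h3'
    exact t.d_ne 0 1 (by decide) h3'

theorem cent_le {L : Subgroup X} [L.Normal] (h1 : t.toTB.N1 ≤ L) (h2 : ∀ x, ∃ l ∈ L, ∃ n ∈ t.toTB.N, x = l * n) :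
    centralizer {t.p} ≤ L := by
  obtain ⟨S, hS⟩ := exists_isSylowIn 2 (centralizer {t.p} ⊓ t.toTB.N)
  have SL : S ≤ L := hS.le.trans (by rw [inf_comm, t.inf_cent]; exact h1)
  have hS' := t.toTB.syl_of (t.toTB.A_le.trans t.toTB.N1_le_cent) hS
  have q : IsPGroup 2 (centralizer ({t.p} : Set X) ⧸ L.subgroupOf (centralizer {t.p})) := fun a => by
    obtain ⟨a, rfl⟩ := QuotientGroup.mk_surjective a
    obtain ⟨l, hl, n, hn, e⟩ := h2 a
    refine ⟨1, (QuotientGroup.eq_one_iff (a ^ 2)).2 (mem_subgroupOf.2 ?_)⟩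
    have a2 : n * n ∈ L := h1 (t.toTB.mem_N1.2 ⟨mul_mem hn hn, by rw [t.σ_mul n hn n hn, map_mul, Int.units_mul_self]⟩)
    have : (a : X) ^ 2 = l * (n * l * n⁻¹) * (n * n) := by rw [e, pow_two]; group
    rw [SubgroupClass.coe_pow, this]
    exact mul_mem (mul_mem hl (Normal.conj_mem inferInstance l hl n)) a2
  obtain ⟨k, hk⟩ := q.exists_card_eq
  have d := relIndex_dvd_of_le_left (centralizer {t.p}) SL
  refine relIndex_eq_one.1 ?_
  have e : L.relIndex (centralizer {t.p}) = 2 ^ k := hk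
  rcases k with _ | k
  · exact e
  · exact (hS'.not_dvd ((e ▸ dvd_pow_self 2 k.succ_ne_zero : 2 ∣ _).trans d)).elim

end TxHx

theorem TX.holt (t : TX X) (hO : pPrimeCore 2 X = ⊥)
    (one : ∀ x ∈ centralizer ({t.p} : Set X), x * x = 1 → x ≠ 1 →
      ∃ c ∈ centralizer ({t.p} : Set X), c * x * c⁻¹ = t.d 0 1) : False := by
  obtain ⟨L, hn, hL, h1, h2⟩ := t.toTB.simple hO t.nn
  have CL := TxHx.cent_le t h1 h2
  have d1 := t.d_ne 0 1 (by decide)
  have dN := t.toTB.A_le (t.d_mem 0 1)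
  have NP : t.toTB.N1 ≤ normalizer (zpowers t.p : Set X) := t.toTB.N1_le_N.trans t.toTB.N_le_norm_p
  obtain ⟨T, hT, AT, -, TC⟩ := t.toTB.syl
  have hT' : IsSylowIn 2 (T ⊓ L) L := by
    simpa using hT.inf_of_le_normalizer (N := L) (by rw [normalizer_eq_top])
  refine (Cfsg.Agent.S2901.result (K := L) (fun k => ?_) ((normalizer (zpowers t.p : Set X)).subgroupOf L) (fun e => ?_)
    ⟨t.d 0 1, h1 dN⟩ (NP dN) ⟨(orderOf_coe _).symm.trans (W2.ord_two (t.d_sq 0 1) d1), hT'.toSylow,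
      ⟨AT (t.d_mem 0 1), h1 dN⟩, fun x hx => Subtype.ext (W2.mem_Cx.1 (TC hx.1))⟩
    (fun c hc => t.cenp (t.d_mem 0 1) d1 (W2.mem_Cx.2 (congrArg Subtype.val (W2.mem_Cx.1 hc)))) (fun g hg => ?_)).elim
    (fun ⟨_, S, e⟩ => ?_) fun ⟨n, n5, _, ⟨e⟩⟩ => ?_
  rotate_left 3
  · have hS := IsSylowIn.of_sylow_subgroup S
    have nS : t.toTB.N1 ≤ normalizer ((S : Subgroup L).map L.subtype : Set X) := fun g hg =>
      le_normalizer_map _ ⟨⟨g, h1 hg⟩, e ▸ mem_subgroupOf.2 (NP hg), rfl⟩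
    obtain ⟨x, hx, xA, x2⟩ := t.toTB.exists_inv
    have le := t.toTB.N1_le nS (hS.le_of_normalizes (IsPGroup.of_card (n := 4) t.toTB.card_A) (t.toTB.A_le.trans h1)
      (t.toTB.A_le.trans nS)) (hS.le_of_normalizes (isPGroup_zpowers_of_pow (k := 1) ((pow_two x).trans x2))
        (zpowers_le.2 (h1 hx)) (zpowers_le.2 (nS hx)) (mem_zpowers x)) (t.toTB.N1_le_N hx) fun k =>
      xA (t.toTB.cent_two ((t.toTB.σ_eq_one (t.toTB.N1_le_N hx)).1 k) (n := 1) ((pow_two x).trans x2))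
    exact t.p_ne (TxBx.one_of hS.pgroup (le t.toTB.p_mem) (by decide : Odd 3) t.p3)
  · rcases n5.eq_or_lt with rfl | n6
    · have c := Nat.card_congr e.toEquiv
      rw [nat_card_alternatingGroup] at c
      have : Nat.card t.toTB.N1 ≤ Nat.card ((normalizer (zpowers t.p : Set X)).subgroupOf L) :=
        Nat.card_le_card_of_injective (fun g => ⟨⟨g, h1 g.2⟩, NP g.2⟩) fun a b k =>
          Subtype.ext (congrArg (fun u => u.1.1) k)
      rw [c, t.toTB.card_N1, TxHx.ord t] at this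
      simp [Nat.factorial] at this
    · have : IsSimpleGroup (alternatingGroup (Fin (n - 1))) := alternatingGroup.isSimpleGroup (by simp; omega)
      have := e.isSimpleGroup
      exact TxHx.nosimple t (L.subtype.comp ((normalizer (zpowers t.p : Set X)).subgroupOf L).subtype)
        (fun k => k.2)
        (a := ⟨⟨_, h1 t.toTB.p_mem⟩, NP t.toTB.p_mem⟩) (b := ⟨⟨_, h1 dN⟩, NP dN⟩) rfl rfl
  · obtain ⟨g, hg, e⟩ := t.toTB.tr (t.d_mem 0 2) (t.d_ne 0 2 (by decide))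
    have : g * t.d 0 1 = t.d 0 1 * g := congrArg Subtype.val (k.is_comm.comm ⟨g, h1 hg⟩ ⟨_, h1 dN⟩)
    rw [this, mul_inv_cancel_right] at e
    exact absurd ((t.toTB.d_eq_iff (by decide)).1 e) (by decide)
  · exact TxHx.nosimple t L.subtype (fun k => mem_subgroupOf.1 (e ▸ mem_top k))
      (a := ⟨_, h1 t.toTB.p_mem⟩) (b := ⟨_, h1 dN⟩) rfl rfl
  · have hg' : (g : X) * t.d 0 1 * (g : X)⁻¹ ∈ normalizer (zpowers t.p : Set X) := hg
    have hc : (g : X) * t.d 0 1 * (g : X)⁻¹ ∈ centralizer {t.p} := W2.mem_Cx'.2 (by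
      rcases TxHx.cases_p t (conj_mem_of_mem_normalizer hg' (mem_zpowers _)) with k | k | k
      · exact (t.p_ne (conj_eq_one_iff.1 k)).elim
      · exact k
      · exact (t.ninv g k).elim)
    obtain ⟨c, cC, e⟩ := one _ hc (by rw [conj_mul, t.d_sq, mul_one, mul_inv_cancel]) fun k => d1 (conj_eq_one_iff.1 k)
    refine ⟨⟨c⁻¹, CL (inv_mem cC)⟩, centralizer_le_normalizer _ (show c⁻¹ ∈ centralizer (zpowers t.p : Set X) from ?_),
      Subtype.ext ?_⟩
    · exact fun w hw => W2.mem_Cx.1 (zpowers_le.2 (W2.Cx_comm.1 (inv_mem cC)) hw)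
    · show c⁻¹ * t.d 0 1 * c⁻¹⁻¹ = (g : X) * t.d 0 1 * (g : X)⁻¹
      nth_rewrite 1 [← e]
      group

end CfsgLib.M24R
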