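import Mathlib
import Cfsg.Agent.Lib.M24R.TbB
import Cfsg.Agent.Lib.Rec3B.Abs

/-!
# one class of involutions (plans/M24R.md)
-/

set_option autoImplicit false
set_option Elab.async false

namespace CfsgLib.M24R

open Subgroup Cfsg CfsgLib.Tech CfsgLib.J4T CfsgLib.J4T.Rec CfsgLib.Golay CfsgLib.M24E CfsgLib.WD.Km
open scoped Pointwise

variable {X : Type*} [Group X] [Finite X]

namespace TyDx

omit [Finite X] in
theorem memN1 (y : TY X) {g : X} (hg : g ∈ y.toTB.N) : g ∈ y.toTB.N1 := y.toTB.mem_N1.2 ⟨hg, y.even g hg⟩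

omit [Finite X] in
theorem σ_ne (y : TY X) {g : X} (hg : g ∈ y.toTB.N) (hA : g ∉ y.A) : y.σ g ≠ 1 := fun h => by
  obtain ⟨a, ha, i, rfl⟩ := y.σ_ker g hg h
  rw [y.p_eq, one_pow, mul_one] at hA
  exact hA ha

omit [Finite X] in
theorem conjA (y : TY X) {a : X} (ha : a ∈ y.A) (h1 : a ≠ 1) : IsConj (y.d 0 1) a := by
  obtain ⟨g, -, e⟩ := y.toTB.tr ha h1
  exact isConj_iff.2 ⟨g, e⟩

end TyDx

open TyDx in
theorem TY.dich (y : TY X) : y.A.Normal ∨ ∀ x, x * x = 1 → x ≠ 1 → IsConj (y.d 0 1) x := by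
  by_cases h : ∃ v ∈ y.A, ∃ g, g * v * g⁻¹ ∈ y.toTB.N ∧ g * v * g⁻¹ ∉ y.A
  · obtain ⟨v, hv, g, h1, h2⟩ := h
    refine Or.inr fun x hx hx1 => ?_
    have := Fact.mk Nat.prime_two
    obtain ⟨T, hT, -, TN, -⟩ := y.toTB.syl
    obtain ⟨c, -, hc⟩ := hT.exists_conj_mem (mem_top x) (isPGroup_zpowers_of_pow (k := 1) (by rw [pow_one, pow_two, hx]))
    have hx' : c * x * c⁻¹ * (c * x * c⁻¹) = 1 := by rw [conj_mul, hx, mul_one, mul_inv_cancel]
    refine IsConj.trans ?_ (isConj_iff.2 ⟨c, rfl⟩ : IsConj x (c * x * c⁻¹)).symm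
    by_cases hA : c * x * c⁻¹ ∈ y.A
    · exact conjA y hA (by rwa [Ne, conj_eq_one_iff])
    · have v1 : v ≠ 1 := fun e => h2 (by rw [e, mul_one, mul_inv_cancel]; exact one_mem _)
      obtain ⟨k, -, e⟩ := y.toTB.inv_conj (memN1 y h1) h2
        (by rw [conj_mul, y.toTB.A_sq hv, mul_one, mul_inv_cancel]) (memN1 y (TN hc)) hA hx'
      exact ((conjA y hv v1).trans (isConj_iff.2 ⟨g, rfl⟩)).trans (isConj_iff.2 ⟨k, e⟩)
  · push Not at h
    refine Or.inl (Rec3B.abs_normal (fun _ => True) (fun v hv => y.toTB.A_sq hv) (fun _ _ _ => trivial)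
      (fun v hv => subset_closure ⟨hv, trivial⟩) (fun v hv g h1 h2 => absurd (h v hv g h1) h2)
      (fun W _ _ v _ => ⟨1, one_mem _, trivial⟩) y.core fun N h1 h2 h3 => ?_)
    obtain ⟨x, hx, hxA⟩ := SetLike.exists_of_lt h1
    obtain ⟨j, hj, hjA, j2⟩ := y.toTB.exists_inv
    exact ⟨j, y.toTB.N1_le (y.toTB.N1_le_N.trans h3) h1.le hx (h2 hx) (σ_ne y (h2 hx) hxA) hj, hjA, j2⟩

end CfsgLib.M24R
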