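import Mathlib
import Cfsg.Agent.Lib.M24R.Defs
import Cfsg.Agent.Lib.Symp.Order
import Cfsg.Agent.S0243
import Cfsg.Agent.S1059

/-!
# exclusion of the other groups (plans/M24R.md)
-/

set_option autoImplicit false
set_option Elab.async false

namespace CfsgLib.M24R

open Subgroup Cfsg CfsgLib.Tech CfsgLib.J4T CfsgLib.J4T.Rec CfsgLib.Golay CfsgLib.M24E CfsgLib.WD.Km
open scoped Pointwise

variable {X : Type*} [Group X] [Finite X]

namespace TyEx

/-- one class of involutions -/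
def One (Y : Type*) [Group Y] : Prop := ∀ x y : Y, x * x = 1 → x ≠ 1 → y * y = 1 → y ≠ 1 → IsConj x y

theorem One.map {Y Z : Type*} [Group Y] [Group Z] (h : One Y) (e : Y ≃* Z) : One Z := fun x y h1 h2 h3 h4 => by
  obtain ⟨x, rfl⟩ := e.surjective x
  obtain ⟨y, rfl⟩ := e.surjective y
  rw [← map_mul, map_eq_one_iff _ e.injective] at h1 h3
  rw [Ne, map_eq_one_iff _ e.injective] at h2 h4
  exact e.toMonoidHom.map_isConj (h x y h1 h2 h3 h4)

theorem alt_aux {n : ℕ} (h : One (alternatingGroup (Fin n))) (s t : Equiv.Perm (Fin n))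
    (h1 : Equiv.Perm.sign s = 1) (h2 : Equiv.Perm.sign t = 1) (h3 : s * s = 1) (h4 : t * t = 1) (h5 : s ≠ 1) (h6 : t ≠ 1) :
    s.support.card = t.support.card := by
  have := (alternatingGroup (Fin n)).subtype.map_isConj (h ⟨s, h1⟩ ⟨t, h2⟩ (Subtype.ext h3)
    (fun e => h5 (congrArg Subtype.val e)) (Subtype.ext h4) (fun e => h6 (congrArg Subtype.val e)))
  obtain ⟨c, e⟩ := isConj_iff.1 this
  simp only [subtype_apply] at e
  rw [← e, Equiv.Perm.card_support_conj]

theorem alt_ge {n : ℕ} (hn : 8 ≤ n) (hn' : n ≤ 11) : ¬ One (alternatingGroup (Fin n)) := fun h => by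
  interval_cases n
  all_goals
    exact absurd (alt_aux h (Equiv.swap 0 1 * Equiv.swap 2 3)
      (Equiv.swap 0 1 * Equiv.swap 2 3 * Equiv.swap 4 5 * Equiv.swap 6 7)
      (by simp only [map_mul]; repeat rw [Equiv.Perm.sign_swap (by decide)]; rfl)
      (by simp only [map_mul]; repeat rw [Equiv.Perm.sign_swap (by decide)]; rfl)
      (by decide +kernel) (by decide +kernel) (by decide +kernel) (by decide +kernel)) (by decide +kernel)

theorem psl4 {F : Type} [Field F] [Fintype F] (hF : Fintype.card F = 3) :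
    ¬ One (Matrix.ProjectiveSpecialLinearGroup (Fin 4) F) := fun h => by
  have h3 : (3 : F) = 0 := by simpa [hF] using FiniteField.cast_card_eq_zero F
  have hne : (-1 : F) ≠ 1 := fun e => one_ne_zero (α := F) (by linear_combination h3 + e)
  let D : Matrix.SpecialLinearGroup (Fin 4) F := ⟨Matrix.diagonal ![1, 1, -1, -1], by simp [Fin.prod_univ_four]⟩
  let J : Matrix.SpecialLinearGroup (Fin 4) F := ⟨!![0, -1, 0, 0; 1, 0, 0, 0; 0, 0, 0, -1; 0, 0, 1, 0], by
    simp [Matrix.det_succ_row_zero, Fin.sum_univ_succ, Fin.succAbove]⟩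
  have D2 : D * D = 1 := Subtype.ext (by
    show Matrix.diagonal _ * Matrix.diagonal _ = 1
    rw [Matrix.diagonal_mul_diagonal, ← Matrix.diagonal_one]
    congr 1; ext i; fin_cases i <;> simp)
  have J2 : (J * J).1 = Matrix.scalar (Fin 4) (-1) := by
    show J.1 * J.1 = _
    ext i j; fin_cases i <;> fin_cases j <;> simp [J, Matrix.mul_apply, Fin.sum_univ_four]
  have hD : D ∉ center _ := fun hc => by
    obtain ⟨r, -, e⟩ := Matrix.SpecialLinearGroup.mem_center_iff.1 hc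
    have e0 := congrFun (congrFun e 0) 0
    have e2 := congrFun (congrFun e 2) 2
    simp [D] at e0 e2
    exact hne (e2.symm.trans e0)
  have hJ : J ∉ center _ := fun hc => by
    obtain ⟨r, -, e⟩ := Matrix.SpecialLinearGroup.mem_center_iff.1 hc
    have e0 := congrFun (congrFun e 1) 0
    simp [J] at e0
  have hJ2 : J * J ∈ center _ := Matrix.SpecialLinearGroup.mem_center_iff.2 ⟨-1, by simp; norm_num, J2.symm⟩
  obtain ⟨c, e⟩ := isConj_iff.1 (h (QuotientGroup.mk D) (QuotientGroup.mk J)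
    (by rw [← QuotientGroup.mk_mul, D2]; rfl) (by rwa [Ne, QuotientGroup.eq_one_iff])
    (by rwa [← QuotientGroup.mk_mul, QuotientGroup.eq_one_iff]) (by rwa [Ne, QuotientGroup.eq_one_iff]))
  obtain ⟨g, rfl⟩ := QuotientGroup.mk_surjective c
  rw [← QuotientGroup.mk_inv, ← QuotientGroup.mk_mul, ← QuotientGroup.mk_mul, QuotientGroup.eq] at e
  obtain ⟨z, hz⟩ : ∃ z, z = (g * D * g⁻¹)⁻¹ * J := ⟨_, rfl⟩
  rw [← hz] at e
  have eJ : J = g * D * g⁻¹ * z := by rw [hz]; group
  have e2 : J * J = z * z := by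
    have c : Commute z (g * D * g⁻¹) := (mem_center_iff.1 e _).symm
    rw [eJ, c.mul_mul_mul_comm, conj_mul, D2]
    simp
  obtain ⟨r, hr, er⟩ := Matrix.SpecialLinearGroup.mem_center_iff.1 e
  have r2 : r * r = -1 := by
    have := J2
    rw [e2, Matrix.SpecialLinearGroup.coe_mul, ← er, ← map_mul] at this
    exact Matrix.scalar_inj.1 this
  have r3 : r ^ 3 = r := hF ▸ FiniteField.pow_card r
  have r0 : r ≠ 0 := fun e => by simp [e] at r2
  exact hne (r2.symm.trans (mul_left_cancel₀ r0 (by linear_combination r3)))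

end TyEx

open TyEx in
theorem tye (h1 : 128 ∣ Nat.card X) (h2 : ¬ 256 ∣ Nat.card X)
    (one : ∀ x y : X, x * x = 1 → x ≠ 1 → y * y = 1 → y ≠ 1 → IsConj x y)
    (h : (∃ (F : Type) (_ : Field F) (_ : Fintype F), Fintype.card F = 3 ∧
        (Nonempty (X ≃* Matrix.ProjectiveSpecialLinearGroup (Fin 4) F) ∨ Nonempty (X ≃* PSp 2 F) ∨
          Nonempty (X ≃* (Lie.chevG2.group F)))) ∨
      (∃ (F : Type) (_ : Field F) (_ : Fintype F), Fintype.card F = 9 ∧ Nonempty (X ≃* PSU 4 F 3)) ∨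
      (∃ (F : Type) (_ : Field F) (_ : Fintype F), Fintype.card F = 4 ∧
        Nonempty (X ≃* Matrix.ProjectiveSpecialLinearGroup (Fin 3) F)) ∨
      (∃ n : ℕ, 8 ≤ n ∧ n ≤ 11 ∧ Nonempty (X ≃* (alternatingGroup (Fin n)))) ∨ Spor.IsoM22 X) :
    Spor.IsoM22 X ∨ U43 X := by
  rcases h with ⟨F, _, _, hF, ⟨⟨e⟩⟩ | ⟨⟨e⟩⟩ | ⟨⟨e⟩⟩⟩ | h | ⟨F, _, _, hF, ⟨e⟩⟩ | ⟨n, h8, h11, ⟨e⟩⟩ | h
  · exact absurd (One.map one e) (psl4 hF)
  · have hc := Symp.card_PSp (F := F) (m := 2) (by norm_num)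
    rw [hF, ← Nat.card_congr e.toEquiv] at hc
    simp [Finset.prod_range_succ] at hc
    omega
  · rw [Nat.card_congr e.toEquiv, Cfsg.Agent.S1059.result hF] at h1
    norm_num at h1
  · exact Or.inr h
  · have hc := Cfsg.Agent.S0243.result hF 3 (by norm_num)
    rw [← Nat.card_congr e.toEquiv] at hc
    simp [Fin.prod_univ_three] at hc
    omega
  · exact absurd (One.map one e) (alt_ge h8 h11)
  · exact Or.inl h

end CfsgLib.M24R
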