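import Mathlib
import Cfsg.Agent.Lib.M24R.TbB
import Cfsg.Agent.Lib.Sect.Tools

/-!
# sectional rank (plans/M24R.md)
-/

set_option autoImplicit false
set_option Elab.async false

namespace CfsgLib.M24R

open Subgroup Cfsg CfsgLib.Tech CfsgLib.J4T CfsgLib.J4T.Rec CfsgLib.Golay CfsgLib.M24E CfsgLib.WD.Km
open scoped Pointwise

variable {X : Type*} [Group X] [Finite X]

theorem TySx.six : (Finset.univ.filter fun x : Equiv.Perm (Fin 6) =>
    x * x = 1 ∧ x * TbBx.s0 = TbBx.s0 * x ∧ Equiv.Perm.sign x = 1).card = 6 := by decide +kernel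

theorem TySx.four {H K : Subgroup (Equiv.Perm (Fin 6))} (hA : H ≤ alternatingGroup (Fin 6)) (h2 : IsPGroup 2 H)
    (hK : ∀ x ∈ H, x * x ∈ K) {s : Equiv.Perm (Fin 6)} (hs : s ∈ H) (s1 : s ≠ 1) (s2 : s * s = 1) :
    K.relIndex H ≤ 4 := by
  obtain ⟨n, hn⟩ := IsPGroup.iff_card.1 h2
  have h8 : Nat.card H ≤ 2 ^ 3 := by
    have := card_dvd_of_le hA
    rw [TbAx.card_alt, hn] at this
    rw [hn]
    refine Nat.pow_le_pow_right two_pos (le_of_not_gt fun h => ?_)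
    exact absurd ((pow_dvd_pow 2 (show 4 ≤ n from h)).trans this) (by norm_num)
  by_cases h : ∀ x ∈ H, x * x = 1
  · refine (Sect.relIndex_le_card K H).trans (Sect.card_le_pow h2 2 ?_)
    obtain ⟨u, -, e⟩ := TbBx.conj_s0 s2 s1 (hA hs)
    have := Nat.card_le_card_of_injective (fun x : H => (⟨u * x * u⁻¹, Finset.mem_filter.2 ⟨Finset.mem_univ _, by
      rw [conj_mul, h x x.2]; simp, by rw [← e, conj_mul, conj_mul, Sect.comm_of_sq h x.2 hs], by
      simp [Equiv.Perm.mem_alternatingGroup.1 (hA x.2)]⟩⟩ : (Finset.univ.filter fun x : Equiv.Perm (Fin 6) =>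
        x * x = 1 ∧ x * TbBx.s0 = TbBx.s0 * x ∧ Equiv.Perm.sign x = 1))) fun a b e => by simpa using e
    rw [Nat.card_eq_finsetCard, TySx.six] at this
    omega
  · push Not at h
    obtain ⟨x, hx, n⟩ := h
    have a := Sect.two_le_card (K := K ⊓ H) ⟨hK x hx, mul_mem hx hx⟩ n
    have b := Sect.card_eq_relIndex K H
    nlinarith

theorem TY.sr (y : TY X) : SectionalPRankLE 2 4 X := by
  obtain ⟨T, hT, -, hN, -⟩ := y.toTB.syl
  refine Sect.sr_top_iff.2 (Sect.sr_of_sylow hT.toSylowTop ?_)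
  rw [hT.coe_toSylowTop, ← inf_eq_left.2 hN, ← subgroupOf_map_subtype]
  refine Sect.SR.map (Sect.sr_of_le fun H hH K hKH hK => ?_) _
  have h2 : IsPGroup 2 (H.map y.σh) := ((hT.pgroup.comap_subtype).to_le hH).map _
  by_cases h : H.map y.σh = ⊥
  · refine (Sect.relIndex_le_card K H).trans ((card_le_of_le ((Subgroup.map_eq_bot_iff _).1 h)).trans ?_)
    rw [TbAx.card_ker, y.p_eq, orderOf_one]; rfl
  obtain ⟨⟨_, x, hx, rfl⟩, o⟩ := exists_prime_orderOf_dvd_card' (G := H.map y.σh) 2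
    ((h2.card_eq_or_dvd).resolve_left fun e => h (card_eq_one.1 e))
  rw [← orderOf_coe] at o
  have s2 : y.σh x * y.σh x = 1 := by rw [← pow_two, ← o]; exact pow_orderOf_eq_one _
  have s1 : y.σh x ≠ 1 := fun e => by simp [e] at o
  refine (Sect.split' hKH y.σh.ker).trans ((Nat.mul_le_mul (show _ ≤ 4 from ?_) (show _ ≤ 4 from ?_)).trans_eq rfl)
  · refine (Sect.comm_bound' hK _ hx).trans (le_trans ?_ (y.fix_le (y.mem_N1.2 ⟨x.2, y.even x x.2⟩) s1 s2))
    rw [← card_map_of_injective y.N.subtype_injective]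
    refine card_le_of_le ?_
    rintro _ ⟨g, ⟨h1, h3⟩, rfl⟩
    obtain ⟨a, ha, i, e⟩ := y.σ_ker g g.2 h3
    rw [y.p_eq, one_pow, mul_one] at e
    exact ⟨show (g : X) ∈ y.A from e ▸ ha, Sect.mem_cent.2 (congrArg Subtype.val (Sect.mem_cent.1 h1))⟩
  · rw [← comap_map_eq, relIndex_comap]
    refine TySx.four ?_ h2 ?_ ⟨x, hx, rfl⟩ s1 s2
    · rintro _ ⟨g, -, rfl⟩; exact y.even g g.2
    · rintro _ ⟨g, hg, rfl⟩; exact ⟨_, hK g hg, map_mul _ _ _⟩

end CfsgLib.M24R
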