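import Mathlib
import Cfsg.Agent.Lib.M24R.Defs

/-!
# the module in a basis permuted by an element of order 23 (plans/M24R.md)
-/

set_option autoImplicit false
set_option Elab.async false

namespace CfsgLib.M24R

open Subgroup Cfsg CfsgLib.Tech CfsgLib.J4T CfsgLib.J4T.Rec CfsgLib.Golay CfsgLib.M24E CfsgLib.WD.Km
open scoped Pointwise

/-- `x ↦ 2 x` -/
def qbe : ℕ := 0xbd6717b56939461b52507314831040

/-- companion matrices -/
def cA (k : Bool) : ℕ := cond k 0x2e3400200100080040020010008004002 0x475400200100080040020010008004002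

/-- matrices of `x ↦ 2 x` -/
def cB (k : Bool) : ℕ := cond k 0x69566c19b2de5c6400100040010004001 0x7b41ed3666e349f400100040010004001

/-- `η` is an isomorphism from the vectors onto `V` -/
structure Crd {V : Type*} [Group V] (η : ℕ → V) : Prop where
  xor : ∀ v < 2048, ∀ w < 2048, η (v ^^^ w) = η v * η w
  inj : ∀ v < 2048, η v = 1 → v = 0
  surj : ∀ x, ∃ v < 2048, x = η v

namespace ModAx

variable {V : Type*}

theorem card_mod [Group V] [Finite V] (α : MulAut V) {p : ℕ} [Fact p.Prime] (h : α ^ p = 1) (U : Subgroup V)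
    (hU : ∀ x ∈ U, α x ∈ U) :
    Nat.card U ≡ Nat.card (U ⊓ α.toMonoidHom.eqLocus (MonoidHom.id V) : Subgroup V) [MOD p] := by
  classical
  have := Fintype.ofFinite V
  let f : Function.End U := fun x => ⟨α x, hU x x.2⟩
  have hf : ∀ n : ℕ, ∀ x : U, (((f ^ n) x : U) : V) = (α ^ n) x := fun n => by
    induction n with
    | zero => intro x; rfl
    | succ n ih => intro x; rw [pow_succ, pow_succ]; exact ih (f x)
  have h1 : f ^ p ^ 1 = 1 := by
    funext x
    apply Subtype.ext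
    rw [hf, pow_one, h]; rfl
  have h2 := Equiv.Perm.card_fixedPoints_modEq h1
  rw [← Nat.card_eq_fintype_card, ← Nat.card_eq_fintype_card] at h2
  refine h2.trans ?_
  rw [Nat.card_congr (α := f.fixedPoints) (β := (U ⊓ α.toMonoidHom.eqLocus (MonoidHom.id V) : Subgroup V))
    ⟨fun x => ⟨x.1.1, x.1.2, congrArg Subtype.val x.2⟩, fun x => ⟨⟨x.1, x.2.1⟩, Subtype.ext x.2.2⟩,
      fun _ => rfl, fun _ => rfl⟩]

theorem card_cases {n : ℕ} (h : n ∣ 2048) (h1 : n ≡ 1 [MOD 23]) : n = 1 ∨ n = 2048 := by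
  obtain ⟨i, hi, rfl⟩ := (Nat.dvd_prime_pow Nat.prime_two (m := 11)).1 h
  unfold Nat.ModEq at h1
  interval_cases i <;> simp_all

theorem irr [Group V] [Finite V] (hc : Nat.card V = 2048) {α : MulAut V} (h : α ^ 23 = 1) (ne : α ≠ 1)
    (U : Subgroup V) (hU : ∀ x ∈ U, α x ∈ U) : U = ⊥ ∨ U = ⊤ := by
  have : Fact (Nat.Prime 23) := ⟨by norm_num⟩
  set C := α.toMonoidHom.eqLocus (MonoidHom.id V)
  have hC : C = ⊥ := by
    have h1 := card_mod α h ⊤ fun _ _ => trivial
    rw [top_inf_eq, card_top, hc] at h1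
    rcases card_cases (hc ▸ card_subgroup_dvd_card C) (h1.symm.trans (by decide)) with e | e
    · exact eq_bot_of_card_eq _ e
    · refine absurd (MulEquiv.ext fun x => ?_) ne
      exact (show x ∈ C from (eq_top_of_card_eq C (e.trans hc.symm)) ▸ mem_top x)
  have h1 := card_mod α h U hU
  rw [show α.toMonoidHom.eqLocus (MonoidHom.id V) = ⊥ from hC, inf_bot_eq, card_bot] at h1
  exact (card_cases (hc ▸ card_subgroup_dvd_card U) h1).imp (eq_bot_of_card_eq _) fun e =>
    eq_top_of_card_eq U (e.trans hc.symm)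

theorem exists_fix [Group V] [Finite V] (hc : Nat.card V = 2048) {β : MulAut V} (h : β ^ 11 = 1) :
    ∃ v, v ≠ 1 ∧ β v = v := by
  have : Fact (Nat.Prime 11) := ⟨by norm_num⟩
  have h1 := card_mod β h ⊤ fun _ _ => trivial
  rw [top_inf_eq, card_top, hc] at h1
  by_contra! h2
  rw [show β.toMonoidHom.eqLocus (MonoidHom.id V) = ⊥ from
    (eq_bot_iff_forall _).2 fun x hx => by_contra fun e => h2 x e hx, card_bot] at h1
  exact absurd h1 (by decide)

/-- the product of the `e i` over the bits of `v` -/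
noncomputable def eta [CommGroup V] (e : ℕ → V) (v : ℕ) : V := ∏ i ∈ Finset.range 11, if v.testBit i then e i else 1

theorem eta_xor [CommGroup V] (sq : ∀ v : V, v * v = 1) (e : ℕ → V) (v w : ℕ) :
    eta e (v ^^^ w) = eta e v * eta e w := by
  rw [eta, eta, eta, ← Finset.prod_mul_distrib]
  refine Finset.prod_congr rfl fun i _ => ?_
  rw [Nat.testBit_xor]
  cases v.testBit i <;> cases w.testBit i <;> simp [sq]

theorem eta_pow [CommGroup V] (e : ℕ → V) {i : ℕ} (hi : i < 11) : eta e (2 ^ i) = e i := by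
  simp only [eta, Nat.testBit_two_pow, decide_eq_true_eq]
  rw [Finset.prod_ite_eq, if_pos (Finset.mem_range.2 hi)]

theorem eta_zero [CommGroup V] (e : ℕ → V) : eta e 0 = 1 := by simp [eta]

theorem top_bit {v : ℕ} (hv : v < 2048) (h0 : v ≠ 0) : ∃ m < 11, 2 ^ m ^^^ v < 2 ^ m := by
  have := of_allLT (n := 2048) (f := fun v => or (Nat.beq v 0)
    (exLT 11 fun m => Nat.blt (Nat.xor (Nat.pow 2 m) v) (Nat.pow 2 m))) (by decide +kernel) hv
  simp only [Bool.or_eq_true, beq_iff', exLT_iff, Nat.blt_eq] at this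
  exact this.resolve_left h0

theorem crd_eta [CommGroup V] [Finite V] (sq : ∀ v : V, v * v = 1) (hc : Nat.card V = 2048) {α : MulAut V}
    (h : α ^ 23 = 1) (ne : α ≠ 1) {v0 : V} (h0 : v0 ≠ 1) : Crd (eta fun i => (α ^ i) v0) := by
  set e : ℕ → V := fun i => (α ^ i) v0 with he
  have inj : ∀ v < 2048, eta e v = 1 → v = 0 := fun v hv h1 => by
    by_contra hv0
    obtain ⟨m, hm, hw⟩ := top_bit hv hv0
    let U : Subgroup V := ⟨⟨⟨{x | ∃ v < 2 ^ m, x = eta e v}, by
      rintro _ _ ⟨a, ha, rfl⟩ ⟨b, hb, rfl⟩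
      exact ⟨_, xor_lt ha hb, (eta_xor sq e a b).symm⟩⟩, 0, by positivity, (eta_zero e).symm⟩, by
      rintro _ ⟨a, ha, rfl⟩
      exact ⟨a, ha, inv_eq_of_mul_eq_one_right (sq _)⟩⟩
    have hm' : e m ∈ U := ⟨_, hw, by rw [eta_xor sq, h1, mul_one, eta_pow e hm]⟩
    have hU : ∀ x ∈ U, α x ∈ U := by
      rintro _ ⟨a, ha, rfl⟩
      refine bits_ind' m (P := fun a => α (eta e a) ∈ U) (by rw [eta_zero, map_one]; exact one_mem _)
        (fun i hi => ?_) (fun x _ y _ h1 h2 => by rw [eta_xor sq, map_mul]; exact mul_mem h1 h2) a ha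
      have e1 : α (e i) = e (i + 1) := by simp only [he, pow_succ', MulAut.mul_apply]
      show α (eta e (2 ^ i)) ∈ U
      rw [eta_pow e (by omega), e1]
      rcases Nat.lt_or_eq_of_le (Nat.succ_le_of_lt hi) with h2 | h2
      · exact ⟨2 ^ (i + 1), Nat.pow_lt_pow_right (by norm_num) h2, (eta_pow e (by omega)).symm⟩
      · rw [show i + 1 = m from h2]; exact hm'
    rcases irr hc h ne U hU with h2 | h2
    · rw [h2, mem_bot] at hm'
      exact h0 ((α ^ m).injective (hm'.trans (map_one _).symm))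
    · have h3 : Function.Surjective fun a : Fin (2 ^ m) => eta e a := fun x => by
        obtain ⟨a, ha, e⟩ : x ∈ U := h2 ▸ mem_top x
        exact ⟨⟨a, ha⟩, e.symm⟩
      have h4 := Nat.card_le_card_of_surjective _ h3
      rw [hc, Nat.card_eq_fintype_card, Fintype.card_fin] at h4
      have := pw_lt hm
      omega
  refine ⟨fun v _ w _ => eta_xor sq e v w, inj, fun x => ?_⟩
  have h1 : Function.Bijective fun a : Fin 2048 => eta e a :=
    (Nat.bijective_iff_injective_and_card _).2 ⟨fun a b (hab : eta e a = eta e b) => Fin.ext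
      (Nat.eq_of_xor_eq_zero (inj _ (x_lt a.2 b.2) (by rw [eta_xor sq, hab, sq]))), by simp [hc]⟩
  obtain ⟨a, rfl⟩ := h1.2 x
  exact ⟨a, a.2, rfl⟩

end ModAx

namespace Crd

variable {V : Type*} [Group V] {η : ℕ → V} (c : Crd η)
include c

theorem zero : η 0 = 1 := by simpa using c.xor 0 (by norm_num) 0 (by norm_num)

theorem eq_iff {v w : ℕ} (hv : v < 2048) (hw : w < 2048) : η v = η w ↔ v = w :=
  ⟨fun e => Nat.eq_of_xor_eq_zero (c.inj _ (x_lt hv hw) (by
    rw [c.xor v hv w hw, e, ← c.xor w hw w hw, Nat.xor_self, c.zero])), fun e => e ▸ rfl⟩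

end Crd

namespace ModAx

variable {V : Type*} [Group V] {η : ℕ → V} {φ ψ : MulAut V} {f g : ℕ → ℕ}

/-- `f` computes `φ` in the coordinates `η` -/
def Rr (η : ℕ → V) (φ : MulAut V) (f : ℕ → ℕ) : Prop := ∀ v < 2048, f v < 2048 ∧ φ (η v) = η (f v)

theorem Rr.mul (a : Rr η φ f) (b : Rr η ψ g) : Rr η (φ * ψ) fun v => f (g v) := fun v hv =>
  ⟨(a _ (b v hv).1).1, by rw [MulAut.mul_apply, (b v hv).2, (a _ (b v hv).1).2]⟩

theorem Rr.one : Rr η 1 fun v => v := fun _ hv => ⟨hv, rfl⟩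

/-- iteration -/
noncomputable def itv (f : ℕ → ℕ) (n v : ℕ) : ℕ := Nat.rec v (fun _ ih => frc ih f) n

theorem itv_succ (f : ℕ → ℕ) (n v : ℕ) : itv f (n + 1) v = f (itv f n v) := frc_eq _ _

theorem Rr.pow (a : Rr η φ f) (n : ℕ) : Rr η (φ ^ n) (itv f n) := by
  induction n with
  | zero => exact Rr.one
  | succ n ih => rw [pow_succ']; exact fun v hv => by rw [itv_succ]; exact a.mul ih v hv

theorem Rr.unique (c : Crd η) (a : Rr η φ f) (b : Rr η φ g) {v : ℕ} (hv : v < 2048) : f v = g v :=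
  (c.eq_iff (a v hv).1 (b v hv).1).1 ((a v hv).2.symm.trans (b v hv).2)

theorem Rr.of_basis (c : Crd η) (hf : Ln f) (h : ∀ i < 11, f (2 ^ i) < 2048 ∧ φ (η (2 ^ i)) = η (f (2 ^ i))) :
    Rr η φ f :=
  v_ind (by rw [hf.zero, c.zero, map_one]; exact ⟨by norm_num, rfl⟩) h fun x hx y hy h1 h2 => by
    rw [hf x hx y hy, c.xor x hx y hy, c.xor _ h1.1 _ h2.1, map_mul, h1.2, h2.2]
    exact ⟨x_lt h1.1 h2.1, rfl⟩

/-- multiplication by `x` modulo the polynomial `x ^ 11 + r` -/
def st (r v : ℕ) : ℕ := Nat.xor (mv 0x400200100080040020010008004002 v) (mv r (Nat.shiftRight v 10))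

theorem ln_st (r : ℕ) : Ln (st r) := (ln_mv _).xor (g := fun v => mv r (v >>> 10)) fun x _ y _ => by
  show mv r ((x ^^^ y) >>> 10) = _
  rw [Nat.shiftRight_xor_distrib, mv_xor]

theorem st_check : allLT 2048 (fun r => and (and (Nat.beq (st r 1024) r)
    (allLT 10 fun i => Nat.beq (st r (Nat.pow 2 i)) (Nat.pow 2 (Nat.succ i))))
    (or (not (Nat.beq (itv (st r) 12 r) 1)) (or (Nat.beq r 1141) (Nat.beq r 739)))) = true := by
  decide +kernel

theorem rm_a : RM (ap qa) (mq qa) := rm (isM_gens _ (by simp))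

theorem rm_be : RM (ap qbe) (mq qbe) := rm (by decide +kernel)

end ModAx

open ModAx in
theorem exists_eta {V : Type*} [Group V] [Finite V] (sq : ∀ v : V, v * v = 1) (hc : Nat.card V = 2048)
    (ρ : M24 →* MulAut V) (ne : ρ (mq qa) ≠ 1) :
    ∃ (k : Bool) (η : ℕ → V), Crd η ∧ (∀ v < 2048, ρ (mq qa) (η v) = η (mv (cA k) v)) ∧
      ∀ v < 2048, ρ (mq qbe) (η v) = η (mv (cB k) v) := by
  have hi : ∀ x : V, x⁻¹ = x := fun x => inv_eq_of_mul_eq_one_right (sq x)
  let _ : CommGroup V := { ‹Group V› with mul_comm := fun a b => by rw [← hi (a * b), mul_inv_rev, hi, hi] }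
  set α := ρ (mq qa)
  set β := ρ (mq qbe)
  have ha : α ^ 23 = 1 := by rw [← map_pow, (rm_a.powId_iff 23).1 (by decide +kernel), map_one]
  have hb : β ^ 11 = 1 := by rw [← map_pow, (rm_be.powId_iff 11).1 (by decide +kernel), map_one]
  have hab : β * α = α ^ 2 * β := by
    rw [← map_pow, ← map_mul, ← map_mul, (rm_be.intw_iff rm_a (rm_a.pow 2)).1 (by decide +kernel)]
  have hab' : ∀ i : ℕ, β * α ^ i = α ^ (2 * i) * β := fun i => by
    induction i with
    | zero => simp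
    | succ i ih => rw [pow_succ, ← mul_assoc, ih, mul_assoc, hab, ← mul_assoc, ← pow_add, mul_add, mul_one]
  obtain ⟨v0, h0, hv0⟩ := exists_fix hc hb
  have c := crd_eta sq hc ha ne h0
  set η := eta fun i => (α ^ i) v0
  have hη : ∀ i < 11, η (2 ^ i) = (α ^ i) v0 := fun i hi => eta_pow _ hi
  obtain ⟨r, hr, er⟩ := c.surj ((α ^ 11) v0)
  have hk := of_allLT st_check hr
  simp only [Bool.and_eq_true, Bool.or_eq_true, allLT_iff, beq_iff', Bool.not_eq_true'] at hk
  have ra' : Rr η α (st r) := Rr.of_basis c (ln_st _) fun i hi => by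
    rw [hη i hi, ← MulAut.mul_apply, ← pow_succ']
    rcases Nat.lt_or_eq_of_le (Nat.le_of_lt_succ hi) with h | rfl
    · rw [show st r (2 ^ i) = 2 ^ (i + 1) from hk.1.2 i h]
      exact ⟨pw_lt (i := i + 1) (by omega), (hη (i + 1) (by omega)).symm⟩
    · rw [show st r (2 ^ 10) = r from hk.1.1]; exact ⟨hr, er⟩
  have h1 : η 1 = v0 := hη 0 (by norm_num)
  have h2 : itv (st r) 12 r = 1 := by
    have := ra'.pow 12 r hr
    rw [← er, ← MulAut.mul_apply, ← pow_add, ha, MulAut.one_apply, ← h1] at this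
    exact ((c.eq_iff (by norm_num) this.1).1 this.2).symm
  obtain ⟨k, ek⟩ : ∃ k, ∀ i < 11, mv (cA k) (2 ^ i) = st r (2 ^ i) := by
    rcases hk.2 with h | rfl | rfl
    exacts [absurd h2 (Nat.ne_of_beq_eq_false h), ⟨false, by decide +kernel⟩, ⟨true, by decide +kernel⟩]
  have ra : Rr η α (mv (cA k)) := Rr.of_basis c (ln_mv _) fun i hi => by rw [ek i hi]; exact ra' _ (pw_lt hi)
  have rb : Rr η β (mv (cB k)) := Rr.of_basis c (ln_mv _) fun i hi => by
    have := ra.pow (2 * i) 1 (by norm_num)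
    have e : itv (mv (cA k)) (2 * i) 1 = col (cB k) i := by clear * - hi; revert i k; decide +kernel
    rw [mv_two_pow _ (by omega), hη i hi, ← MulAut.mul_apply, hab', MulAut.mul_apply, hv0, ← e, ← h1]
    exact this
  exact ⟨k, η, c, fun v hv => (ra v hv).2, fun v hv => (rb v hv).2⟩

end CfsgLib.M24R
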