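import Mathlib
import Cfsg.Agent.Lib.M24R.ModA

/-!
# the two modules; existence of coordinates (plans/M24R.md)
-/

set_option autoImplicit false
set_option Elab.async false

namespace CfsgLib.M24R

open Subgroup Cfsg CfsgLib.Tech CfsgLib.J4T CfsgLib.J4T.Rec CfsgLib.Golay CfsgLib.M24E CfsgLib.WD.Km
open scoped Pointwise

namespace ModBx

open ModAx

variable {V : Type*} [Group V] {η : ℕ → V} {φ ψ : MulAut V} {f g : ℕ → ℕ}

theorem exists_rr (c : Crd η) (φ : MulAut V) : ∃ f, Rr η φ f := by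
  choose f h1 h2 using fun v => c.surj (φ (η v))
  exact ⟨f, fun v _ => ⟨h1 v, h2 v⟩⟩

theorem ln_rr (c : Crd η) (a : Rr η φ f) : Ln f := fun x hx y hy => by
  rw [← c.eq_iff (a _ (x_lt hx hy)).1 (x_lt (a x hx).1 (a y hy).1), c.xor _ (a x hx).1 _ (a y hy).1, ← (a _ (x_lt hx hy)).2,
    ← (a x hx).2, ← (a y hy).2, c.xor x hx y hy, map_mul]

theorem rr_congr (a : Rr η φ f) (h : ∀ v < 2048, g v = f v) : Rr η φ g := fun v hv => by rw [h v hv]; exact a v hv

/-- the matrix with the columns `1, w, B w, …, B ^ 9 w` -/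
noncomputable def kry (B w : ℕ) : ℕ :=
  Nat.xor 1 (Nat.shiftLeft (Nat.rec 0 (fun _ ih => frc ih fun X => Nat.xor w (Nat.shiftLeft (mm B X) 12)) 10) 12)

theorem col_up (X c : ℕ) : col (X <<< 12) c = if c = 0 then 0 else col X (c - 1) := by
  apply Nat.eq_of_testBit_eq
  intro j
  rw [testBit_col, Nat.testBit_shiftLeft]
  rcases c with _ | c
  · by_cases hj : j < 12 <;> simp [hj]
  · rw [if_neg (by omega), testBit_col, Nat.add_sub_cancel, show 12 * (c + 1) + j - 12 = 12 * c + j by omega]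
    have : 12 * (c + 1) + j ≥ 12 := by omega
    simp [this]

theorem col_low {w : ℕ} (hw : w < 4096) (c : ℕ) : col w c = if c = 0 then w else 0 := by
  simpa using col_shift hw 0 c

theorem col_kry (B : ℕ) {w : ℕ} (hw : w < 4096) {c : ℕ} (hc : c < 11) :
    col (kry B w) c = if c = 0 then 1 else itv (mv B) (c - 1) w := by
  have key : ∀ n ≤ 10, ∀ c < n, col (Nat.rec 0 (fun _ ih => frc ih fun X => Nat.xor w (Nat.shiftLeft (mm B X) 12)) n) c =
      itv (mv B) c w := fun n => by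
    induction n with
    | zero => intro _ c hc; omega
    | succ n ih =>
      intro hn c hc
      show col (frc _ fun X => w ^^^ (mm B X <<< 12)) c = _
      rw [frc_eq, col_xor, col_up, col_low hw]
      rcases c with _ | c
      · exact Nat.xor_zero w
      · rw [if_neg (by omega), if_neg (by omega), Nat.zero_xor, Nat.add_sub_cancel, col_mm _ _ (by omega),
          ih (by omega) c (by omega), itv_succ]
  show col (1 ^^^ (_ <<< 12)) c = _
  rw [col_xor, col_up, col_low (by norm_num)]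
  rcases c with _ | c
  · simp
  · rw [if_neg (by omega), if_neg (by omega), if_neg (by omega), Nat.zero_xor, key 10 le_rfl _ (by omega)]

/-- inverse of the matrix with the columns `1, 2, cB 2, …` -/
def cC (k : Bool) : ℕ := cond k 0x1d304001023b400717008200004002001 0x7130400102e3400476008200004002001

/-- the candidate with `2 ↦ w` -/
noncomputable def cand (k : Bool) (B w : ℕ) : ℕ := frc (kry B w) fun X => mm X (cC k)

theorem pin (c : Crd η) {k : Bool} {β : MulAut V} (rb : Rr η β (mv (cB k))) {t B : ℕ} (h : φ * β = β ^ t * φ)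
    (hB : ∀ i < 11, mv B (2 ^ i) = itv (mv (cB k)) t (2 ^ i))
    (hf : allLT 2048 (fun v => or (Nat.ble v 1) (not (Nat.beq (mv B v) v))) = true) :
    ∃ w < 2048, Rr η φ (mv (cand k B w)) := by
  obtain ⟨f, a⟩ := exists_rr c φ
  have lf := ln_rr c a
  have rB : Rr η (β ^ t) (mv B) := Rr.of_basis c (ln_mv _) fun i hi => by rw [hB i hi]; exact rb.pow t _ (pw_lt hi)
  have h1 : ∀ v < 2048, f (mv (cB k) v) = mv B (f v) := fun v hv => (a.mul rb).unique c (h ▸ rB.mul a) hv
  have h2 : f 1 = 1 := by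
    have e := h1 1 (by norm_num)
    rw [show mv (cB k) 1 = 1 by cases k <;> decide +kernel] at e
    have h3 := of_allLT hf (a 1 (by norm_num)).1
    rw [← e, Nat.beq_refl, Bool.not_true, Bool.or_false, Nat.ble_eq] at h3
    have h4 : f 1 ≠ 0 := fun e0 => by
      have h5 := (a 1 (by norm_num)).2
      rw [e0, c.zero, map_eq_one_iff _ φ.injective] at h5
      exact absurd (c.inj 1 (by norm_num) h5) one_ne_zero
    omega
  have h3 : ∀ n, f (itv (mv (cB k)) n 2) = itv (mv B) n (f 2) := fun n => by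
    induction n with
    | zero => rfl
    | succ n ih => rw [itv_succ, itv_succ, h1 _ (rb.pow n 2 (by norm_num)).1, ih]
  have hw := (a 2 (by norm_num)).1
  have hL : ∀ i < 11, mv (kry (cB k) 2) (2 ^ i) < 2048 := by clear * -; revert k; decide +kernel
  have hL' : ∀ v < 2048, mv (kry (cB k) 2) v < 2048 :=
    v_ind (by rw [mv_zero]; norm_num) hL fun x _ y _ h1 h2 => by rw [mv_xor]; exact x_lt h1 h2
  have h4 : ∀ v < 2048, f (mv (kry (cB k) 2) v) = mv (kry B (f 2)) v :=
    ln_ext (lf.comp (ln_mv _) hL') (ln_mv _) fun i hi => by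
      show f (mv _ (2 ^ i)) = _
      rw [mv_two_pow _ (by omega), mv_two_pow _ (by omega), col_kry _ (by norm_num) hi, col_kry _ (lt12 hw) hi]
      split_ifs
      exacts [h2, h3 _]
  have hC : ∀ v < 2048, mv (cC k) v < 2048 ∧ mv (kry (cB k) 2) (mv (cC k) v) = v :=
    v_ind (by rw [mv_zero, mv_zero]; norm_num) (by clear * -; revert k; decide +kernel) fun x _ y _ h1 h2 => by
      rw [mv_xor, mv_xor, h1.2, h2.2]; exact ⟨x_lt h1.1 h2.1, rfl⟩
  refine ⟨f 2, hw, rr_congr a fun v hv => ?_⟩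
  rw [cand, frc_eq, mv_mm _ _ (lt12 hv), ← h4 _ (hC v hv).1, (hC v hv).2]

/-- tenth power of `cB` -/
def b10 (k : Bool) : ℕ := cond k 0x2019b0105bc0082de00416f0025c6001 0x203660101b30086e300454b00249f001
/-- cube of `cB` -/
def b3 (k : Bool) : ℕ := cond k 0x2e300866c40000433620000219b100001 0x4750081ed4000046cc200002366100001
/-- matrix of `qb` -/
def cG (k : Bool) : ℕ := cond k 0x19a02169416e63a2013375bd2e2570001 0x3670217b554a3db2016cd1b247463b001
/-- matrix of `qc` -/
def cD (k : Bool) : ℕ := cond k 0x79d33d7ad5252a60dc0a622d23d22b001 0x8049f36602000231d0040080401ed001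
/-- change of basis -/
def cP (k : Bool) : ℕ := cond k 0x3d61eb0f507a7c241e5f05072836be35f 0x31d7b43da1ed6cc3661b36e354b49f475
/-- its inverse -/
def cPi (k : Bool) : ℕ := cond k 0x6630655437d05cd7976ba5784991186a9 0x63a31d7b43da1ed6cc3661b36e354b49f

theorem g_check : ∀ k : Bool, allLT 2048 (fun w => frc (cand k (b10 k) w) fun X => frc (mm (cA k) X) fun N =>
    or (not (Nat.beq (itv (mv N) 3 1) 1)) (or (not (Nat.beq (itv (mv N) 3 2) 2))
      (or (not (Nat.beq (itv (mv N) 3 4) 4)) (Nat.beq X (cG k))))) = true := by decide +kernel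

theorem d_check : ∀ k : Bool, allLT 2048 (fun w => frc (cand k (b3 k) w) fun X => frc (mm (cA k) X) fun N =>
    or (not (Nat.beq (mv (cG k) (mv X 2)) (mv X (mv (cG k) 2)))) (or (not (Nat.beq (itv (mv N) 6 1) 1))
      (or (not (Nat.beq (itv (mv N) 6 2) 2)) (Nat.beq X (cD k))))) = true := by decide +kernel

theorem rm_b : RM (ap qb) (mq qb) := rm (isM_gens _ (by simp))

theorem rm_c : RM (ap qc) (mq qc) := rm (isM_gens _ (by simp))

theorem rr_mm {A B : ℕ} (a : Rr η φ (mv A)) (b : Rr η ψ (mv B)) : Rr η (φ * ψ) (mv (mm A B)) :=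
  rr_congr (a.mul b) fun _ hv => mv_mm _ _ (lt12 hv)

theorem itv_fix (c : Crd η) (a : Rr η φ f) {n : ℕ} (h : φ ^ n = 1) {v : ℕ} (hv : v < 2048) :
    Nat.beq (itv f n v) v = true := beq_iff'.2 ((a.pow n).unique c (h ▸ Rr.one) hv)

end ModBx

open ModAx ModBx in
theorem exists_theta {V : Type*} [Group V] [Finite V] (sq : ∀ v : V, v * v = 1) (hc : Nat.card V = 2048)
    (ρ : M24 →* MulAut V) (ne : ρ (mq qa) ≠ 1) :
    ∃ (k : Bool) (θ : ℕ → V), Crd θ ∧ ∀ g : M24, ∀ v < 2048, ρ g (θ v) = θ (ac k g v) := by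
  obtain ⟨k, η, c, ha, hb⟩ := exists_eta sq hc ρ ne
  have lt : ∀ A, (∀ i < 11, mv A (2 ^ i) < 2048) → ∀ v < 2048, mv A v < 2048 := fun A h =>
    v_ind (by rw [mv_zero]; norm_num) h fun x _ y _ h1 h2 => by rw [mv_xor]; exact x_lt h1 h2
  have ra : Rr η (ρ (mq qa)) (mv (cA k)) := fun v hv => ⟨lt _ (by clear * -; revert k; decide +kernel) v hv, ha v hv⟩
  have rb : Rr η (ρ (mq qbe)) (mv (cB k)) := fun v hv => ⟨lt _ (by clear * -; revert k; decide +kernel) v hv, hb v hv⟩
  have rg : Rr η (ρ (mq qb)) (mv (cG k)) := by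
    obtain ⟨w, hw, a⟩ := pin (φ := ρ (mq qb)) (t := 10) (B := b10 k) c rb (by
      rw [← map_pow, ← map_mul, ← map_mul, (rm_b.intw_iff rm_be (rm_be.pow 10)).1 (by decide +kernel)])
      (by clear * -; revert k; decide +kernel) (by clear * -; revert k; decide +kernel)
    have h3 : (ρ (mq qa) * ρ (mq qb)) ^ 3 = 1 := by
      rw [← map_mul, ← map_pow, ((rm_a.mul rm_b).powId_iff 3).1 (by decide +kernel), map_one]
    have h := of_allLT (g_check k) hw
    rw [frc_eq, frc_eq, itv_fix c (rr_mm ra a) h3 (by norm_num), itv_fix c (rr_mm ra a) h3 (by norm_num),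
      itv_fix c (rr_mm ra a) h3 (by norm_num)] at h
    exact beq_iff'.1 h ▸ a
  have rd : Rr η (ρ (mq qc)) (mv (cD k)) := by
    obtain ⟨w, hw, a⟩ := pin (φ := ρ (mq qc)) (t := 3) (B := b3 k) c rb (by
      rw [← map_pow, ← map_mul, ← map_mul, (rm_c.intw_iff rm_be (rm_be.pow 3)).1 (by decide +kernel)])
      (by clear * -; revert k; decide +kernel) (by clear * -; revert k; decide +kernel)
    have h6 : (ρ (mq qa) * ρ (mq qc)) ^ 6 = 1 := by
      rw [← map_mul, ← map_pow, ((rm_a.mul rm_c).powId_iff 6).1 (by decide +kernel), map_one]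
    have h2 : ρ (mq qb) * ρ (mq qc) = ρ (mq qc) * ρ (mq qb) := by
      rw [← map_mul, ← map_mul, (rm_b.intw_iff rm_c rm_c).1 (by decide +kernel)]
    have h := of_allLT (d_check k) hw
    have h7 : mv (cG k) (mv (cand k (b3 k) w) 2) = mv (cand k (b3 k) w) (mv (cG k) 2) :=
      (rg.mul a).unique c (h2 ▸ a.mul rg) (by norm_num)
    rw [frc_eq, frc_eq, itv_fix c (rr_mm ra a) h6 (by norm_num), itv_fix c (rr_mm ra a) h6 (by norm_num),
      beq_iff'.2 h7] at h
    exact beq_iff'.1 h ▸ a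
  have hP : ∀ v < 2048, mv (cP k) v < 2048 := lt _ (by clear * -; revert k; decide +kernel)
  have hI : ∀ v < 2048, mv (cPi k) v < 2048 := lt _ (by clear * -; revert k; decide +kernel)
  have ext : ∀ A B C D, (∀ i < 11, mv A (mv B (2 ^ i)) = mv C (mv D (2 ^ i))) →
      ∀ v < 2048, mv A (mv B v) = mv C (mv D v) := fun A B C D h =>
    v_ind (by simp only [mv_zero]) h fun x _ y _ h1 h2 => by simp only [mv_xor, h1, h2]
  have e1 : ∀ v < 2048, mv (cP k) (mv (cPi k) v) = v := fun v hv => by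
    rw [ext _ _ mI mI (by clear * -; revert k; decide +kernel) v hv, mv_mI (mv_lt _ _), mv_mI (lt12 hv)]
  have e2 : ∀ v < 2048, mv (cPi k) (mv (cP k) v) = v := fun v hv => by
    rw [ext _ _ mI mI (by clear * -; revert k; decide +kernel) v hv, mv_mI (mv_lt _ _), mv_mI (lt12 hv)]
  refine ⟨k, fun v => η (mv (cPi k) v), ⟨fun v hv w hw => ?_, fun v hv h => ?_, fun x => ?_⟩, fun g => ?_⟩
  · rw [mv_xor, c.xor _ (hI v hv) _ (hI w hw)]
  · rw [← e1 v hv, c.inj _ (hI v hv) h, mv_zero]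
  · obtain ⟨v, hv, rfl⟩ := c.surj x
    exact ⟨_, hP v hv, by rw [e2 v hv]⟩
  let H : Subgroup M24 := ⟨⟨⟨{g | ∀ v < 2048, ρ g (η (mv (cPi k) v)) = η (mv (cPi k) (ac k g v))},
    fun {a b} ha hb v hv => by rw [map_mul, MulAut.mul_apply, hb v hv, ha _ (ac_lt _ _ _), ac_mul k a b hv]⟩,
    fun v hv => by rw [map_one, ac_one k hv]; rfl⟩, fun {a} ha v hv => by
      apply (ρ a).injective
      rw [ha _ (ac_lt _ _ _), ac_ac_inv k a hv, ← MulAut.mul_apply, ← map_mul, mul_inv_cancel, map_one]; rfl⟩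
  obtain ⟨h1, h2, h3⟩ := am_gM k
  refine top_le_of_gens (H := H) (fun v hv => ?_) (fun v hv => ?_) (fun v hv => ?_) g
  · rw [(ra _ (hI v hv)).2, h1 v hv, ext _ _ (cPi k) ((gM k).getD 0 0) (by clear * -; revert k; decide +kernel) v hv]
  · rw [(rg _ (hI v hv)).2, h2 v hv, ext _ _ (cPi k) ((gM k).getD 1 0) (by clear * -; revert k; decide +kernel) v hv]
  · rw [(rd _ (hI v hv)).2, h3 v hv, ext _ _ (cPi k) ((gM k).getD 2 0) (by clear * -; revert k; decide +kernel) v hv]

theorem exists_MV {G : Type*} [Group G] [Finite G] (V : Subgroup G) (hV : IsElementaryAbelian 2 V)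
    (hc : Nat.card V = 2 ^ 11) (hC : centralizer (V : Set G) = V)
    (hM : Spor.IsoM24 (normalizer (V : Set G) ⧸ V.subgroupOf (normalizer (V : Set G)))) :
    ∃ (k : Bool) (m : MV G k), m.V = V := by
  classical
  obtain ⟨e⟩ := hM
  have hk : V.normalizerMonoidHom.ker = V.subgroupOf (normalizer (V : Set G)) := by rw [normalizerMonoidHom_ker, hC]
  let l := QuotientGroup.lift (V.subgroupOf (normalizer (V : Set G))) V.normalizerMonoidHom hk.ge
  let ρ : M24 →* MulAut V := l.comp e.symm.toMonoidHom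
  have hρ : ∀ x : normalizer (V : Set G), ρ (e x) = V.normalizerMonoidHom x := fun x => by
    show l (e.symm (e x)) = _
    rw [e.symm_apply_apply]; rfl
  have he : ∀ x : normalizer (V : Set G), e x = 1 ↔ (x : G) ∈ V := fun x => by
    rw [map_eq_one_iff _ e.injective, QuotientGroup.eq_one_iff, mem_subgroupOf]
  have hs : ∀ g : M24, ∃ x : normalizer (V : Set G), e x = g := fun g => by
    obtain ⟨x, hx⟩ := QuotientGroup.mk_surjective (e.symm g)
    exact ⟨x, by rw [hx, e.apply_symm_apply]⟩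
  obtain ⟨k, θ, c, hθ⟩ := exists_theta (V := V) (fun v => Subtype.ext (by simpa [pow_two] using hV.2 v v.2)) hc ρ (by
    obtain ⟨x, hx⟩ := hs (mq qa)
    intro h
    rw [← hx, hρ, ← MonoidHom.mem_ker, hk, mem_subgroupOf, ← he, hx, ← ModAx.rm_a.isId_iff] at h
    revert h; decide +kernel)
  refine ⟨k, ⟨V, fun x => if h : x ∈ normalizer (V : Set G) then e (⟨x, h⟩ : normalizer (V : Set G)) else 1,
    fun v => θ v, fun x hx y hy => ?_, fun x hx => ?_, fun g => ?_, fun v hv w hw => ?_, fun v hv h => ?_,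
    fun x => ⟨fun hx => ?_, ?_⟩, fun x hx v hv => ?_⟩, rfl⟩
  · rw [dif_pos hx, dif_pos hy, dif_pos (mul_mem hx hy), ← map_mul]; rfl
  · rw [dif_pos hx, he]
  · obtain ⟨x, hx⟩ := hs g
    exact ⟨x, x.2, by rw [dif_pos x.2]; exact hx⟩
  · rw [c.xor v hv w hw]; rfl
  · exact c.inj v hv (Subtype.ext h)
  · obtain ⟨v, hv, h⟩ := c.surj ⟨x, hx⟩
    exact ⟨v, hv, congrArg Subtype.val h⟩
  · rintro ⟨v, -, rfl⟩; exact (θ v).2
  · rw [dif_pos hx, ← hθ _ v hv, hρ]; rfl

end CfsgLib.M24R
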