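import Mathlib
import Cfsg.Agent.Lib.M24R.Cnt

/-!
# configurations of rank at most 4 (plans/M24R.md)
-/

set_option autoImplicit false
set_option Elab.async false

namespace CfsgLib.M24R

open Subgroup Cfsg CfsgLib.Tech CfsgLib.J4T CfsgLib.J4T.Rec CfsgLib.Golay CfsgLib.M24E CfsgLib.WD.Km
open scoped Pointwise

variable {k : Bool} {Y : Subgroup M24} {I D : ℕ → Prop} {a : ℕ} {b : M24}

theorem cf4_check : ∀ k : Bool, allLT 192 (fun j => or (Nat.beq j 15) (frc (iM k j) fun A => frc (fxM A) fun X =>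
    and (Nat.ble (cnM X) 128) (or (Nat.blt (cnM X) 128) (frc (cI j) fun c =>
      frc (mkB 192 fun h => and (tb c h) (frc (iM k h) fun B =>
        Nat.ble (cnM (preM (Nat.xor mI B) A)) (Nat.mul 16 (cnM (Nat.land X (fxM B)))))) fun F =>
      or (Nat.blt (cntLT 192 (tb F)) 16) (and (not k)
        (Nat.beq F 0x21f60000000000000000f00000000000000000000000f000)))))) = true := by
  decide +kernel

theorem PC.small (c : PC k Y I D a b) (h : Nat.card Y < 32) : k = false ∧ Y = R := by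
  obtain ⟨j, hj, rfl⟩ := exists_ie (c.le c.b_mem) (c.sq b c.b_mem)
  have H := of_allLT (cf4_check k) hj
  simp only [Bool.or_eq_true, Bool.and_eq_true, frc_eq, beq_iff', Nat.blt_eq, Nat.ble_eq, Bool.not_eq_true'] at H
  obtain ⟨H1, H2⟩ := H.resolve_left fun e => c.b_ne ((ie_eq_one hj).2 e)
  have h1 := c.n1 _ (sp_fix k (ie j)) fun v hv e => c.fix v hv e _ c.b_mem
  rw [nc_congr (Q := fun _ => True) fun v hv => iff_true_intro (ac_cm_self (ie_sq hj) hv), nc_true,
    (am_ie k hj).fx.nc] at h1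
  have h2 : Nat.card Y = 2 ^ 4 := card_eq_of_pow c.le 
    (by have := h1.trans (Nat.mul_le_mul_left _ H1); omega) h
  have h3 : ∀ i < 192, ie i ∈ Y → tb (mkB 192 fun h => and (tb (cI j) h)
      (Nat.ble (cnM (preM (Nat.xor mI (iM k h)) (iM k j)))
        (Nat.mul 16 (cnM (Nat.land (fxM (iM k j)) (fxM (iM k h))))))) i = true := fun i hi hm => by
    rw [tb_mkB, Bool.and_eq_true, Nat.ble_eq]
    refine ⟨hi, tb_cI c.sq hj hi c.b_mem hm, ?_⟩
    have h4 := c.n1 _ ((sp_fix k (ie j)).and (sp_fix k (ie i))) fun v hv e =>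
      ⟨c.fix v hv e _ c.b_mem, c.fix v hv e _ hm⟩
    rwa [nc_congr fun v hv => and_iff_right (ac_cm_self (ie_sq hj) hv), ((am_ie k hj).pre_fx (am_ie k hi)).nc,
      ((am_ie k hj).fx.and (am_ie k hi).fx).nc, h2] at h4
  rcases H2 with h5 | h5 | ⟨h5, h6⟩
  · rw [h2] at h1; omega
  · exact absurd (h2.ge.trans (card_le_cnt c.le c.sq h3)) h5.not_ge
  · refine ⟨h5, eq_of_le_of_card_ge (im_R.ge c.le c.sq (h6 ▸ h3)) ?_⟩
    rw [h2, km1.cardR]; rfl

end CfsgLib.M24R
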