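import Mathlib
import Cfsg.Agent.Lib.M24R.Cnt

/-!
# configurations inside `E` and `E'` (plans/M24R.md)
-/

set_option autoImplicit false
set_option Elab.async false

namespace CfsgLib.M24R

open Subgroup Cfsg CfsgLib.Tech CfsgLib.J4T CfsgLib.J4T.Rec CfsgLib.Golay CfsgLib.M24E CfsgLib.WD.Km
open scoped Pointwise

variable {k : Bool} {Y : Subgroup M24} {I D : ℕ → Prop} {a : ℕ} {b : M24}

namespace Cf5x

variable {F : Subgroup M24} {mF Cm : ℕ}

/-- check matrix of `{0, zv}` -/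
def zK (k : Bool) : ℕ := cond k 0x2001000800400200100080040021c4001 0x2001000800400200100080040020011f5

theorem zK_iff {v : ℕ} (hv : v < 2048) : mv (zK k) v = 0 ↔ v = 0 ∨ v = zv k :=
  ((sm_ker _).eq_iff ((sm_pt (c := 0) (by norm_num)).or (sm_pt (zv_lt k)))).1 (by clear hv; revert k; decide +kernel) v hv

theorem zK_I (c : PC k Y I D a b) {v : ℕ} (hv : v < 2048) (h : mv (zK k) v = 0) : I v :=
  ((zK_iff hv).1 h).elim (fun e => e ▸ c.spI.zero) fun e => e ▸ c.zI

theorem n1 (c : PC k Y I D a b) (h : ∀ v < 2048, Fx k Y v → mv Cm v = 0) {j : ℕ} (hj : j < 192) (e : b = ie j) :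
    cnM (preM Cm (iM k j)) ≤ Nat.card Y * cnM (kerM Cm) := by
  have := c.n1 _ (sp_ker Cm) fun v hv e => h v hv (c.fix v hv e)
  rwa [e, ((am_ie k hj).pre Cm).nc, (sm_ker Cm).nc] at this

theorem exists_y (H : andM 192 (fun j => and (tb mF j) (not (Nat.beq j 15)))
    (fun j => Nat.xor (preM Cm (iM k j)) on) = 0) (ha : a < 2048) :
    ∃ j < 192, tb mF j = true ∧ ie j ≠ 1 ∧ mv Cm (cm k (ie j) a) = 0 := by
  have := (sm_andM fun j hj => ((am_ie k hj).pre Cm).not).zero_iff.1 H a ha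
  push Not at this
  obtain ⟨j, hj, h1, h2⟩ := this
  rw [Bool.and_eq_true, Bool.not_eq_true', ← Bool.not_eq_true, beq_iff'] at h1
  exact ⟨j, hj, h1.1, fun e => h1.2 ((ie_eq_one hj).1 e), h2⟩

/-- the test for subgroups of index 2 -/
noncomputable def chk (k : Bool) (mF Cm : ℕ) : Bool := frc (kerM Cm) fun X => and
  (allLT 2048 fun v => or (sp X v) (Nat.blt (cntLT 192 fun j => and (tb mF j) (Nat.beq (mv (iM k j) v) v)) 32))
  (allLT 192 fun j => or (or (not (tb mF j)) (Nat.beq j 15)) (Nat.blt (Nat.mul 32 (cnM X)) (cnM (preM Cm (iM k j)))))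

theorem eq_of (c : PC k Y I D a b) (h : 32 ≤ Nat.card Y) (hF : IM mF F) (hY : Y ≤ F) (hc : Nat.card F = 2 ^ 6)
    (H : chk k mF Cm = true) : Y = F := by
  refine eq_of_le_of_card_ge hY (hc.trans_le (not_lt.1 fun h1 => ?_))
  rw [chk, frc_eq, Bool.and_eq_true] at H
  obtain ⟨j, hj, e⟩ := exists_ie (c.le c.b_mem) (c.sq b c.b_mem)
  have h2 := n1 (Cm := Cm) c (fun v hv hx => by
    have h2 := of_allLT H.1 hv
    rw [Bool.or_eq_true, (sm_ker Cm).iff v hv, Nat.blt_eq] at h2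
    refine h2.resolve_right (not_lt.2 (h.trans (card_le_cnt c.le c.sq fun i hi hm => ?_)))
    rw [Bool.and_eq_true, beq_iff', ← am_ie k hi v hv]
    exact ⟨(hF i hi).1 (hY hm), hx _ hm⟩) hj e
  have h3 := of_allLT H.2 hj
  rw [(hF j hj).1 (hY (e ▸ c.b_mem)), Bool.not_true, Bool.false_or, Bool.or_eq_true, beq_iff', Nat.blt_eq] at h3
  rw [card_eq_of_pow (i := 5) c.le h h1] at h2
  exact h2.not_gt (h3.resolve_left fun e' => c.b_ne (e.trans ((ie_eq_one hj).2 e')))

theorem card_mul_le {L : Type*} [Group L] {A B C : Subgroup L} [Finite C] (hA : A ≤ C) (hB : B ≤ C) (h : A ⊓ B = ⊥) :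
    Nat.card A * Nat.card B ≤ Nat.card C := by
  rw [← Nat.card_prod]
  refine Nat.card_le_card_of_injective (fun x : A × B => (⟨x.1 * x.2, mul_mem (hA x.1.2) (hB x.2.2)⟩ : C))
    fun x y e => ?_
  exact Subgroup.mul_injective_of_disjoint (disjoint_iff.2 h) (congrArg Subtype.val e)

/-- the elements of `E` moving `a` inside its class modulo `zv` -/
def Ka (k : Bool) {a : ℕ} (ha : a < 2048) : Subgroup M24 where
  carrier := {x | x ∈ E ∧ mv (zK k) (cm k x a) = 0}
  one_mem' := ⟨one_mem _, by rw [cm_eq_zero.2 (ac_one k ha), mv_zero]⟩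
  mul_mem' {x y} hx hy := ⟨mul_mem hx.1 hy.1, by
    rw [cm_mul k x y ha, mv_xor, hx.2, Nat.zero_xor]
    rcases (zK_iff (cm_lt _ _ ha)).1 hy.2 with e | e
    · rw [e, ac_zero, mv_zero]
    · rw [e, mem_St.1 (S_le_St k (E_le hx.1)), zK_iff (zv_lt k)]; exact .inr rfl⟩
  inv_mem' {x} hx := by rw [tE.inv hx.1]; exact hx

theorem ka_check : allLT 2048 (fun a => Nat.ble 4 (cntLT 64 fun j => frc (Nat.xor a (mv (iM false j) a)) fun w =>
    or (Nat.beq w 0) (Nat.beq w 1003))) = true := by decide +kernel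

theorem card_Ka (ha : a < 2048) : 4 ≤ Nat.card (Ka false ha) := by
  have h := of_allLT ka_check ha
  rw [Nat.ble_eq, ← ncard_cnt] at h
  rw [card_eq_ncard (Y := Ka false ha) (fun x hx => E_le hx.1) fun x hx => tE.sq x hx.1]
  refine h.trans (Set.ncard_le_ncard (fun j hj => ?_) ((Set.finite_lt_nat 192).subset fun _ h => h.1))
  obtain ⟨h1, h2⟩ := hj
  have h3 : j < 192 := by omega
  rw [frc_eq, Bool.or_eq_true, beq_iff', beq_iff', ← am_ie false h3 a ha] at h2
  exact ⟨h3, (im_E j h3).2 (by clear h2 h3; revert j; decide +kernel), (zK_iff (cm_lt _ _ ha)).2 h2⟩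

end Cf5x

open Cf5x

theorem PC.le_E (c : PC k Y I D a b) (h : 32 ≤ Nat.card Y) (hE : Y ≤ E) : k = true ∧ Y = E := by
  cases k
  · by_cases h1 : Y ⊓ Ka false c.a_lt = ⊥
    · have h2 := card_mul_le hE (fun x (hx : x ∈ Ka false c.a_lt) => hx.1) h1
      have := (Nat.mul_le_mul h (card_Ka c.a_lt)).trans h2
      rw [ke.card] at this
      omega
    · obtain ⟨y, h2⟩ := ne_bot_iff_exists_ne_one.1 h1
      exact absurd (Subtype.ext (c.inj y y.2.1 (zK_I c (cm_lt _ _ c.a_lt) y.2.2.2))) h2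
  · exact ⟨rfl, eq_of (Cm := 0x40020010010008004002010001030017) c h im_E hE ke.card (by decide +kernel)⟩

theorem PC.le_E' (c : PC k Y I D a b) (h : 32 ≤ Nat.card Y) (hE : Y ≤ E') : k = false ∧ Y = E' := by
  cases k
  · exact ⟨rfl, eq_of (Cm := 0x80040020010008004002038046001045) c h im_E' hE ke.card' (by decide +kernel)⟩
  · obtain rfl := eq_of (Cm := 0x100080040040020010008004002084001) c h im_E' hE ke.card' (by decide +kernel)
    obtain ⟨j, hj, h1, h2, h3⟩ := exists_y (k := true) (Cm := zK true) (mF := 0xffffffffffff000000000000ffff)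
      (by decide +kernel) c.a_lt
    exact absurd (c.inj _ ((im_E' j hj).2 h1) (zK_I c (cm_lt _ _ c.a_lt) h3)) h2

end CfsgLib.M24R
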