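import Mathlib
import Cfsg.Agent.Lib.M24R.Cf5

/-!
# the four other groups of order 32 (plans/M24R.md)
-/

set_option autoImplicit false
set_option Elab.async false

namespace CfsgLib.M24R

open Subgroup Cfsg CfsgLib.Tech CfsgLib.J4T CfsgLib.J4T.Rec CfsgLib.Golay CfsgLib.M24E CfsgLib.WD.Km
open scoped Pointwise

variable {k : Bool} {Y : Subgroup M24} {I D : ℕ → Prop} {a : ℕ} {b : M24}

namespace CfOx

open Cf5x

/-- check matrices of the fixed spaces -/
def oK (k : Bool) (i : ℕ) : ℕ := (cond k [0x4002001001000800400203000101001c, 0x40000020020010008004002014002001,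
  0x1000800400200100080040200020c0001, 0x1000800400200100080040400020a0001] [0x10008004002001000800400208c0010fb,
  0x10008004002001000800400208c0010fb, 0x800400200100080040020010e006101c, 0x800400200100080040a4002001058026]).getD i 0

theorem check : ∀ k : Bool, allLT 4 (fun i => frc (oM i) fun m => frc (oK k i) fun Cm => frc (kerM Cm) fun X =>
    and (and (Nat.beq (fxI k m) X) (Nat.beq (cntLT 192 (tb m)) 32))
    (allLT 192 fun j => or (or (not (tb m j)) (Nat.beq j 15)) (or (Nat.blt (Nat.mul 32 (cnM X)) (cnM (preM Cm (iM k j))))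
      (and (and (and (not k) (tb m 2)) (not (leM (fxM (iM k j)) (preM (zK k) (iM k 2)))))
        (and (Nat.beq X (lsM [0, 479, 564, 1003])) (Nat.beq (andM 192 (fun j => and (tb m j) (not (Nat.beq j 15)))
          (fun j => Nat.xor (preM Cm (iM k j)) on)) 0)))))) = true := by
  decide +kernel

end CfOx

open Cf5x CfOx in
theorem PC.not_O (c : PC k Y I D a b) {i : ℕ} (hi : i < 4) (h : IM (oM i) Y) : False := by
  obtain ⟨j, hj, e⟩ := exists_ie (c.le c.b_mem) (c.sq b c.b_mem)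
  have H := of_allLT (check k) hi
  simp only [frc_eq, Bool.and_eq_true, beq_iff'] at H
  obtain ⟨⟨H1, H2⟩, H3⟩ := H
  have h1 := ((h.fx c.le c.sq k).eq_iff (sm_ker (oK k i))).1 H1
  have h2 := Cf5x.n1 c (fun v hv => (h1 v hv).1) hj e
  have h3 := of_allLT H3 hj
  rw [(h j hj).1 (e ▸ c.b_mem)] at h3
  simp only [Bool.not_true, Bool.false_or, Bool.or_eq_true, Bool.and_eq_true, beq_iff', Nat.blt_eq,
    Bool.not_eq_true'] at h3
  rw [h.card c.le c.sq, H2] at h2
  obtain ⟨⟨⟨rfl, h4⟩, h5⟩, h6, h7⟩ := (h3.resolve_left fun e' => c.b_ne (e.trans ((ie_eq_one hj).2 e'))).resolve_left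
    h2.not_gt
  have h8 := ((sm_ker (oK false i)).eq_iff (sm_ls (by decide))).1 h6
  rw [← Bool.not_eq_true, (am_ie false hj).fx.le_iff ((am_ie false (j := 2) (by norm_num)).pre _)] at h5
  push Not at h5
  obtain ⟨v, hv, a1, a2⟩ := h5
  have a3 := c.com _ ((h 2 (by norm_num)).2 h4) v hv ((c.f4 v hv).2 (by rw [e, cm_eq_zero.2 a1]; exact c.spI.zero))
  have a4 := (h8 _ (cm_lt _ _ hv)).1 ((h1 _ (cm_lt _ _ hv)).1 (c.fix _ (cm_lt _ _ hv) a3))
  rw [Ne, zK_iff (cm_lt _ _ hv), not_or] at a2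
  have a5 : I 479 ∧ I 564 := by
    simp only [List.mem_cons, List.not_mem_nil, or_false] at a4
    rcases a4 with a4 | a4 | a4 | a4
    exacts [absurd a4 a2.1, ⟨a4 ▸ a3, c.spI.xor 479 (by norm_num) 1003 (by norm_num) (a4 ▸ a3) c.zI⟩,
      ⟨c.spI.xor 564 (by norm_num) 1003 (by norm_num) (a4 ▸ a3) c.zI, a4 ▸ a3⟩, absurd a4 a2.2]
  obtain ⟨l, hl, b1, b2, b3⟩ := exists_y h7 c.a_lt
  refine b2 (c.inj _ ((h l hl).2 b1) ?_)
  have b4 := (h8 _ (cm_lt _ _ c.a_lt)).1 b3
  simp only [List.mem_cons, List.not_mem_nil, or_false] at b4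
  rcases b4 with b4 | b4 | b4 | b4 <;> rw [b4]
  exacts [c.spI.zero, a5.1, a5.2, c.zI]

end CfsgLib.M24R
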