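import Mathlib
import Cfsg.Agent.Lib.M24R.Defs

/-!
# the three good subgroups (plans/M24R.md)
-/

set_option autoImplicit false
set_option Elab.async false

namespace CfsgLib.M24R

open Subgroup Cfsg CfsgLib.Tech CfsgLib.J4T CfsgLib.J4T.Rec CfsgLib.Golay CfsgLib.M24E CfsgLib.WD.Km
open scoped Pointwise

variable {k : Bool} {Y : Subgroup M24}

namespace Gdx

variable {f : ℕ → ℕ} {n : ℕ}

/-- the matrix of the element `x` of a table -/
noncomputable def tM (k : Bool) (f : ℕ → ℕ) (x : ℕ) : ℕ := frc (f x) fun q => mat k (ap q)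

theorem am_t (k : Bool) (T : Tb f n) {x : ℕ} (hx : x < n) : AM k (tM k f x) (mq (f x)) := by
  rw [tM, frc_eq]; exact am_mat k (T.rm hx)

theorem fx_of (T : Tb f n) {Cm : ℕ}
    (H : Nat.beq (Nat.rec on (fun x ih => Nat.land (fxM (tM k f x)) ih) n) (kerM Cm) = true) {v : ℕ} (hv : v < 2048) :
    Fx k (tab f n) v ↔ mv Cm v = 0 := by
  rw [← ((sm_all (n := n) fun x hx => (am_t k T hx).fx).eq_iff (sm_ker Cm)).1 (beq_iff'.1 H) v hv]
  exact ⟨fun h x hx => h _ (mq_mem_tab hx), fun h y hy => by obtain ⟨x, hx, rfl⟩ := (T.mem y).1 hy; exact h x hx⟩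

theorem z_of (T : Tb f n) {Cm Z : ℕ} (hC : ∀ {v : ℕ}, v < 2048 → (Fx k (tab f n) v ↔ mv Cm v = 0))
    (H : allLT n (fun x => or (Nat.beq x 0) (Nat.beq (preM Cm (tM k f x)) (kerM Z))) = true) {x : M24} (hx : x ∈ tab f n)
    (h1 : x ≠ 1) {v : ℕ} (hv : v < 2048) : Fx k (tab f n) (cm k x v) ↔ mv Z v = 0 := by
  obtain ⟨i, hi, rfl⟩ := (T.mem x).1 hx
  have h := of_allLT H hi
  rw [Bool.or_eq_true, beq_iff', beq_iff'] at h
  rw [hC (cm_lt _ _ hv)]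
  exact (((am_t k T hi).pre Cm).eq_iff (sm_ker Z)).1 (h.resolve_left fun e => h1 (e ▸ T.zero)) v hv

theorem big_of (T : Tb f n) {Cm : ℕ} (hC : ∀ {v : ℕ}, v < 2048 → (Fx k (tab f n) v ↔ mv Cm v = 0))
    (H : allLT n (fun x => not (leM (fxM (tM k f x)) (kerM Cm))) = true) {b : M24} (hb : b ∈ tab f n) :
    ∃ v < 2048, ac k b v = v ∧ ¬ Fx k (tab f n) v := by
  obtain ⟨i, hi, rfl⟩ := (T.mem b).1 hb
  have h := of_allLT H hi
  rw [Bool.not_eq_true', ← Bool.not_eq_true, (am_t k T hi).fx.le_iff (sm_ker Cm)] at h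
  push Not at h
  obtain ⟨v, hv, h1, h2⟩ := h
  exact ⟨v, hv, h1, by rwa [hC hv]⟩

end Gdx

open Gdx

theorem good_cases (h : Good k Y) : k = false ∧ Y = R ∨ k = false ∧ Y = E' ∨ k = true ∧ Y = E := by
  cases k
  · exact h.elim (fun e => .inl ⟨rfl, e⟩) fun e => .inr (.inl ⟨rfl, e⟩)
  · exact .inr (.inr ⟨rfl, h⟩)

theorem good_le (h : Good k Y) : Y ≤ S := by
  rcases good_cases h with ⟨-, rfl⟩ | ⟨-, rfl⟩ | ⟨-, rfl⟩
  exacts [R_le, E'_le, E_le]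

theorem good_sq (h : Good k Y) : ∀ y ∈ Y, y * y = 1 := by
  rcases good_cases h with ⟨-, rfl⟩ | ⟨-, rfl⟩ | ⟨-, rfl⟩
  exacts [tR.sq, tP.sq, tE.sq]

theorem good_norm (h : Good k Y) : S ≤ normalizer (Y : Set M24) ∧ pp k ∈ normalizer (Y : Set M24) := by
  rcases good_cases h with ⟨rfl, rfl⟩ | ⟨rfl, rfl⟩ | ⟨rfl, rfl⟩
  exacts [⟨km1.SN, tR.toGp.norm (by decide +kernel)⟩, ⟨ke.norm', tP.toGp.norm (by decide +kernel)⟩,
    ⟨ke.norm, tE.toGp.norm (by decide +kernel)⟩]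

theorem fx_R {v : ℕ} (hv : v < 2048) : Fx false R v ↔ mv 0x1000800400200101a00e00701c00b019 v = 0 :=
  fx_of tR (by clear hv; decide +kernel) hv

theorem fx_E' {v : ℕ} (hv : v < 2048) : Fx false E' v ↔ mv 0x80040020010008004002038046001045 v = 0 :=
  fx_of tP (by clear hv; decide +kernel) hv

theorem fx_E {v : ℕ} (hv : v < 2048) : Fx true E v ↔ mv 0x40020010010008004002010001030017 v = 0 :=
  fx_of tE (by clear hv; decide +kernel) hv

theorem z_R {x : M24} (hx : x ∈ R) (h1 : x ≠ 1) {v : ℕ} (hv : v < 2048) :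
    Fx false R (cm false x v) ↔ mv 0x1001001001001001001001001001001 v = 0 :=
  z_of tR fx_R (by clear hv hx h1; decide +kernel) hx h1 hv

theorem z_E' {x : M24} (hx : x ∈ E') (h1 : x ≠ 1) {v : ℕ} (hv : v < 2048) :
    Fx false E' (cm false x v) ↔ mv 0x2001002002002001001002001001001 v = 0 :=
  z_of tP fx_E' (by clear hv hx h1; decide +kernel) hx h1 hv

theorem z_E {x : M24} (hx : x ∈ E) (h1 : x ≠ 1) {v : ℕ} (hv : v < 2048) :
    Fx true E (cm true x v) ↔ mv 0x1001000001000001 v = 0 :=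
  z_of tE fx_E (by clear hv hx h1; decide +kernel) hx h1 hv

theorem good_Z (h : Good k Y) {x y : M24} (hx : x ∈ Y) (hy : y ∈ Y) (h1 : x ≠ 1) {v : ℕ} (hv : v < 2048)
    (hc : Fx k Y (cm k x v)) : Fx k Y (cm k y v) := by
  by_cases h2 : y = 1
  · rw [h2, cm_eq_zero.2 (ac_one k hv)]; exact (sp_fx k Y).zero
  rcases good_cases h with ⟨rfl, rfl⟩ | ⟨rfl, rfl⟩ | ⟨rfl, rfl⟩
  exacts [(z_R hy h2 hv).2 ((z_R hx h1 hv).1 hc), (z_E' hy h2 hv).2 ((z_E' hx h1 hv).1 hc),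
    (z_E hy h2 hv).2 ((z_E hx h1 hv).1 hc)]

theorem good_big (h : Good k Y) {b : M24} (hb : b ∈ Y) : ∃ v < 2048, ac k b v = v ∧ ¬ Fx k Y v := by
  rcases good_cases h with ⟨rfl, rfl⟩ | ⟨rfl, rfl⟩ | ⟨rfl, rfl⟩
  exacts [big_of tR fx_R (by clear h hb; decide +kernel) hb, big_of tP fx_E' (by clear h hb; decide +kernel) hb,
    big_of tE fx_E (by clear h hb; decide +kernel) hb]

end CfsgLib.M24R
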