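import Mathlib
import Cfsg.Agent.Lib.M24R.Cnt

/-!
# elementary abelian subgroups of order 32 of `S` (plans/M24R.md)
-/

set_option autoImplicit false
set_option Elab.async false

namespace CfsgLib.M24R

open Subgroup Cfsg CfsgLib.Tech CfsgLib.J4T CfsgLib.J4T.Rec CfsgLib.Golay CfsgLib.M24E CfsgLib.WD.Km
open scoped Pointwise

theorem rank5_check : allLT 192 (fun j => or (Nat.blt j 112) (frc (cI j) fun c =>
    frc (mkB 192 fun h => and (tb c h) (frc (Nat.land c (cI h)) fun d => Nat.ble 32 (cntLT 192 (tb d)))) fun F =>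
      or (Nat.blt (cntLT 192 (tb F)) 32) (exLT 4 fun i => and (Nat.beq F (oM i)) (Nat.ble (cntLT 192 (tb F)) 32)))) = true := by
  decide +kernel

theorem rank5 {Y : Subgroup M24} (hY : Y ≤ S) (sq : ∀ y ∈ Y, y * y = 1) (h : 32 ≤ Nat.card Y) :
    Y ≤ E ∨ Y ≤ E' ∨ ∃ i < 4, IM (oM i) Y := by
  by_cases h1 : ∀ y ∈ Y, y ∈ E ∨ y ∈ E'
  · exact (K3.le_or_le h1).imp_right .inl
  push Not at h1
  obtain ⟨y, hy, h1, h2⟩ := h1
  obtain ⟨j, hj, rfl⟩ := exists_ie (hY hy) (sq y hy)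
  have h3 : ¬ j < 112 := fun h3 => by
    rw [im_E j hj] at h1
    rw [im_E' j hj] at h2
    clear hy
    revert j
    decide +kernel
  have H := of_allLT rank5_check hj
  simp only [Bool.or_eq_true, Bool.and_eq_true, frc_eq, beq_iff', exLT_iff, Nat.blt_eq, Nat.ble_eq] at H
  have h4 : ∀ i < 192, ie i ∈ Y → tb (mkB 192 fun h => and (tb (cI j) h)
      (Nat.ble 32 (cntLT 192 (tb (Nat.land (cI j) (cI h)))))) i = true := fun i hi hm => by
    rw [tb_mkB, Bool.and_eq_true, Nat.ble_eq]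
    exact ⟨hi, tb_cI sq hj hi hy hm, h.trans (card_le_cnt hY sq fun l hl e => by
      rw [tb_land, tb_cI sq hj hl hy e, tb_cI sq hi hl hm e]; rfl)⟩
  rcases H.resolve_left h3 with h5 | ⟨i, hi, h5, h6⟩
  · exact absurd (h.trans (card_le_cnt hY sq h4)) h5.not_ge
  · exact .inr (.inr ⟨i, hi, h5 ▸ im_of_le hY sq h4 (h6.trans h)⟩)

end CfsgLib.M24R
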