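import Mathlib
import Cfsg.Agent.Lib.M24R.CfA
import Cfsg.Agent.Lib.M24R.Cf4
import Cfsg.Agent.Lib.M24R.Rk5
import Cfsg.Agent.Lib.M24R.Cf5
import Cfsg.Agent.Lib.M24R.CfO
import Cfsg.Agent.Lib.M24R.Gd

/-!
# classification of the configurations (plans/M24R.md)
-/

set_option autoImplicit false
set_option Elab.async false

namespace CfsgLib.M24R

open Subgroup Cfsg CfsgLib.Tech CfsgLib.J4T CfsgLib.J4T.Rec CfsgLib.Golay CfsgLib.M24E CfsgLib.WD.Km
open scoped Pointwise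

variable {k : Bool} {Y : Subgroup M24} {I D : ℕ → Prop} {a : ℕ} {b : M24}

theorem PC.good (c : PC k Y I D a b) : Good k Y := by
  by_cases h : Nat.card Y < 32
  · obtain ⟨rfl, e⟩ := c.small h
    exact Or.inl e
  rcases rank5 c.le c.sq (by omega) with e | e | ⟨i, hi, e⟩
  · obtain ⟨rfl, e⟩ := c.le_E (by omega) e
    exact e
  · obtain ⟨rfl, e⟩ := c.le_E' (by omega) e
    exact Or.inr e
  · exact (c.not_O hi e).elim

theorem PC.fix_eq (c : PC k Y I D a b) : ∀ v < 2048, (I v ↔ Fx k Y v) := by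
  have hl : ∀ y, cm k y a < 2048 := fun y => cm_lt k y c.a_lt
  have hD : ∀ v < 2048, ac k b v = v → D v := fun v hv e => (c.f4 v hv).2 (by rw [cm_eq_zero.2 e]; exact c.spI.zero)
  have h1 : ¬ Fx k Y (cm k b a) := fun e => by
    obtain ⟨v, hv, h2, h3⟩ := good_big c.good c.b_mem
    obtain ⟨y, hy, h4⟩ := c.surj v hv (hD v hv h2)
    have := (sp_fx k Y).xor _ (x_lt hv (hl y)) _ (hl y) (c.fix _ (x_lt hv (hl y)) h4)
      (good_Z c.good c.b_mem hy c.b_ne c.a_lt e)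
    rw [Nat.xor_assoc, Nat.xor_self, Nat.xor_zero] at this
    exact h3 this
  refine fun v hv => ⟨c.fix v hv, fun e => ?_⟩
  obtain ⟨y, hy, h4⟩ := c.surj v hv (hD v hv (e b c.b_mem))
  have h5 := (sp_fx k Y).xor _ hv _ (x_lt hv (hl y)) e (c.fix _ (x_lt hv (hl y)) h4)
  rw [← Nat.xor_assoc, Nat.xor_self, Nat.zero_xor] at h5
  obtain rfl : y = 1 := by_contra fun h => h1 (good_Z c.good hy c.b_mem h c.a_lt h5)
  rwa [cm_eq_zero.2 (ac_one k c.a_lt), Nat.xor_zero] at h4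

theorem Cfg.good {G : Type*} [Group G] [Finite G] {m : MV G k} {D B : Subgroup G} {a ρ b : G}
    (c : Cfg m.V m.T m.H D B a ρ b) : Good k (m.bar B) ∧ ∀ v < 2048, (m.θ v ∈ B ↔ Fx k (m.bar B) v) :=
  let ⟨_, _, _, h⟩ := c.pc
  ⟨h.good, h.fix_eq⟩

end CfsgLib.M24R
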