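import Mathlib
import Cfsg.Agent.Lib.M24R.Gd

/-!
# the computation for the invariance of `B` (plans/M24R.md)
-/

set_option autoImplicit false
set_option Elab.async false

namespace CfsgLib.M24R

open Subgroup Cfsg CfsgLib.Tech CfsgLib.J4T CfsgLib.J4T.Rec CfsgLib.Golay CfsgLib.M24E CfsgLib.WD.Km
open scoped Pointwise

namespace LamKx

open Gdx

/-- entry `i` of a table of matrices -/
def nM (T i : ℕ) : ℕ := Nat.land (Nat.shiftRight T (Nat.mul 144 i)) 0xffffffffffffffffffffffffffffffffffff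

/-- the two matrices agree on the vectors -/
noncomputable def meq (A B : ℕ) : Bool := frc A fun A => frc B fun B => allLT 11 fun i => Nat.beq (col A i) (col B i)

theorem meq_spec {A B : ℕ} (h : meq A B = true) : ∀ v < 2048, mv A v = mv B v :=
  ln_ext (ln_mv A) (ln_mv B) fun i hi => by
    rw [meq, frc_eq, frc_eq] at h
    rw [mv_two_pow _ (by omega), mv_two_pow _ (by omega), beq_iff'.1 (of_allLT h hi)]

/-- the value `u` is allowed at place `i` -/
noncomputable def ok (NT i s u : ℕ) : Bool := frc (nM NT i) fun N =>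
  and (Nat.beq (mv N u) 0) (allLT i fun j => Nat.beq (mv (nM NT j) u) (mv N (col s j)))

/-- backtracking -/
noncomputable def bt (NT D : ℕ) (good : ℕ → Bool) (m : ℕ) : ℕ → ℕ → Bool :=
  Nat.rec (fun _ s => good s) (fun _ ih i s => allLT D fun u => or (not (ok NT i s u))
    (frc (Nat.xor (Nat.shiftLeft u (Nat.mul 12 i)) s) fun s' => frc (Nat.succ i) fun i' => ih i' s')) m

theorem bt_spec {NT D : ℕ} {good : ℕ → Bool} {g : ℕ → ℕ} {r : ℕ} (hD : D ≤ 4096) (lt : ∀ i < r, g i < D)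
    (h0 : ∀ i < r, mv (nM NT i) (g i) = 0) (h1 : ∀ i < r, ∀ j < r, mv (nM NT j) (g i) = mv (nM NT i) (g j))
    (m : ℕ) : ∀ i s, i + m = r → (∀ j, col s j = if j < i then g j else 0) → bt NT D good m i s = true →
      ∃ s, (∀ j < r, col s j = g j) ∧ good s = true := by
  induction m with
  | zero =>
    intro i s e hs h
    exact ⟨s, fun j hj => by rw [hs, if_pos (by omega)], h⟩
  | succ m ih =>
    intro i s e hs h
    have hi : i < r := by omega
    have h2 := of_allLT h (lt i hi)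
    have h3 : ok NT i s (g i) = true := by
      rw [ok, frc_eq, Bool.and_eq_true, beq_iff', allLT_iff]
      exact ⟨h0 i hi, fun j hj => by rw [beq_iff', hs, if_pos hj, h1 i hi j (by omega)]⟩
    rw [h3, Bool.not_true, Bool.false_or, frc_eq, frc_eq] at h2
    refine ih (i + 1) _ (by omega) (fun j => ?_) h2
    show col ((g i <<< (12 * i)) ^^^ s) j = _
    rw [col_xor, hs, col_shift ((lt i hi).trans_le hD)]
    rcases lt_trichotomy j i with h | rfl | h
    · simp [h, h.ne, Nat.lt_succ_of_lt h]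
    · simp
    · simp [h.ne', not_lt.2 h.le, not_lt.2 (Nat.succ_le_of_lt h)]

/-- the whole test -/
noncomputable def chk (k : Bool) (f : ℕ → ℕ) (r d Cm NT Pm T : ℕ) : Bool :=
  and (and (and (allLT 11 fun i => Nat.blt (col Cm i) (Nat.pow 2 d))
    (allLT r fun i => meq (Nat.xor mI (tM k f (Nat.pow 2 i))) (mm (nM NT i) Cm)))
    (and (meq (mm Cm (mat k (ap (pq k)))) (mm Pm Cm)) (actOK f (Nat.pow 2 r) (pq k) T)))
    (bt NT (Nat.pow 2 d) (fun s => allLT (Nat.pow 2 r) fun x => Nat.beq (mv s (e6 T x)) (mv Pm (mv s x))) r 0 0)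

theorem main {k : Bool} {f : ℕ → ℕ} {r d Cm NT Pm T : ℕ} (G : Tb f (2 ^ r)) (hr : r ≤ 12) (hd : d ≤ 12)
    (hC : ∀ {v : ℕ}, v < 2048 → (Fx k (tab f (2 ^ r)) v ↔ mv Cm v = 0)) (H : chk k f r d Cm NT Pm T = true)
    (l : M24 → ℕ) (lt : ∀ y ∈ tab f (2 ^ r), l y < 2048)
    (add : ∀ x ∈ tab f (2 ^ r), ∀ y ∈ tab f (2 ^ r), Fx k (tab f (2 ^ r)) (l (x * y) ^^^ l x ^^^ l y))
    (fix : ∀ y ∈ tab f (2 ^ r), ac k y (l y) = l y)
    (sym : ∀ x ∈ tab f (2 ^ r), ∀ y ∈ tab f (2 ^ r), cm k x (l y) = cm k y (l x)) :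
    ∀ y ∈ tab f (2 ^ r), Fx k (tab f (2 ^ r)) (l (pp k * y * (pp k)⁻¹) ^^^ ac k (pp k) (l y)) := by
  simp only [chk, Bool.and_eq_true] at H
  obtain ⟨⟨⟨H1, H2⟩, H3, H4⟩, H5⟩ := H
  have b : ∀ i < r, 2 ^ i < 2 ^ r := fun i hi => Nat.pow_lt_pow_right (by norm_num) hi
  have mem : ∀ {x}, x < 2 ^ r → mq (f x) ∈ tab f (2 ^ r) := mq_mem_tab
  have e1 : ∀ v < 2048, mv Cm v < 2 ^ d := v_ind (by rw [mv_zero]; positivity)
    (fun i hi => by rw [mv_two_pow _ (by omega)]; exact Nat.blt_eq.mp (of_allLT H1 hi))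
    fun x _ y _ h1 h2 => by rw [mv_xor]; exact xor_lt h1 h2
  have e2 : ∀ i < r, ∀ v < 2048, cm k (mq (f (2 ^ i))) v = mv (nM NT i) (mv Cm v) := fun i hi v hv =>
    ((am_t k G (b i hi)).cm hv).trans ((meq_spec (of_allLT H2 hi) v hv).trans (mv_mm _ _ (lt12 hv)))
  have e3 : ∀ v < 2048, mv Cm (ac k (pp k) v) = mv Pm (mv Cm v) := fun v hv => by
    rw [am_pp k v hv, ← mv_mm _ _ (lt12 hv), meq_spec H3 v hv, mv_mm _ _ (lt12 hv)]
  have e4 : ∀ x < 2 ^ r, ∀ y < 2 ^ r, mv Cm (l (mq (f (x ^^^ y)))) = mv Cm (l (mq (f x))) ^^^ mv Cm (l (mq (f y))) :=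
    fun x hx y hy => by
      have h := (hC (x_lt (x_lt (lt _ (mul_mem (mem hx) (mem hy))) (lt _ (mem hx))) (lt _ (mem hy)))).1
        (add _ (mem hx) _ (mem hy))
      rw [mv_xor, mv_xor, G.mul x hx y hy, Nat.xor_assoc] at h
      exact Nat.eq_of_xor_eq_zero h
  obtain ⟨s, hs, h5⟩ := bt_spec (g := fun i => mv Cm (l (mq (f (2 ^ i))))) (r := r)
    (Nat.pow_le_pow_right (n := 2) (by norm_num) hd) (fun i hi => e1 _ (lt _ (mem (b i hi))))
    (fun i hi => by rw [← e2 i hi _ (lt _ (mem (b i hi))), cm_eq_zero.2 (fix _ (mem (b i hi)))])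
    (fun i hi j hj => by
      rw [← e2 i hi _ (lt _ (mem (b j hj))), ← e2 j hj _ (lt _ (mem (b i hi))), sym _ (mem (b j hj)) _ (mem (b i hi))])
    r 0 0 (by omega) (fun j => by simp [col]) H5
  have e5 : ∀ x < 2 ^ r, mv Cm (l (mq (f x))) = mv s x := bits_ind' r
    (by have := e4 0 G.pos 0 G.pos; rw [Nat.xor_self, Nat.xor_self] at this; rw [this, mv_zero])
    (fun i hi => by rw [mv_two_pow _ (by omega), hs i hi]) fun x hx y hy h1 h2 => by rw [e4 x hx y hy, h1, h2, mv_xor]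
  intro y hy
  obtain ⟨x, hx, rfl⟩ := (G.mem y).1 hy
  obtain ⟨a1, a2⟩ := G.act H4 x hx
  rw [show pp k * mq (f x) * (pp k)⁻¹ = mq (f (e6 T x)) from a2, hC (x_lt (lt _ (mem a1)) (ac_lt _ _ _)), mv_xor,
    e3 _ (lt _ hy), e5 _ a1, e5 _ hx, beq_iff'.1 (of_allLT h5 hx), Nat.xor_self]

end LamKx

open LamKx in
theorem lam_inv {k : Bool} {Y : Subgroup M24} (h : Good k Y) (l : M24 → ℕ) (lt : ∀ y ∈ Y, l y < 2048)
    (add : ∀ x ∈ Y, ∀ y ∈ Y, Fx k Y (l (x * y) ^^^ l x ^^^ l y)) (fix : ∀ y ∈ Y, ac k y (l y) = l y)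
    (sym : ∀ x ∈ Y, ∀ y ∈ Y, cm k x (l y) = cm k y (l x)) :
    ∀ y ∈ Y, Fx k Y (l (pp k * y * (pp k)⁻¹) ^^^ ac k (pp k) (l y)) := by
  rcases good_cases h with ⟨rfl, rfl⟩ | ⟨rfl, rfl⟩ | ⟨rfl, rfl⟩
  · exact main (r := 4) (d := 5) (Pm := 0x1300b004015001) (T := 0x28c3c92cd3880841c10c5180)
      (NT := 0x6006001040a00410000000000000000000004105b41200841ad0000000000000000000005002045007344df0000000000000000000004012402da082240)
      tR (by norm_num) (by norm_num) fx_R (by decide +kernel) l lt add fix sym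
  · exact main (r := 6) (d := 8) (Pm := 0x670fe0df0570f70bc0fb0f8)
      (T := 0xe3aef9d77db4fbcf7fcf1c328e1822bacb6f9679a4a2aae945349071e7dd5d551669865b28824b1c510630e3cd043080)
      (NT := 0x69665557d4b54b56554614760000000000004ea6715354fd53544544559a0000000000001fe31d2153dd3dd31d31d31d00000000000042f5217c460c60c5366dd6ca0000000000004083ed7e341f7f43fa0110060000000000005002045007344df0300301ef)
      tP (by norm_num) (by norm_num) fx_E' (by decide +kernel) l lt add fix sym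
  · exact main (r := 6) (d := 7) (Pm := 0x40010030028007024011)
      (T := 0x6996d820b24ad76d379e49a5ef8eb9a6aa2b5175561851c479d7dc30f34ec72c338e08a1ffcfbdb6eb2f4134520810c0)
      (NT := 0x2bf10828220a0f23f00cf00000000000000033f0880000880e405106c00000000000000000020a0003b743043040d00000000000000033f38a1800881e115405c00000000000000008838a38a28238810a20800000000000000010800038a20a08238018a)
      tE (by norm_num) (by norm_num) fx_E (by decide +kernel) l lt add fix sym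

end CfsgLib.M24R
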