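import Mathlib
import Cfsg.Agent.Lib.M24R.QA
import Cfsg.Agent.Lib.M24R.LamK

/-!
# `Q` normalises `B` (plans/M24R.md)
-/

set_option autoImplicit false
set_option Elab.async false
set_option linter.unusedSectionVars false

namespace CfsgLib.M24R

open Subgroup Cfsg CfsgLib.Tech CfsgLib.J4T CfsgLib.J4T.Rec CfsgLib.Golay CfsgLib.M24E CfsgLib.WD.Km
open scoped Pointwise

variable {G : Type*} [Group G] [Finite G] {k : Bool} {m : MV G k}

namespace Lamx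

theorem fx_ac {Y : Subgroup M24} {g : M24} (hg : g ∈ normalizer (Y : Set M24)) {v : ℕ} (hv : v < 2048)
    (h : Fx k Y v) : Fx k Y (ac k g v) := fun y hy => by
  rw [← ac_mul k _ _ hv, show y * g = g * (g⁻¹ * y * g) by group, ac_mul k _ _ hv,
    h _ (conj_mem_of_mem_normalizer' hg hy)]

variable {B : Subgroup G} (hB : B ≤ m.M) {g : G} (hg : g ∈ m.M) (hn : m.π g ∈ normalizer (m.bar B : Set M24))
include hB hg

theorem cj_le : cj g B ≤ m.M := cj_le_iff.2 fun _ hx => mul_mem (mul_mem hg (hB hx)) (inv_mem hg)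

include hn

theorem bar_cj : m.bar (cj g B) = m.bar B := by
  refine le_antisymm (fun y hy => ?_) fun y hy => ?_
  · obtain ⟨_, ⟨x, hx, rfl⟩, -, rfl⟩ := MV.mem_bar.1 hy
    exact (MV.π_conj hg (hB hx)).symm ▸ conj_mem_of_mem_normalizer hn (MV.π_mem_bar hB hx)
  · obtain ⟨x, hx, h1, e⟩ := MV.mem_bar.1 (conj_mem_of_mem_normalizer' hn hy)
    refine MV.mem_bar.2 ⟨_, conj_mem_cj.2 hx, mul_mem (mul_mem hg h1) (inv_mem hg), ?_⟩
    rw [MV.π_conj hg h1, e]; group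

theorem fx_cj (hC : ∀ v < 2048, (m.θ v ∈ B ↔ Fx k (m.bar B) v)) {v : ℕ} (hv : v < 2048) :
    m.θ v ∈ cj g B ↔ Fx k (m.bar B) v := by
  have := m.conj _ (inv_mem hg) v hv
  rw [inv_inv] at this
  rw [mem_cj, this, hC _ (ac_lt _ _ _), MV.π_inv hg]
  exact ⟨fun h => ac_ac_inv k (m.π g) hv ▸ fx_ac hn (ac_lt _ _ _) h, fx_ac (inv_mem hn) hv⟩

omit hn

theorem norm (e : m.π g = pp k) (h3 : g ^ 3 = 1) (sq : ∀ x ∈ B, x * x = 1) (hG : Good k (m.bar B))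
    (hC : ∀ v < 2048, (m.θ v ∈ B ↔ Fx k (m.bar B) v)) : g ∈ normalizer (B : Set G) := by
  have hn : m.π g ∈ normalizer (m.bar B : Set M24) := e ▸ (good_norm hG).2
  have hB' := cj_le hB hg
  have sp := sp_fx k (m.bar B)
  have cm' : ∀ {A : Subgroup G}, (∀ x ∈ A, x * x = 1) → ∀ x ∈ A, ∀ y ∈ A, x * y = y * x := fun h x hx y hy => by
    rw [← inv_eq_of_mul_eq_one_right (h _ (mul_mem hx hy)), mul_inv_rev, inv_eq_of_mul_eq_one_right (h _ hx),
      inv_eq_of_mul_eq_one_right (h _ hy)]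
  have sq' : ∀ x ∈ cj g B, x * x = 1 := by
    rintro _ ⟨x, hx, rfl⟩
    rw [← map_mul, sq x hx, map_one]
  have h1 : ∀ y : M24, ∃ (x : G) (l : ℕ), y ∈ m.bar B → x ∈ B ∧ m.π x = y ∧ l < 2048 ∧ m.θ l * x ∈ cj g B := by
    intro y
    by_cases hy : y ∈ m.bar B
    · obtain ⟨x, hx, h1, e1⟩ := MV.mem_bar.1 hy
      obtain ⟨x', hx', h2, e2⟩ := MV.mem_bar.1 ((bar_cj hB hg hn).ge hy)
      obtain ⟨l, hl, e3⟩ := MV.exists_θ_of_π_eq h2 h1 (e2.trans e1.symm)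
      exact ⟨x, l, fun _ => ⟨hx, e1, hl, e3 ▸ hx'⟩⟩
    · exact ⟨1, 0, fun h => absurd h hy⟩
  choose x l h1 using h1
  have det : ∀ u ∈ B, ∀ w < 2048, m.θ w * u ∈ cj g B → Fx k (m.bar B) (w ^^^ l (m.π u)) := fun u hu w hw h => by
    obtain ⟨h2, h3, h4, h5⟩ := h1 _ (MV.π_mem_bar hB hu)
    obtain ⟨c, hc, e1⟩ := MV.exists_θ_of_π_eq (hB hu) (hB h2) h3.symm
    generalize m.π u = y at h2 h4 h5 e1
    subst e1
    have h6 := (hC c hc).1 (by simpa using mul_mem hu (inv_mem h2))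
    have h7 := mul_mem h (inv_mem h5)
    rw [← mul_assoc, mul_inv_rev, mul_assoc, mul_inv_cancel_left, m.θ_inv h4, ← m.θ_xor _ hw _ hc,
      ← m.θ_xor _ (x_lt hw hc) _ h4, fx_cj hB hg hn hC (x_lt (x_lt hw hc) h4)] at h7
    have := sp.xor _ (x_lt (x_lt hw hc) h4) _ hc h7 h6
    rwa [Nat.xor_assoc, Nat.xor_assoc, Nat.xor_comm c, Nat.xor_assoc, Nat.xor_self, Nat.xor_zero] at this
  have hm : ∀ y ∈ m.bar B, ∀ y' ∈ m.bar B,
      m.θ (l y) * x y * (m.θ (l y') * x y') = m.θ (l y ^^^ ac k y (l y')) * (x y * x y') := fun y hy y' hy' => by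
    rw [m.θ_xor _ (h1 y hy).2.2.1 _ (ac_lt _ _ _), ← (h1 y hy).2.1, ← m.conj _ (hB (h1 y hy).1) _ (h1 y' hy').2.2.1,
      (h1 y hy).2.1]
    group
  have fix : ∀ y ∈ m.bar B, ac k y (l y) = l y := fun y hy => by
    have := sq' _ (h1 y hy).2.2.2
    rw [hm y hy y hy, sq _ (h1 y hy).1, mul_one, MV.θ_eq_one (x_lt (h1 y hy).2.2.1 (ac_lt _ _ _))] at this
    exact (Nat.eq_of_xor_eq_zero this).symm
  have key := lam_inv hG l (fun y hy => (h1 y hy).2.2.1) (fun y hy y' hy' => ?_) fix fun y hy y' hy' => ?_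
  · have : g * g ∈ normalizer (B : Set G) := mem_normalizer_of_forall fun u hu => by
      have u1 := conj_mem_cj (g := g).2 hu
      have y1 := MV.π_mem_bar hB' u1
      rw [bar_cj hB hg hn] at y1
      rw [show g * g * u * (g * g)⁻¹ = g * (g * u * g⁻¹) * g⁻¹ by group]
      generalize g * u * g⁻¹ = u' at u1 y1
      obtain ⟨h2, h3, h4, -⟩ := h1 _ y1
      obtain ⟨w, hw, e1⟩ := MV.exists_θ_of_π_eq (hB' u1) (hB h2) h3.symm
      have k1 := det _ h2 w hw (e1 ▸ u1)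
      have u2 := conj_mem_cj (g := g).2 h2
      have y2 := conj_mem_of_mem_normalizer hn y1
      obtain ⟨h5, h6, h7, -⟩ := h1 _ y2
      obtain ⟨w', hw', e2⟩ := MV.exists_θ_of_π_eq (hB' u2) (hB h5) (by rw [MV.π_conj hg (hB h2), h3, h6])
      have k2 := det _ h5 w' hw' (e2 ▸ u2)
      have k3 := key _ y1
      rw [h3] at k1
      rw [h6] at k2
      rw [← e] at k3
      replace k1 := fx_ac hn (x_lt hw h4) k1
      rw [ac_xor k _ hw h4] at k1
      have k4 := sp.xor _ (x_lt (ac_lt _ _ _) (ac_lt _ _ _)) _ (x_lt (x_lt hw' h7) (x_lt h7 (ac_lt _ _ _))) k1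
        (sp.xor _ (x_lt hw' h7) _ (x_lt h7 (ac_lt _ _ _)) k2 k3)
      rw [Nat.xor_assoc w', x_cancel, Nat.xor_comm w', Nat.xor_assoc, x_cancel] at k4
      rw [e1, ← conj_mul, m.conj g hg w hw, e2, ← mul_assoc, ← m.θ_xor _ (ac_lt _ _ _) _ hw']
      exact mul_mem ((hC _ (x_lt (ac_lt _ _ _) hw')).2 k4) h5
    have := mul_mem this this
    rwa [show g * g * (g * g) = g ^ 3 * g by simp only [pow_succ, pow_zero, one_mul, mul_assoc], h3, one_mul] at this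
  · obtain ⟨h2, h3, h4, h5⟩ := h1 y hy
    obtain ⟨h2', h3', h4', h5'⟩ := h1 y' hy'
    have k1 := det _ (mul_mem h2 h2') _ (x_lt h4 (ac_lt _ _ _)) (hm y hy y' hy' ▸ mul_mem h5 h5')
    rw [m.π_mul _ (hB h2) _ (hB h2'), h3, h3'] at k1
    have k2 : Fx k (m.bar B) (cm k y (l y')) := by
      by_cases e1 : y' = 1
      · have := det 1 (one_mem _) 0 (by norm_num) (by rw [m.θ_zero, one_mul]; exact one_mem _)
        rw [MV.π_one, Nat.zero_xor, ← e1] at this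
        rw [cm_eq_zero.2 (this y hy)]; exact sp.zero
      · exact good_Z hG hy' hy e1 h4' (by rw [cm_eq_zero.2 (fix y' hy')]; exact sp.zero)
    have := sp.xor _ (x_lt (x_lt h4 (ac_lt _ _ _)) (h1 _ (mul_mem hy hy')).2.2.1) _ (cm_lt _ _ h4') k1 k2
    rwa [cm, Nat.xor_comm _ (l (y * y')), Nat.xor_assoc, Nat.xor_assoc, Nat.xor_comm (l y'), x_cancel,
      ← Nat.xor_assoc] at this
  · obtain ⟨h2, h3, h4, h5⟩ := h1 y hy
    obtain ⟨h2', h3', h4', h5'⟩ := h1 y' hy'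
    have := cm' sq' _ h5 _ h5'
    rw [hm y hy y' hy', hm y' hy' y hy, cm' sq _ h2 _ h2', mul_left_inj,
      MV.θ_eq_iff (x_lt h4 (ac_lt _ _ _)) (x_lt h4' (ac_lt _ _ _))] at this
    rw [cm, cm, ← x_cancel (a := l y) (b := ac k y (l y')), this, ← Nat.xor_assoc, Nat.xor_comm (l y'), Nat.xor_assoc, x_cancel]

end Lamx

theorem QD.lam (d : QD m) {B : Subgroup G} (hB : B ≤ m.M) (sq : ∀ x ∈ B, x * x = 1) (hg : Good k (m.bar B))
    (hC : ∀ v < 2048, (m.θ v ∈ B ↔ Fx k (m.bar B) v)) : d.Q ≤ normalizer (B : Set G) := by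
  have h1 : ∀ r ∈ d.Q, r * d.p * r⁻¹ ∈ normalizer (B : Set G) := fun r hr => by
    have h2 := inv_mem (d.le hr)
    have h3 := (good_norm hg).1 (MV.mem_T.1 (inv_mem (d.le_T hr))).2
    have e := Lamx.bar_cj hB h2 h3
    have := Lamx.norm (Lamx.cj_le hB h2) d.p_mem d.π_p d.p3 (by
      rintro _ ⟨x, hx, rfl⟩
      rw [← map_mul, sq x hx, map_one]) (e.symm ▸ hg) fun v hv => by rw [e, Lamx.fx_cj hB h2 h3 hC hv]
    rwa [← cj_normalizer, mem_cj, inv_inv] at this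
  have hp := Lamx.norm hB d.p_mem d.π_p d.p3 sq hg hC
  have hz : m.z ∈ normalizer (B : Set G) :=
    le_normalizer ((hC _ (zv_lt k)).2 fun y hy => S_le_St k (good_le hg hy))
  intro q hq
  obtain ⟨r, hr, e | e⟩ := d.gen hq <;> rw [e]
  exacts [mul_mem (h1 r hr) (inv_mem hp), mul_mem (mul_mem (h1 r hr) (inv_mem hp)) hz]

end CfsgLib.M24R
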