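import Mathlib
import Cfsg.Agent.Lib.M24R.QA
import Cfsg.Agent.Lib.M24R.Gd

/-!
# conjugates of `Q` in `T`, cocode module (plans/M24R.md)
-/

set_option autoImplicit false
set_option Elab.async false

namespace CfsgLib.M24R

open Subgroup Cfsg CfsgLib.Tech CfsgLib.J4T CfsgLib.J4T.Rec CfsgLib.Golay CfsgLib.M24E CfsgLib.WD.Km
open scoped Pointwise

variable {G : Type*} [Group G] [Finite G] {m : MV G false}

namespace UlTx

variable {k : Bool} {m : MV G k} (d : QD m) {ρ : G} (hρ : ρ ∈ m.H)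
include hρ

omit [Finite G] in
theorem back {x : G} (h : ρ⁻¹ * x * ρ = 1 ∨ ρ⁻¹ * x * ρ = m.z) : x = 1 ∨ x = m.z := by
  refine h.imp (fun e => ?_) fun e => ?_
  · calc x = ρ * (ρ⁻¹ * x * ρ) * ρ⁻¹ := by group
      _ = 1 := by rw [e]; group
  · calc x = ρ * (ρ⁻¹ * x * ρ) * ρ⁻¹ := by group
      _ = m.z := by rw [e, MV.mem_H.1 hρ]; group

omit [Finite G] in
theorem sq {x : G} (hx : x ∈ cj ρ d.Q) : x * x = 1 ∨ x * x = m.z :=
  back hρ (by simpa [mul_assoc] using d.sq _ (mem_cj.1 hx))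

theorem comm {x y : G} (hx : x ∈ cj ρ d.Q) (hy : y ∈ cj ρ d.Q) : x * y * x⁻¹ * y⁻¹ = 1 ∨ x * y * x⁻¹ * y⁻¹ = m.z :=
  back hρ (by simpa [mul_assoc] using d.es.commutator (mem_cj.1 hx) (mem_cj.1 hy))

theorem cm_mem {x : G} (hx : x ∈ cj ρ d.Q) (hx' : x ∈ m.M) {v : ℕ} (hv : v < 2048) (h : m.θ v ∈ cj ρ d.Q) :
    cm k (m.π x) v = 0 ∨ cm k (m.π x) v = zv k := by
  have := comm d hρ h hx
  rwa [MV.conj_θ hx' hv, mul_inv_cancel_right, MV.θ_eq_one (cm_lt _ _ hv), MV.θ_eq_z (cm_lt _ _ hv)] at this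

omit [Finite G] in
theorem bar_sq : ∀ y ∈ m.bar (cj ρ d.Q), y * y = 1 := fun y hy => by
  obtain ⟨x, hx, hx', rfl⟩ := MV.mem_bar.1 hy
  rw [← m.π_mul x hx' x hx']
  rcases sq d hρ hx with e | e <;> rw [e]
  exacts [MV.π_V (one_mem _), MV.π_V MV.z_mem]

omit hρ in
theorem nc_le (ρ : G) : (nc fun v => m.θ v ∈ cj ρ d.Q) ≤ cond k 32 128 :=
  MV.card_inf_V (m := m) _ ▸ d.ab inf_le_left fun _ hx _ hy => MV.V_comm hx.2 hy.2

end UlTx

open UlTx in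
theorem QD.ul_todd (d : QD m) {ρ : G} (hρ : ρ ∈ m.H) (h : cj ρ d.Q ≤ m.T) :
    (∀ x ∈ cj ρ d.Q, m.π x ∈ Xk false) ∧ m.W ≤ cj ρ d.Q := by
  have hM := h.trans MV.T_le
  have h1 := MV.card_eq hM
  have h2 : _ ≤ 128 := nc_le d ρ
  rw [card_cj, d.card, cond_false] at h1
  have h3 : ∀ v < 2048, m.θ v ∈ cj ρ d.Q → ∀ y ∈ m.bar (cj ρ d.Q), cm false y v = 0 ∨ cm false y v = zv false :=
    fun v hv e y hy => by
      obtain ⟨x, hx, hx', rfl⟩ := MV.mem_bar.1 hy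
      exact cm_mem d hρ hx hx' hv e
  rcases K3.calA _ ((MV.bar_le_iff hM).2 h) (bar_sq d hρ) (by nlinarith) with e | e
  · refine ⟨fun x hx => (e ▸ MV.π_mem_bar hM hx : m.π x ∈ E), ?_⟩
    rw [e, show Nat.card E = 64 from tE.card] at h1
    refine (eq_of_le_of_card_ge (H := cj ρ d.Q ⊓ m.V) (fun x hx => ?_) ?_).ge.trans inf_le_left
    · obtain ⟨v, hv, rfl⟩ := (m.mem_V x).1 hx.2
      exact (MV.θ_mem_W hv).2 ((inW_iff hv).2 fun y hy => h3 v hv hx.1 y (e ▸ hy))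
    · rw [MV.card_W, MV.card_inf_V, cond_false]; omega
  · have h4 := (sm_all (n := 64) fun x hx => ((Gdx.am_t false tP hx).cms (c := 0) (by norm_num)).or
      ((Gdx.am_t false tP hx).cms (zv_lt false))).nc
    rw [show cnM _ = 8 by decide +kernel] at h4
    have h5 := h4 ▸ nc_mono fun v hv e1 x hx => h3 v hv e1 _ (e.ge (mq_mem_tab hx))
    rw [e, show Nat.card E' = 64 from tP.card] at h1
    omega

end CfsgLib.M24R
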