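import Mathlib
import Cfsg.Agent.Lib.M24R.QA
import Cfsg.Agent.Lib.M24R.CfA
import Cfsg.Agent.Lib.M24R.SxA
import Cfsg.Agent.Lib.M24R.Gd
import Cfsg.Agent.Lib.M24R.UlT

/-!
# conjugates of `Q` in `T`, code module (plans/M24R.md)
-/

set_option autoImplicit false
set_option maxHeartbeats 400000
set_option Elab.async false

namespace CfsgLib.M24R

open Subgroup Cfsg CfsgLib.Tech CfsgLib.J4T CfsgLib.J4T.Rec CfsgLib.Golay CfsgLib.M24E CfsgLib.WD.Km
open scoped Pointwise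

variable {G : Type*} [Group G] [Finite G] {m : MV G true}

namespace UlGx

theorem tr_R {x : M24} (hx : x ∈ R) (h1 : x ≠ 1) : ∃ y ∈ St true, y * z * y⁻¹ = x := by
  by_cases e : x = z
  · exact ⟨1, one_mem _, by simp [e]⟩
  · obtain ⟨_, -, _, -, -, h, -⟩ := K1.pairs
    obtain ⟨y, hy, h2, -⟩ := h x hx z z_mem h1 z_ne e
    exact ⟨y, (st_iff true).2 hy, h2⟩

theorem cm_z {w : ℕ} (hw : w < 2048) (h : inW true w) (h0 : cm true z w = 0) : ∃ v < 2048, cm true z v = w := by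
  have a := am_mat true rm_z
  have h1 : frc (Nat.xor mI (mat true (ap (uE 2)))) (fun A => allLT 2048 fun w => or (not (Nat.beq (mv (wK true) w) 0))
      (or (not (Nat.beq (mv A w) 0)) (exLT 24 fun v => Nat.beq (mv A v) w))) = true := by decide +kernel
  rw [frc_eq] at h1
  have h2 := of_allLT h1 hw
  rw [show mv (wK true) w = 0 from h, ← a.cm hw, h0] at h2
  obtain ⟨v, hv, e⟩ := (exLT_iff _ _).1 (by simpa using h2)
  exact ⟨v, by omega, (a.cm (by omega)).trans (beq_iff'.1 e)⟩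

omit [Finite G] in
theorem over_z (d : QD m) {q : G} (hq : q ∈ d.Q) (h2 : q * q = 1) (hV : q ∉ m.V) :
    ∃ r ∈ d.Q, r * r = 1 ∧ m.π r = z ∧ IsConj q r := by
  obtain ⟨y, hy, e⟩ := tr_R (d.π_mem q hq) (mt (m.π_eq_one q (d.le hq)).1 hV)
  obtain ⟨x, hx, rfl⟩ := m.π_surj y
  have hn := d.norm x hx (MV.mem_H.1 ((MV.mem_H_iff hx).2 hy))
  refine ⟨x⁻¹ * q * x⁻¹⁻¹, conj_mem_of_mem_normalizer (inv_mem hn) hq, ?_, ?_, isConj_iff.2 ⟨x⁻¹, rfl⟩⟩
  · calc _ = x⁻¹ * (q * q) * x := by group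
      _ = 1 := by rw [h2]; group
  · rw [MV.π_conj (inv_mem hx) (d.le hq), MV.π_inv hx, ← e]; group

omit [Finite G] in
theorem isConj (d : QD m) {q r : G} (hq : q ∈ d.Q) (h2 : q * q = 1) (hV : q ∉ m.V) (hr : r ∈ d.Q) (h2' : r * r = 1)
    (hV' : r ∉ m.V) : IsConj q r := by
  obtain ⟨a, ha, a2, e1, c1⟩ := over_z d hq h2 hV
  obtain ⟨b, hb, b2, e2, c2⟩ := over_z d hr h2' hV'
  obtain ⟨w, hw, rfl⟩ := MV.exists_θ_of_π_eq (d.le hb) (d.le ha) (e2.trans e1.symm)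
  rw [MV.θ_mul_sq (d.le ha) hw, a2, mul_one, MV.θ_eq_one (cm_lt _ _ hw), e1] at b2
  obtain ⟨v, hv, e⟩ := cm_z hw ((d.inf w hw).1 (by simpa using mul_mem hb (inv_mem ha))) b2
  exact (c1.trans (isConj_iff.2 ⟨m.θ v, by rw [MV.conj_θ (d.le ha) hv, e1, e]⟩)).trans c2.symm

/-- some `[x, v]` lies outside `C` and has the type `t` -/
noncomputable def wit (A : ℕ) (t : Bool) : Bool := anyL [5, 1095, 1088] fun v => frc (mv A v) fun u =>
  and (not (Nat.beq (mv 0x40020010010008004002010001030017 u) 0)) (eqB (tz true u) t)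

theorem check : allLT 192 (fun j => or (tb 0x21f60000000000000000f00000000000000000000000f000 j)
    (frc (Nat.xor mI (iM true j)) fun A => or (Nat.beq (mv A 136) 0) (or (and (wit A true) (wit A false))
      (anyL [136, 264, 384, 522, 642, 770] fun c => frc (mv A c) fun u =>
        and (not (Nat.beq u 0)) (not (Nat.beq u (zv true))))))) = true := by decide +kernel

theorem key {x : M24} (hx : x ∈ S) (h2 : x * x = 1) {P : ℕ → Prop}
    (h1 : ∀ v < 2048, mv 0x1001000001000001 v = 0 → P (cm true x v))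
    (h3 : ∀ v < 2048, ∀ w < 2048, P v → P w → ¬ Fx true E v → ¬ Fx true E w → tz true v = tz true w)
    (h4 : ∀ v < 2048, inW true v → Fx true E v → cm true x v = 0 ∨ cm true x v = zv true) :
    x ∈ R ∨ x ∈ Sv true 136 (by norm_num) := by
  obtain ⟨j, hj, rfl⟩ := exists_ie hx h2
  have a := am_ie true hj
  have h5 := of_allLT check hj
  have hw : ∀ t, wit (Nat.xor mI (iM true j)) t = true → ∃ u < 2048, P u ∧ ¬ Fx true E u ∧ tz true u = t := fun t h => by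
    obtain ⟨v, hv, e⟩ := (anyL_iff _ _).1 h
    obtain ⟨l, z⟩ : v < 2048 ∧ mv 0x1001000001000001 v = 0 := by clear e; revert v; decide +kernel
    rw [frc_eq, ← a.cm l, Bool.and_eq_true, eqB_iff] at e
    refine ⟨_, cm_lt _ _ l, h1 v l z, fun f => ?_, Bool.eq_iff_iff.2 e.2⟩
    rw [(fx_E (cm_lt _ _ l)).1 f] at e
    exact absurd e.1 (by decide)
  rw [frc_eq, Bool.or_eq_true, Bool.or_eq_true, Bool.or_eq_true, Bool.and_eq_true, beq_iff', ← a.cm (by norm_num)] at h5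
  rcases h5 with h | h | h | h
  · exact Or.inl ((im_R j hj).2 h)
  · exact Or.inr (cm_eq_zero.1 h)
  · obtain ⟨u, hu, p1, f1, t1⟩ := hw _ h.1
    obtain ⟨w, hw, p2, f2, t2⟩ := hw _ h.2
    exact absurd (t1.symm.trans ((h3 u hu w hw p1 p2 f1 f2).trans t2)) (by decide)
  · obtain ⟨c, hc, e⟩ := (anyL_iff _ _).1 h
    obtain ⟨l, w, f⟩ : c < 2048 ∧ mv (wK true) c = 0 ∧ mv 0x40020010010008004002010001030017 c = 0 := by
      clear e; revert c; decide +kernel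
    rw [frc_eq, ← a.cm l] at e
    rcases h4 c l w ((fx_E l).2 f) with e' | e' <;> rw [e'] at e <;> exact absurd e (by decide)

end UlGx


theorem QD.ul_golay (d : QD m) {D B : Subgroup G} {a ρ b : G} (c : Cfg m.V m.T m.H D B a ρ b) (hg : m.bar B = E)
    (hC : ∀ v < 2048, (m.θ v ∈ B ↔ Fx true E v)) (hQ : d.Q ≤ D) :
    (∀ x ∈ cj ρ d.Q, m.π x ∈ Xk true) ∧ m.W ≤ cj ρ d.Q := by
  have hD : cj ρ d.Q ≤ D := cj_le_iff.2 fun x hx => conj_mem_of_mem_normalizer c.ρ_norm (hQ hx)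
  have hT := hD.trans c.DT
  have hM := hT.trans MV.T_le
  have hn : D ≤ normalizer ((cj ρ d.Q : Subgroup G) : Set G) := fun x hx => by
    rw [← cj_normalizer, mem_cj]
    exact d.T_norm (c.DT (conj_mem_of_mem_normalizer' c.ρ_norm hx))
  have hb : b ∈ m.M := MV.T_le (c.DT (c.B_le c.b_mem))
  have h1 : ∀ v < 2048, inW true v → Fx true E v → m.θ v ∈ cj ρ d.Q := fun v hv hw hf => by
    rw [mem_cj, mul_assoc, ← c.cent _ (MV.θ_mem hv) ((hC v hv).2 hf), inv_mul_cancel_left]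
    exact (d.inf v hv).2 hw
  have h2 : ∀ v < 2048, m.θ v ∈ cj ρ d.Q → ¬ Fx true E v → ρ⁻¹ * m.θ v * ρ ∉ m.V := fun v hv h hf hV =>
    hf ((hC v hv).1 (by rw [c.B_eq, mem_cj]; exact mem_inf.2 ⟨hV, hQ (mem_cj.1 h)⟩))
  have h3 : ∀ v < 2048, ρ⁻¹ * m.θ v * ρ * (ρ⁻¹ * m.θ v * ρ) = 1 := fun v hv => by
    calc _ = ρ⁻¹ * (m.θ v * m.θ v) * ρ := by group
      _ = 1 := by rw [m.θ_sq hv]; group
  have h4 : ∀ u : G, IsConj u (ρ⁻¹ * u * ρ) := fun u => isConj_iff.2 ⟨ρ⁻¹, by rw [inv_inv]⟩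
  have h5 : m.bar (cj ρ d.Q) ≤ R := by
    refine (K3.le_or_le (Q := Sv true 136 (by norm_num)) fun y hy => ?_).resolve_right fun h => ?_
    · refine UlGx.key ((MV.bar_le_iff hM).2 hT hy) (UlTx.bar_sq d c.ρ_H y hy) (P := fun v => m.θ v ∈ cj ρ d.Q)
        (fun v hv hz => ?_) (fun v hv w hw p1 p2 f1 f2 => ?_) fun v hv hw hf => ?_
      · obtain ⟨x, hx, hx', rfl⟩ := MV.mem_bar.1 hy
        have h6 : m.θ v ∈ D := (c.f4 _ (MV.θ_mem hv)).2 (by
          rw [MV.cm_eq hb hv, hC _ (cm_lt _ _ hv)]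
          exact (z_E (hg ▸ MV.mem_bar.2 ⟨b, c.b_mem, hb, rfl⟩) (mt (m.π_eq_one b hb).1 c.b_not) hv).2 hz)
        have h7 := mul_mem (conj_mem_of_mem_normalizer (hn h6) hx) (inv_mem hx)
        rwa [MV.conj_θ hx' hv, mul_inv_cancel_right] at h7
      · obtain ⟨g, rfl⟩ := MV.fus hv hw (((h4 _).trans (UlGx.isConj d (mem_cj.1 p1) (h3 v hv) (h2 v hv p1 f1)
          (mem_cj.1 p2) (h3 w hw) (h2 w hw p2 f2))).trans (h4 _).symm)
        exact (tz_ac true g hv).symm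
      · obtain ⟨x, hx, hx', rfl⟩ := MV.mem_bar.1 hy
        exact UlTx.cm_mem d c.ρ_H hx hx' hv (h1 v hv hw hf)
    · have l : 136 < 2048 := by norm_num
      have h6 := h1 136 l (by unfold inW; decide +kernel) ((fx_E l).2 (by decide +kernel))
      have h7 := (d.es.map_conj ρ).center _ h6 fun q hq => (MV.comm_iff (hM hq) l).2 (h (MV.π_mem_bar hM hq))
      rw [MV.mem_H.1 c.ρ_H, mul_inv_cancel_right, MV.θ_eq_one l, MV.θ_eq_z l] at h7
      exact absurd h7 (by decide)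
  refine ⟨fun x hx => h5 (MV.π_mem_bar hM hx), ?_⟩
  have h6 := MV.card_eq hM
  have h7 : _ ≤ 32 := UlTx.nc_le d ρ
  have h8 := card_le_of_le h5
  rw [card_cj, d.card, cond_true] at h6
  rw [show Nat.card R = 16 from tR.card] at h8
  have e : m.bar (cj ρ d.Q) = R := eq_of_le_of_card_ge h5 (by rw [show Nat.card R = 16 from tR.card]; nlinarith)
  refine (eq_of_le_of_card_ge (H := cj ρ d.Q ⊓ m.V) (fun x hx => ?_) ?_).ge.trans inf_le_left
  · obtain ⟨v, hv, rfl⟩ := (m.mem_V x).1 hx.2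
    refine (MV.θ_mem_W hv).2 ((inW_iff hv).2 fun y hy => ?_)
    obtain ⟨x, hx1, hx', rfl⟩ := MV.mem_bar.1 (e.ge hy)
    exact UlTx.cm_mem d c.ρ_H hx1 hx' hv hx.1
  · rw [MV.card_W, MV.card_inf_V, cond_true]; nlinarith

end CfsgLib.M24R
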