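import Mathlib
import Cfsg.Agent.Lib.M24R.Le2
import Cfsg.Agent.Lib.M24R.CfZ
import Cfsg.Agent.Lib.M24R.Lam
import Cfsg.Agent.Lib.M24R.UlT
import Cfsg.Agent.Lib.M24R.UlG
import Cfsg.Agent.Lib.AG.Basic

/-!
# `Q` is strongly closed in `T` with respect to `C(z)` (plans/M24R.md)
-/

set_option autoImplicit false
set_option maxHeartbeats 400000
set_option Elab.async false

namespace CfsgLib.M24R

open Subgroup Cfsg CfsgLib.Tech CfsgLib.J4T CfsgLib.J4T.Rec CfsgLib.Golay CfsgLib.M24E CfsgLib.WD.Km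
open scoped Pointwise

variable {G : Type*} [Group G] [Finite G] {k : Bool} {m : MV G k}

namespace Agx

theorem ul (d : QD m) {D B : Subgroup G} {a ρ b : G} (c : Cfg m.V m.T m.H D B a ρ b) (hQ : d.Q ≤ D) :
    (∀ x ∈ cj ρ d.Q, m.π x ∈ Xk k) ∧ m.W ≤ cj ρ d.Q := by
  obtain ⟨hg, hC⟩ := c.good
  cases k
  · exact d.ul_todd c.ρ_H (cj_le_iff.2 fun x hx => c.DT (conj_mem_of_mem_normalizer c.ρ_norm (hQ hx)))
  · have e : m.bar B = E := hg
    exact d.ul_golay c e (e ▸ hC) hQ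

theorem step (d : QD m) {D : Subgroup G} (hD : D ≤ m.T)
    (syl : IsSylowIn 2 (m.T ⊓ normalizer (D : Set G)) (m.H ⊓ normalizer (D : Set G)))
    (ih : ∀ g ∈ m.H ⊓ normalizer (D : Set G), ∀ y ∈ m.T ⊓ normalizer (D : Set G), y ∉ D → g * y * g⁻¹ ∈ m.T →
      ∀ x ∈ D, x ∈ d.Q → g * x * g⁻¹ ∈ d.Q) {g : G} (hg : g ∈ m.H ⊓ normalizer (D : Set G)) :
    g ∈ normalizer ((D ⊓ d.Q : Subgroup G) : Set G) := by
  by_contra hg'
  set N := m.H ⊓ normalizer (D : Set G) with hN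
  have hΓ : ∀ g ∈ N, (∀ x ∈ D, x ∈ d.Q → g * x * g⁻¹ ∈ d.Q) → g ∈ N ⊓ normalizer ((D ⊓ d.Q : Subgroup G) : Set G) :=
    fun g hg h => mem_inf.2 ⟨hg, mem_normalizer_of_forall fun x hx =>
      mem_inf.2 ⟨conj_mem_of_mem_normalizer hg.2 hx.1, h x hx.1 hx.2⟩⟩
  have s : SE D (m.T ⊓ normalizer (D : Set G)) (N ⊓ normalizer ((D ⊓ d.Q : Subgroup G) : Set G)) N :=
    ⟨le_inf hD le_normalizer, syl, inf_le_right, inf_le_left, fun g hg y hy hy' h => hΓ g hg (ih g hg y hy hy' h.1)⟩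
  by_cases hV : m.V ≤ D
  · have h1 : g ∈ m.M := MV.wc (cj_le_iff.2 fun x hx => MV.T_le (hD (conj_mem_of_mem_normalizer hg.2 (hV hx))))
    exact hg' (hΓ g hg fun x _ hx => conj_mem_of_mem_normalizer (d.norm g h1 (MV.mem_H.1 hg.1)) hx).2
  obtain ⟨y, hy, hy', hyn⟩ := exists_mem_normalizer_of_lt (Q := D) (T := m.V ⊔ D)
    (MV.T_two.to_le (sup_le MV.V_le_T hD)) (lt_of_le_of_ne le_sup_right fun e => hV (le_sup_left.trans e.ge))
  have hy2 : y ∈ ((m.V ⊔ D : Subgroup G) : Set G) := hy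
  rw [coe_mul_of_right_le_normalizer_left _ _ (hD.trans MV.T_le)] at hy2
  obtain ⟨a, ha, u, hu, rfl⟩ := hy2
  have ha' : a ∉ D := fun h => hy' (mul_mem h hu)
  have han : a ∈ normalizer (D : Set G) := by simpa using mul_mem hyn (inv_mem (le_normalizer hu))
  obtain ⟨ρ, hρ, ho, hi, hρ'⟩ := s.exists_rho (mem_inf.2 ⟨MV.V_le_T ha, han⟩) ha' (MV.V_sq ha) hg fun h => hg' h.2
  obtain ⟨b, c⟩ := exists_cfg MV.T_two MV.V_le_T MV.T_le (fun v hv => MV.V_sq hv) hD s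
    (fun g hg h => hΓ g (mem_inf.2 ⟨hg, mem_normalizer_of_forall fun x hx => by rwa [h x hx, mul_inv_cancel_right]⟩)
      fun x hx hq => by rwa [h x hx, mul_inv_cancel_right]) ha ha' han hρ.1 hρ.2 ho hi hρ'
  have hQ : d.Q ≤ D := by
    rw [c.D_eq]
    exact le_inf d.le_T (d.lam (c.B_le.trans (hD.trans MV.T_le)) c.B_sq c.good.1 c.good.2)
  obtain ⟨h1, h2⟩ := ul d c hQ
  have h3 : a ∈ normalizer ((cj ρ d.Q : Subgroup G) : Set G) := mem_normalizer_of_forall fun x hx => by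
    have hx' : x ∈ m.M := MV.T_le (hD (by simpa [mul_assoc] using conj_mem_of_mem_normalizer hρ.2 (hQ (mem_cj.1 hx))))
    simpa using mul_mem (h2 (MV.comm_mem_W ha hx' (h1 x hx))) hx
  rw [← cj_normalizer, mem_cj] at h3
  have haN : a ∈ N := mem_inf.2 ⟨MV.V_le_H ha, han⟩
  have h4 := hΓ a haN fun x _ hx => conj_mem_of_mem_normalizer (d.T_norm (MV.V_le_T ha)) hx
  have h5 := hΓ _ (mul_mem (mul_mem (inv_mem hρ) haN) hρ) fun x _ hx => conj_mem_of_mem_normalizer h3 hx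
  refine hρ' ?_
  have e : ρ * a * ρ⁻¹ = a * (ρ⁻¹ * a * ρ) * a⁻¹ := by
    calc ρ * a * ρ⁻¹ = (a * ρ * a⁻¹)⁻¹ * a * (a * ρ * a⁻¹) := by rw [hi, inv_inv]
      _ = _ := by group
  rw [e]
  exact mul_mem (mul_mem h4 h5) (inv_mem h4)

theorem norm_iff {H : Subgroup G} {D : Subgroup H} {g : H} :
    g ∈ normalizer (D : Set H) ↔ (g : G) ∈ normalizer ((D.map H.subtype : Subgroup G) : Set G) := by
  refine ⟨fun h => mem_normalizer_of_forall ?_, fun h => mem_normalizer_of_forall fun x hx => ?_⟩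
  · rintro _ ⟨x, hx, rfl⟩
    exact ⟨_, conj_mem_of_mem_normalizer h hx, rfl⟩
  · obtain ⟨y, hy, e⟩ := conj_mem_of_mem_normalizer h (mem_map_of_mem H.subtype hx)
    rwa [← show y = g * x * g⁻¹ from Subtype.ext e]

theorem map_inf_norm {H A : Subgroup G} (hA : A ≤ H) (D : Subgroup H) :
    (A.subgroupOf H ⊓ normalizer (D : Set H)).map H.subtype = A ⊓ normalizer ((D.map H.subtype : Subgroup G) : Set G) := by
  ext x
  exact ⟨fun ⟨y, hy, e⟩ => e ▸ mem_inf.2 ⟨hy.1, norm_iff.1 hy.2⟩,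
    fun h => ⟨⟨x, hA h.1⟩, mem_inf.2 ⟨h.1, norm_iff.2 h.2⟩, rfl⟩⟩

end Agx


theorem QD.strong (d : QD m) : ∀ h ∈ m.H, ∀ x ∈ d.Q, h * x * h⁻¹ ∈ m.T → h * x * h⁻¹ ∈ d.Q := by
  intro h hh x hx ht
  have hT : IsSylowIn 2 m.T m.H := m.syl.of_le MV.T_le_H le_top
  have hx' : x ∈ m.H := MV.T_le_H (d.le_T hx)
  refine AG.ag_induction hT.toSylow (fun A g => ∀ x ∈ A, (x : G) ∈ d.Q → (g : G) * x * (g : G)⁻¹ ∈ d.Q)
    (fun A B g h1 h2 x hx => h2 x (h1 hx)) (fun A g h h1 h2 x hx hq => ?_) (fun A c _ hc x hx hq => ?_)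
    (fun D hD ih g hg => ?_) (zpowers ⟨x, hx'⟩) ⟨h, hh⟩ (zpowers_le.2 (d.le_T hx)) ?_ ⟨x, hx'⟩ (mem_zpowers _) hx
  · have h3 := h2 _ (conj_mem_cj.2 hx) (h1 x hx hq)
    simpa [mul_assoc] using h3
  · have h3 : (x : G) * c = c * x := congrArg Subtype.val (hc x hx)
    rwa [← h3, mul_inv_cancel_right]
  · have hDT : D.map m.H.subtype ≤ m.T := by rintro _ ⟨y, hy, rfl⟩; exact hD.le hy
    have syl : IsSylowIn 2 (m.T ⊓ normalizer ((D.map m.H.subtype : Subgroup G) : Set G))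
        (m.H ⊓ normalizer ((D.map m.H.subtype : Subgroup G) : Set G)) := by
      rw [← Agx.map_inf_norm MV.T_le_H, ← Agx.map_inf_norm le_rfl, subgroupOf_self, top_inf_eq]
      exact ⟨map_mono hD.syl.le, hD.syl.pgroup.map _, by
        rw [relIndex_map_map_of_injective _ _ (subtype_injective _)]; exact hD.syl.not_dvd⟩
    have h1 := Agx.step d hDT syl (g := g) (fun g hg y hy hy' ht => ?_) (mem_inf.2 ⟨g.2, Agx.norm_iff.1 hg⟩)
    · exact fun x hx hq => (conj_mem_of_mem_normalizer h1 (mem_inf.2 ⟨mem_map_of_mem _ hx, hq⟩)).2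
    rintro _ ⟨x, hx, rfl⟩ hq
    have hyH : y ∈ m.H := MV.T_le_H hy.1
    refine ih (D ⊔ zpowers ⟨y, hyH⟩) ⟨g, hg.1⟩ (sup_le hD.le (zpowers_le.2 hy.1)) ?_ ?_ x (mem_sup_left hx) hq
    · refine lt_of_le_of_ne (card_le_of_le le_sup_left) fun e => hy' ?_
      exact ⟨⟨y, hyH⟩, (eq_of_le_of_card_ge le_sup_left e.ge).ge (mem_sup_right (mem_zpowers _)), rfl⟩
    · rw [cj_sup, cj_zpowers, mem_normalizer_iff_cj.1 (Agx.norm_iff.2 hg.2)]
      exact sup_le hD.le (zpowers_le.2 ht)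
  · rw [cj_zpowers]
    exact zpowers_le.2 ht

end CfsgLib.M24R
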