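import Mathlib
import Cfsg.Agent.Lib.M24R.Ag
import Cfsg.Agent.Lib.M24R.Gold

/-!
# `Q` is normal in `C(z)` and self-centralising (plans/M24R.md)
-/

set_option autoImplicit false
set_option maxHeartbeats 400000
set_option Elab.async false

namespace CfsgLib.M24R

open Subgroup Cfsg CfsgLib.Tech CfsgLib.J4T CfsgLib.J4T.Rec CfsgLib.Golay CfsgLib.M24E CfsgLib.WD.Km
open CfsgLib.ExtraTwo CfsgLib.LargeExtra
open scoped Pointwise

variable {G : Type*} [Group G] [Finite G] {k : Bool} {m : MV G k}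

namespace PreQx

theorem norm (d : QD m) (hO : pPrimeCore 2 m.H = ⊥) : ∀ g : G, g * m.z = m.z * g → ∀ x ∈ d.Q, g * x * g⁻¹ ∈ d.Q := by
  have hQH : d.Q ≤ m.H := d.le_T.trans MV.T_le_H
  have hT : IsSylowIn 2 m.T m.H := m.syl.of_le MV.T_le_H le_top
  have hN : (d.Q.subgroupOf m.H).Normal := by
    refine gold (V := m.V.subgroupOf m.H) (T := m.T.subgroupOf m.H) (d.es.subgroupOf hQH)
      (fun h => Subtype.ext (MV.mem_H.1 h.2)) (IsSylowIn.of_sylow_top hT.toSylow) (fun x hx => d.le_T hx)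
      (fun h x hx ht => d.strong h h.2 x hx ht) hO
      (fun v hv => mem_normalizer_of_forall fun x hx => conj_mem_of_mem_normalizer (G := G) (d.T_norm (MV.V_le_T hv)) hx)
      (fun v hv => Subtype.ext (MV.V_sq hv))
      (fun v hv q hq => MV.sub_le (MV.comm_mem_W (m := m) (v := v) (x := q) hv (d.le hq) (d.π_mem q hq))) fun q hq h => ?_
    obtain ⟨v₁, h1, v₂, h2, h3⟩ := d.big (q := q) hq (congrArg Subtype.val h)
    refine ⟨⟨v₁, MV.V_le_H h1⟩, h1, ⟨v₂, MV.V_le_H h2⟩, h2, fun v hv => ?_⟩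
    have h4 := h3 v (by
      simp only [List.mem_cons, List.not_mem_nil, or_false] at hv ⊢
      rcases hv with rfl | rfl | rfl
      exacts [Or.inl rfl, Or.inr (Or.inl rfl), Or.inr (Or.inr rfl)])
    exact ⟨fun e => h4.1 (congrArg Subtype.val e), fun e => h4.2 (congrArg Subtype.val e)⟩
  exact fun g hg x hx => hN.conj_mem ⟨x, hQH hx⟩ hx ⟨g, MV.mem_H.2 hg⟩

omit [Finite G] in
theorem cent_T (d : QD m) {x : G} (hx : x ∈ m.T) (h : ∀ q ∈ d.Q, q * x = x * q) : x = 1 ∨ x = m.z := by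
  have h1 : m.π x = 1 := eq_one_of_fx_W (MV.mem_T.1 hx).2 fun v hv hw =>
    (MV.comm_iff (MV.T_le hx) hv).1 (h _ ((d.inf v hv).2 hw)).symm
  obtain ⟨v, hv, rfl⟩ := (m.mem_V x).1 ((m.π_eq_one x (MV.T_le hx)).1 h1)
  refine (fx_Xk hv fun y hy => ?_).imp (MV.θ_eq_one hv).2 (MV.θ_eq_z hv).2
  obtain ⟨q, hq, rfl⟩ := d.π_surj y hy
  exact (MV.comm_iff (d.le hq) hv).1 (h q hq)

end PreQx


theorem QD.pre (d : QD m) (hO : pPrimeCore 2 m.H = ⊥) : Pre d.Q m.z := by
  refine ⟨d.es, fun g hg => ?_, PreQx.norm d hO⟩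
  have hT : IsSylowIn 2 m.T m.H := m.syl.of_le MV.T_le_H le_top
  have hC : centralizer (d.Q : Set G) ≤ m.H := fun c hc => MV.mem_H.2 (hc _ d.es.mem).symm
  have hn : m.H ≤ normalizer ((centralizer (d.Q : Set G) : Subgroup G) : Set G) := fun h hh =>
    mem_normalizer_of_forall fun c hc q hq => by
      have h1 := hc _ (PreQx.norm d hO h⁻¹ (MV.mem_H.1 (inv_mem hh)) q hq)
      rw [inv_inv] at h1
      calc q * (h * c * h⁻¹) = h * (h⁻¹ * q * h * c) * h⁻¹ := by group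
        _ = h * c * h⁻¹ * q := by rw [h1]; group
  have hs := hT.inf_of_le_normalizer hn
  rw [inf_eq_right.2 hC] at hs
  have h1 := AG.sup_opr_of_central_sylow hs fun c hc x hx => by
    rcases PreQx.cent_T d hx.1 hx.2 with rfl | rfl
    · simp
    · exact (MV.mem_H.1 (hC hc)).symm
  have h2 : AG.opr 2 (centralizer (d.Q : Set G)) = ⊥ := le_bot_iff.1
    ((PComp.opOf_le_opOf_of_le_normalizer hC hn).trans (by rw [PComp.opOf_def, hO, Subgroup.map_bot]))
  rw [h2, sup_bot_eq] at h1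
  exact PreQx.cent_T d (h1.ge (show g ∈ centralizer (d.Q : Set G) from hg)).1 hg

end CfsgLib.M24R
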