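import Mathlib
import Cfsg.Agent.Lib.M24R.SxA
import Cfsg.Agent.S2649

/-!
# the extraspecial group, code module (plans/M24R.md)
-/

set_option autoImplicit false
set_option Elab.async false

namespace CfsgLib.M24R

open Subgroup Cfsg CfsgLib.Tech CfsgLib.J4T CfsgLib.J4T.Rec CfsgLib.Golay CfsgLib.M24E CfsgLib.WD.Km
open scoped Pointwise

variable {G : Type*} [Group G] [Finite G]

namespace QGx

/-- the word of `s` or of its complement vanishing at the extra point -/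
def nw (s : Finset GolayPt) : GolayPt → ZMod 2 := fun p => ind s p + ind s none

theorem nw_sd (s t : Finset GolayPt) : nw (symmDiff s t) = nw s + nw t := by
  funext p
  simp only [nw, ind_symmDiff, Pi.add_apply]
  abel

theorem nw_kr {s : Finset GolayPt} (h : Kr true s) : nw s = 0 := by
  funext p
  rcases h with rfl | rfl <;> simp [nw, ind]
  rfl

theorem two_add {u w : GolayPt → ZMod 2} (h : u + w = 0) : u = w := by
  funext p
  have := congrFun h p
  simp only [Pi.add_apply, Pi.zero_apply] at this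
  revert this
  generalize u p = a
  generalize w p = b
  revert a b
  decide

theorem nw_eq {s t : Finset GolayPt} (h : Kr true (symmDiff s t)) : nw s = nw t :=
  two_add (by rw [← nw_sd, nw_kr h])

theorem kr_of_nw {s : Finset GolayPt} (h : nw s = 0) : Kr true s := by
  by_cases h0 : none ∈ s
  · refine Or.inr (Finset.eq_univ_of_forall fun p => by_contra fun hp => ?_)
    have := congrFun h p
    simp [nw, ind, h0, hp] at this
  · refine Or.inl (Finset.eq_empty_of_forall_notMem fun p hp => ?_)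
    have := congrFun h p
    simp [nw, ind, h0, hp] at this

theorem nw_mem {s : Finset GolayPt} (h : s ∈ codeSets) : nw s ∈ golayCode := by
  have h1 := mem_codeSets_iff.1 univ_mem_codeSets
  have e : nw s = ind s + ind s none • ind (Finset.univ : Finset GolayPt) := by
    funext p
    rw [Pi.add_apply, Pi.smul_apply, show ind (Finset.univ : Finset GolayPt) p = 1 by simp [ind], smul_eq_mul, mul_one, nw]
  rw [e]
  exact golayCode.add_mem (mem_codeSets_iff.1 h) (golayCode.smul_mem _ h1)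

theorem nw_none (s : Finset GolayPt) : nw s none = 0 := by
  show ind s none + ind s none = 0
  generalize ind s none = a
  revert a
  decide

theorem nw_smul {g : P24} (hg : g none = none) (s : Finset GolayPt) : nw (g • s) = nw s ∘ ⇑g⁻¹ := by
  funext p
  have h0 : g⁻¹ none = none := by rw [← hg, inv_app, hg]
  simp only [nw, ind, Function.comp, ← Finset.inv_smul_mem_iff, Equiv.Perm.smul_def, h0]

/-- the word of the vector `v` -/
def wd (v : ℕ) : GolayPt → ZMod 2 := nw (ofMask (vec true v))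

theorem wd_xor {v w : ℕ} (hv : v < 2048) (hw : w < 2048) : wd (v ^^^ w) = wd v + wd w := by
  rw [wd, vec_xor hv hw, ofMask_xor, nw_sd]; rfl

theorem wd_surj {w : GolayPt → ZMod 2} (h : w ∈ golayCode) (h0 : w none = 0) : ∃ v < 2048, wd v = w := by
  obtain ⟨n, hn, e⟩ := exists_mask (support₂ w)
  refine ⟨_, crd_lt true n, (nw_eq (crd_spec hn (show ofMask n ∈ codeSets from e ▸ support₂_mem_codeSets.2 h))).trans ?_⟩
  funext p
  rw [e, nw, ind_support₂, h0, add_zero]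

theorem wd_ac {g : M24} (hg : (g : P24) none = none) {v : ℕ} (hv : v < 2048) :
    wd (ac true g v) = wd v ∘ ⇑(g : P24)⁻¹ := (nw_eq (ac_spec g hv)).trans (nw_smul hg _)

/-- the extension of `M23` splits -/
theorem exists_K (m : MV G true) : ∃ K : Subgroup G, K ≤ m.M ∧ (∀ x ∈ K, m.π x = 1 → x = 1) ∧
    ∀ g : M24, (g : P24) none = none → ∃ x ∈ K, m.π x = g := by
  classical
  let Y : Subgroup M24 := Spor.M23.subgroupOf M24
  have hY : ∀ g : M24, g ∈ Y ↔ (g : P24) none = none := fun g => by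
    rw [mem_subgroupOf, Spor.M23, mem_inf, and_iff_right g.2]; rfl
  let f : m.pre Y →* Spor.M23 := (M24.subtype.comp (m.πh.comp (inclusion MV.pre_le))).codRestrict _
    fun x => (MV.mem_pre.1 x.2).2
  have hf : ∀ x, (f x : P24) = m.π x := fun _ => rfl
  have fs : Function.Surjective f := fun g => by
    obtain ⟨x, hx, e⟩ := m.π_surj ⟨g, (mem_inf.1 g.2).1⟩
    exact ⟨⟨x, MV.mem_pre.2 ⟨hx, e ▸ g.2⟩⟩, Subtype.ext (by rw [hf]; exact congrArg Subtype.val e)⟩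
  have hk : ∀ x, x ∈ f.ker ↔ m.π x = 1 := fun x => by
    rw [MonoidHom.mem_ker, Subtype.ext_iff, hf, Subtype.ext_iff]; rfl
  have hc : ∀ n : f.ker, ∃ v < 2048, ((n : m.pre Y) : G) = m.θ v := fun n =>
    (m.mem_V _).1 ((m.π_eq_one _ (MV.pre_le n.1.2)).1 ((hk _).1 n.2))
  choose co c1 c2 using hc
  have c3 : ∀ (n : f.ker) v, v < 2048 → ((n : m.pre Y) : G) = m.θ v → co n = v := fun n v hv e =>
    (MV.θ_eq_iff (c1 n) hv).1 ((c2 n).symm.trans e)
  let ψ : Additive f.ker →+ (GolayPt → ZMod 2) := AddMonoidHom.mk' (fun n => wd (co n.toMul)) fun a b => by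
    rw [← wd_xor (c1 _) (c1 _), c3 _ _ (x_lt (c1 a.toMul) (c1 b.toMul))]
    rw [m.θ_xor _ (c1 _) _ (c1 _), ← c2, ← c2]; rfl
  have hψ : ∀ n, ψ (Additive.ofMul n) = wd (co n) := fun _ => rfl
  obtain ⟨H, h1, h2⟩ := Cfsg.Agent.S2649.result f.ker (QuotientGroup.quotientKerEquivOfSurjective f fs) ψ
    ((injective_iff_map_eq_zero ψ).2 fun n e => by
      have := kr_vec (c1 n.toMul) (kr_of_nw e)
      exact Additive.toMul.injective (Subtype.ext (Subtype.ext (by rw [c2, this, m.θ_zero]; rfl))))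
    (fun w => ⟨fun ⟨n, e⟩ => e ▸ ⟨nw_mem (vec_dm (k := true) (c1 _)), nw_none _⟩, fun ⟨h, h0⟩ => by
      obtain ⟨v, hv, e⟩ := wd_surj h h0
      refine ⟨Additive.ofMul ⟨⟨m.θ v, MV.V_le_pre (MV.θ_mem hv)⟩, (hk _).2 (MV.π_θ hv)⟩, ?_⟩
      rw [hψ, c3 _ v hv rfl, e]⟩)
    fun g n => by
      rw [hψ, hψ, c3 _ _ (ac_lt true (m.π g) (co n)) (by rw [← m.conj _ (MV.pre_le g.2) _ (c1 n), ← c2]; rfl),
        wd_ac ((hY _).1 (MV.mem_pre.1 g.2).2) (c1 n)]
      rfl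
  refine ⟨H.map (m.pre Y).subtype, (map_subtype_le _).trans MV.pre_le, ?_, fun g hg => ?_⟩
  · rintro _ ⟨x, hx, rfl⟩ e
    have : x ∈ H ⊓ f.ker := mem_inf.2 ⟨hx, (hk x).2 e⟩
    rw [h1, mem_bot] at this
    rw [this]; rfl
  · obtain ⟨x, hx, e⟩ := m.π_surj g
    have : (⟨x, MV.mem_pre.2 ⟨hx, (hY _).2 (e ▸ hg)⟩⟩ : m.pre Y) ∈ H ⊔ f.ker := h2 ▸ mem_top _
    obtain ⟨a, ha, b, hb, e1⟩ := mem_sup_of_normal_right.1 this
    refine ⟨a, ⟨a, ha, rfl⟩, ?_⟩
    rw [← e, ← show (a : G) * b = x from congrArg Subtype.val e1, m.π_mul _ (MV.pre_le a.2) _ (MV.pre_le b.2),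
      (hk b).1 hb, mul_one]

/-- pairs of elements of order 3 fixing the points 23 and `t` -/
def pL : List (ℕ × ℕ × ℕ) := [(23, 0xbc46c0cdc785a8d5a935798a041242, 0xbbc6d8da1391d945993509544409c0),
  (11, 0xbc46c0cdc785a8d5a935798a041242, 0xbbc6d8da1391d945993509544409c0),
  (10, 0xbbd8ea063244ead228f61996548a00, 0xba28918632b1e6e5aaaf608a468206),
  (2, 0xbbad41c4ef45589595b0928c408a60, 0xbc6540a21671d89029b5798ab98864),
  (4, 0xbda47731138c2955a86f680a409922, 0xbd989a550d89c322ae6f1994470a00),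
  (5, 0xb9dc19b24d825f122ab6418a0a086b, 0xbc6c19baaf69e095990c908a4a2860),
  (6, 0xbb2ad3da0ea45f2515030996448a60, 0xbb2b0a583389dd25a869698a2401e4),
  (0, 0xba0e97c4306d275589c3628a4b1a40, 0xba6cc7865069e632aaae4188ba0a20)]

/-- the test for one element -/
noncomputable def gd (t q : ℕ) : Bool := and (and (inM q) (and (Nat.beq (ap q 23) 23) (Nat.beq (ap q t) t)))
  (allLT 16 fun e => frc (uE e) fun e => powId (fun x => ap e (ap q x)) 3)

/-- the vectors with norm in `W` -/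
noncomputable def nM (q : ℕ) : ℕ := frc (mat true (ap q)) fun A => kerM (mm (wK true) (Nat.xor (Nat.xor mI A) (mm A A)))

theorem sm_nM {q : ℕ} (h : isM q = true) :
    SM (nM q) fun v => inW true (v ^^^ ac true (mq q) v ^^^ ac true (mq q) (ac true (mq q) v)) := by
  rw [nM, frc_eq]
  refine (sm_ker _).congr fun v hv => ?_
  have a := am_mat true (rm h)
  rw [mv_mm _ _ (lt12 hv), ← ac_mul _ _ _ hv, (a.mul a) v hv, a v hv]
  show mv _ (mv (mI ^^^ _ ^^^ _) v) = 0 ↔ _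
  rw [col_mv_xor _ _ _ (lt12 hv), col_mv_xor _ _ _ (lt12 hv), mv_mI (lt12 hv), inW]

/-- `p` normalises `R`, fixes the points `none` and `t` and is fixed point free on `R` -/
def Gd (t : GolayPt) (p : M24) : Prop := p ∈ normalizer (R : Set M24) ∧ (p : P24) none = none ∧ (p : P24) t = t ∧
  ∀ e ∈ R, e * (p * e * p⁻¹) * (p * (p * e * p⁻¹) * p⁻¹) = 1

theorem gd_spec {t : GolayPt} {q : ℕ} (h : gd (ix t) q = true) : isM q = true ∧ Gd t (mq q) := by
  simp only [gd, Bool.and_eq_true, allLT_iff, frc_eq, beq_iff'] at h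
  obtain ⟨⟨h1, h2, h3⟩, h4⟩ := h
  have r := rm (inM_isM h1)
  have k : ∀ e ∈ R, (e * mq q) ^ 3 = 1 := fun e he => by
    obtain ⟨x, hx, rfl⟩ := (tR.mem e).1 he
    exact (((tR.rm hx).mul r).powId_iff 3).1 (h4 x hx)
  refine ⟨inM_isM h1, inM_spec h1, ix_inj.1 ((r none).symm.trans h2), ix_inj.1 ((r t).symm.trans h3), fun e he => ?_⟩
  calc _ = (e * mq q) ^ 3 * ((1 * mq q) ^ 3)⁻¹ := by simp only [pow_succ, pow_zero]; group
    _ = 1 := by rw [k e he, k 1 (one_mem _), inv_one, one_mul]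

theorem exists_pair {t : GolayPt} (ht : t ∈ ofMask o0) : ∃ p₁ p₂, Gd t p₁ ∧ Gd t p₂ ∧ ∀ v < 2048,
    inW true (v ^^^ ac true p₁ v ^^^ ac true p₁ (ac true p₁ v)) →
      inW true (v ^^^ ac true p₂ v ^^^ ac true p₂ (ac true p₂ v)) → inW true v := by
  have h : allL pL (fun a => and (and (gd a.1 a.2.1) (gd a.1 a.2.2))
      (leM (Nat.land (nM a.2.1) (nM a.2.2)) (kerM (wK true)))) = true := by decide +kernel
  obtain ⟨a, ha, e⟩ : ∃ a ∈ pL, a.1 = ix t := by clear h; revert t; decide +kernel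
  have := (allL_iff _ _).1 h a ha
  simp only [Bool.and_eq_true, e] at this
  obtain ⟨m1, g1⟩ := gd_spec this.1.1
  obtain ⟨m2, g2⟩ := gd_spec this.1.2
  exact ⟨_, _, g1, g2, fun v hv h1 h2 => (((sm_nM m1).and (sm_nM m2)).le_iff (sm_W true)).1 this.2 v hv ⟨h1, h2⟩⟩

theorem none_o0 : none ∈ ofMask o0 := by decide +kernel

theorem W_norm {k : Bool} {m : MV G k} {g : G} (hg : g ∈ m.M) (h : m.π g ∈ St k) : g ∈ normalizer (m.W : Set G) :=
  mem_normalizer_of_forall fun x hx => by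
    obtain ⟨v, hv, hw, rfl⟩ := MV.mem_W.1 hx
    rw [m.conj g hg v hv]
    exact (MV.θ_mem_W (ac_lt _ _ _)).2 (inW_ac h hv hw)

/-- a subgroup normalised by the stabiliser of the extra point is normalised by `M ⊓ H` -/
theorem norm_all {m : MV G true} {Q : Subgroup G} (le : Q ≤ m.M) (π_mem : ∀ x ∈ Q, m.π x ∈ R)
    (π_surj : ∀ g ∈ R, ∃ x ∈ Q, m.π x = g) (inf : ∀ v < 2048, (m.θ v ∈ Q ↔ inW true v))
    (hL : ∀ x ∈ m.M, m.π x ∈ normalizer (R : Set M24) → (m.π x : P24) none = none → x ∈ normalizer (Q : Set G))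
    {g : G} (hg : g ∈ m.M) (h : m.π g ∈ St true) : g ∈ normalizer (Q : Set G) := by
  have hR : m.π g ∈ normalizer (R : Set M24) := (st_iff true).1 h
  obtain ⟨p₁, p₂, g1, g2, hk⟩ := exists_pair (t := (m.π g : P24) none) (by
    rw [← normR.1 hR]; exact (smul_mem_smul' _).2 none_o0)
  refine mem_normalizer_of_forall fun q hq => ?_
  have xM : g * q * g⁻¹ ∈ m.M := mul_mem (mul_mem hg (le hq)) (inv_mem hg)
  have xR : m.π (g * q * g⁻¹) ∈ R := by
    rw [MV.π_conj hg (le hq)]; exact conj_mem_of_mem_normalizer hR (π_mem q hq)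
  obtain ⟨r, hr, e⟩ := π_surj _ xR
  obtain ⟨v, hv, e1⟩ := MV.exists_θ_of_π_eq xM (le hr) e.symm
  have hV : ∀ u < 2048, m.θ u ∈ normalizer (Q : Set G) := fun u hu =>
    hL _ (MV.θ_mem_M hu) (by rw [MV.π_θ hu]; exact one_mem _) (by rw [MV.π_θ hu]; rfl)
  have key : ∀ p, Gd ((m.π g : P24) none) p → inW true (v ^^^ ac true p v ^^^ ac true p (ac true p v)) := by
    rintro p ⟨p1, p2, p3, p4⟩
    obtain ⟨a, ha, rfl⟩ := m.π_surj p
    have aN := hL a ha p1 p2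
    have bM : g⁻¹ * a * g ∈ m.M := mul_mem (mul_mem (inv_mem hg) ha) hg
    have bπ : m.π (g⁻¹ * a * g) = (m.π g)⁻¹ * m.π a * m.π g := by
      simpa only [inv_inv, MV.π_inv hg] using MV.π_conj (inv_mem hg) ha
    have bN := hL _ bM (by rw [bπ]; exact mul_mem (mul_mem (inv_mem hR) p1) hR) (by
      rw [bπ]; show (m.π g : P24)⁻¹ ((m.π a : P24) ((m.π g : P24) none)) = none
      rw [p3, inv_app])
    set x := g * q * g⁻¹ with hx
    have x2 : a * x * a⁻¹ ∈ m.M := mul_mem (mul_mem ha xM) (inv_mem ha)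
    have x3 : a * (a * x * a⁻¹) * a⁻¹ ∈ m.M := mul_mem (mul_mem ha x2) (inv_mem ha)
    have yM := mul_mem (mul_mem xM x2) x3
    obtain ⟨u, hu, e2⟩ := (m.mem_V _).1 ((m.π_eq_one _ yM).1 (by
      rw [m.π_mul _ (mul_mem xM x2) _ x3, m.π_mul _ xM _ x2, MV.π_conj ha x2, MV.π_conj ha xM]; exact p4 _ xR))
    have y1 : g⁻¹ * m.θ u * g⁻¹⁻¹ ∈ Q := by
      have c1 := conj_mem_of_mem_normalizer bN hq
      have := mul_mem (mul_mem hq c1) (conj_mem_of_mem_normalizer bN c1)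
      convert this using 1
      rw [← e2, hx]; group
    rw [m.conj _ (inv_mem hg) u hu, inf _ (ac_lt _ _ _)] at y1
    have y2 := inW_ac h (ac_lt _ _ _) y1
    rw [MV.π_inv hg, ac_ac_inv _ _ hu, ← inf u hu, ← e2, e1] at y2
    have l1 := ac_lt true (m.π a) v
    have l2 := ac_lt true (m.π a) (ac true (m.π a) v)
    have r2 := conj_mem_of_mem_normalizer aN hr
    have r3 := conj_mem_of_mem_normalizer aN r2
    have n2 := hV _ l1
    have n3 := hV _ l2
    rw [← inf _ (x_lt (x_lt hv l1) l2), m.θ_xor _ (x_lt hv l1) _ l2, m.θ_xor _ hv _ l1]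
    have := mul_mem y2 (inv_mem (mul_mem (mul_mem (conj_mem_of_mem_normalizer (inv_mem (mul_mem n2 n3)) hr)
      (conj_mem_of_mem_normalizer (inv_mem n3) r2)) r3))
    convert this using 1
    rw [← m.conj a ha _ l1, ← m.conj a ha v hv]; group
  rw [e1]
  exact mul_mem ((inf v hv).2 (hk v hv (key _ g1) (key _ g2))) hr

end QGx

open QGx in
theorem exists_QD_golay (m : MV G true) : Nonempty (QD m) := by
  obtain ⟨K, KM, K1, Ks⟩ := exists_K m
  obtain ⟨p, pM, pπ, p3⟩ := m.exists_lift3 (pp_three true)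
  have hN : K ⊓ m.pre R ≤ normalizer (m.W : Set G) := fun x hx =>
    W_norm (KM (mem_inf.1 hx).1) (S_le_St true (R_le (MV.mem_pre.1 (mem_inf.1 hx).2).2))
  have hQ : ∀ x, x ∈ m.W ⊔ K ⊓ m.pre R ↔ ∃ w < 2048, inW true w ∧ ∃ y ∈ K, m.π y ∈ R ∧ x = m.θ w * y := fun x => by
    rw [Coprime.mem_sup_iff_of_le_normalizer hN]
    constructor
    · rintro ⟨_, ⟨w, hw, h1, rfl⟩, y, hy, rfl⟩
      exact ⟨w, hw, h1, y, (mem_inf.1 hy).1, (MV.mem_pre.1 (mem_inf.1 hy).2).2, rfl⟩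
    · rintro ⟨w, hw, h1, y, hy, h2, rfl⟩
      exact ⟨_, ⟨w, hw, h1, rfl⟩, y, mem_inf.2 ⟨hy, MV.mem_pre.2 ⟨KM hy, h2⟩⟩, rfl⟩
  have le : m.W ⊔ K ⊓ m.pre R ≤ m.M := sup_le (MV.sub_le.trans MV.V_le) (inf_le_left.trans KM)
  have π_mem : ∀ x ∈ m.W ⊔ K ⊓ m.pre R, m.π x ∈ R := fun x hx => by
    obtain ⟨w, hw, -, y, hy, h2, rfl⟩ := (hQ x).1 hx
    rwa [MV.π_θ_mul hw (KM hy)]
  have π_surj : ∀ g ∈ R, ∃ x ∈ m.W ⊔ K ⊓ m.pre R, m.π x = g := fun g hg => by
    obtain ⟨y, hy, rfl⟩ := Ks g (mem_R.1 hg _ none_o0)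
    exact ⟨y, mem_sup_right (mem_inf.2 ⟨hy, MV.mem_pre.2 ⟨KM hy, hg⟩⟩), rfl⟩
  have inf : ∀ v < 2048, (m.θ v ∈ m.W ⊔ K ⊓ m.pre R ↔ inW true v) := fun v hv => by
    refine ⟨fun h => ?_, fun h => mem_sup_left ((MV.θ_mem_W hv).2 h)⟩
    obtain ⟨w, hw, h1, y, hy, -, e⟩ := (hQ _).1 h
    rw [K1 y hy (by rw [← MV.π_θ_mul hw (KM hy), ← e, MV.π_θ hv]), mul_one, MV.θ_eq_iff hv hw] at e
    rwa [e]
  refine ⟨⟨m.W ⊔ K ⊓ m.pre R, p, le, π_mem, π_surj, inf, fun x hx => ?_, fun g hg h =>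
    norm_all le π_mem π_surj inf (fun x hx h1 h2 => ?_) hg ((MV.mem_H_iff hg).1 (MV.mem_H.2 h)), pM, pπ, p3⟩⟩
  · obtain ⟨w, hw, h1, y, hy, h2, rfl⟩ := (hQ x).1 hx
    rw [MV.θ_mul_sq (KM hy) hw, K1 _ (mul_mem hy hy) (by rw [m.π_mul _ (KM hy) _ (KM hy)]; exact tR.sq _ h2), mul_one]
    rcases (inW_iff hw).1 h1 _ h2 with e | e <;> rw [e]
    exacts [Or.inl m.θ_zero, Or.inr rfl]
  · obtain ⟨y, hy, e⟩ := Ks _ h2
    obtain ⟨v, hv, rfl⟩ := MV.exists_θ_of_π_eq hx (KM hy) e.symm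
    refine mul_mem (mem_normalizer_of_forall fun q hq => ?_) (mem_normalizer_of_forall fun q hq => ?_)
    · rw [MV.conj_θ (le hq) hv]
      exact mul_mem ((inf _ (cm_lt _ _ hv)).2 (cm_inW (k := true) (π_mem q hq) hv)) hq
    · obtain ⟨w, hw, h3, r, hr, h4, rfl⟩ := (hQ q).1 hq
      rw [← e] at h1
      refine (hQ _).2 ⟨_, ac_lt _ _ _, inW_ac ((st_iff true).2 h1) hw h3, y * r * y⁻¹,
        mul_mem (mul_mem hy hr) (inv_mem hy), ?_, ?_⟩
      · rw [MV.π_conj (KM hy) (KM hr)]; exact conj_mem_of_mem_normalizer h1 h4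
      · rw [← m.conj y (KM hy) w hw]; group

end CfsgLib.M24R
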