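import Mathlib
import Cfsg.Agent.Lib.M24R.SxB

/-!
# the extraspecial group, cocode module (plans/M24R.md)
-/

set_option autoImplicit false
set_option Elab.async false

namespace CfsgLib.M24R

open Subgroup Cfsg CfsgLib.Tech CfsgLib.J4T CfsgLib.J4T.Rec CfsgLib.Golay CfsgLib.M24E CfsgLib.WD.Km
open scoped Pointwise

variable {G : Type*} [Group G] [Finite G]

namespace QTx

omit [Finite G] in
theorem exists_Q0 {P : Subgroup G} [hP : P.Normal] (sq : ∀ x ∈ P, x * x = 1) {p : G} (p3 : p ^ 3 = 1)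
    (hp : ∀ g, g * p * g⁻¹ * p⁻¹ ∈ P ∨ g * p * g⁻¹ * p ∈ P) : ∃ Q : Subgroup G, Q.Normal ∧ Q ≤ P ∧
      (∀ x ∈ P, x * (p * x * p⁻¹) ∈ Q) ∧ ∀ x ∈ Q, x * (p * x * p⁻¹) = 1 → x = 1 := by
  have iv : ∀ x ∈ P, x⁻¹ = x := fun x hx => inv_eq_of_mul_eq_one_right (sq x hx)
  have c : ∀ x ∈ P, ∀ y ∈ P, x * y = y * x := fun x hx y hy => by
    rw [← iv _ (mul_mem hx hy), mul_inv_rev, iv x hx, iv y hy]
  have e3 : ∀ x, p * (p * (p * x * p⁻¹) * p⁻¹) * p⁻¹ = x := fun x => by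
    rw [show p * (p * (p * x * p⁻¹) * p⁻¹) * p⁻¹ = p ^ 3 * x * (p ^ 3)⁻¹ by rw [pow_three]; group, p3]; group
  refine ⟨⟨⟨⟨{x | ∃ y ∈ P, x = y * (p * y * p⁻¹)}, ?_⟩, 1, one_mem _, by simp⟩, ?_⟩, ⟨?_⟩, ?_,
    fun x hx => ⟨x, hx, rfl⟩, ?_⟩
  · rintro _ _ ⟨a, ha, rfl⟩ ⟨b, hb, rfl⟩
    exact ⟨_, mul_mem ha hb, by
      rw [mul_assoc a, ← mul_assoc _ b, c _ (hP.conj_mem a ha p) b hb, ← conj_mul]; group⟩
  · rintro _ ⟨a, ha, rfl⟩
    exact ⟨a, ha, iv _ (mul_mem ha (hP.conj_mem a ha p))⟩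
  · rintro _ ⟨a, ha, rfl⟩ g
    have hb := hP.conj_mem a ha g
    rcases hp g with h | h
    · exact ⟨_, hb, by
        calc _ = g * a * g⁻¹ * (g * p * g⁻¹ * p⁻¹ * (p * (g * a * g⁻¹) * p⁻¹) * (g * p * g⁻¹ * p⁻¹)⁻¹) := by group
          _ = _ := by rw [c _ h _ (hP.conj_mem _ hb p), mul_inv_cancel_right]⟩
    · have hc := hP.conj_mem _ hb p⁻¹
      exact ⟨_, hc, by
        calc _ = g * a * g⁻¹ * (g * p * g⁻¹ * p * (p⁻¹ * (g * a * g⁻¹) * p⁻¹⁻¹) * (g * p * g⁻¹ * p)⁻¹) := by group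
          _ = _ := by rw [c _ h _ hc, mul_inv_cancel_right, c _ hb _ hc]; group⟩
  · rintro _ ⟨a, ha, rfl⟩
    exact mul_mem ha (hP.conj_mem a ha p)
  · rintro _ ⟨a, ha, rfl⟩ h
    rw [← conj_mul, mul_assoc a, ← mul_assoc (p * a * p⁻¹), sq _ (hP.conj_mem a ha p), one_mul,
      ← inv_eq_iff_mul_eq_one, iv a ha] at h
    rw [show p * a * p⁻¹ = a by rw [h, e3, ← h], sq a ha]

omit [Finite G] in
theorem exists_Q {H P W : Subgroup G} (hP : H ≤ normalizer (P : Set G)) (hW : H ≤ normalizer (W : Set G)) (PH : P ≤ H)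
    (WP : W ≤ P) (sq : ∀ x ∈ P, x * x ∈ W) {p : G} (pH : p ∈ H) (p3 : p ^ 3 = 1)
    (hp : ∀ g ∈ H, g * p * g⁻¹ * p⁻¹ ∈ P ∨ g * p * g⁻¹ * p ∈ P) : ∃ Q : Subgroup G, H ≤ normalizer (Q : Set G) ∧
      Q ≤ P ∧ W ≤ Q ∧ (∀ x ∈ P, x * (p * x * p⁻¹) ∈ Q) ∧ ∀ x ∈ Q, x * (p * x * p⁻¹) ∈ W → x ∈ W := by
  have := normal_subgroupOf_iff_le_normalizer PH |>.2 hP
  have := normal_subgroupOf_iff_le_normalizer (WP.trans PH) |>.2 hW
  let f := QuotientGroup.mk' (W.subgroupOf H)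
  have hf : ∀ x : H, f x = 1 ↔ (x : G) ∈ W := fun x => QuotientGroup.eq_one_iff x
  have := Normal.map ‹(P.subgroupOf H).Normal› f (QuotientGroup.mk'_surjective _)
  obtain ⟨Q, h1, h2, h3, h4⟩ := exists_Q0 (P := (P.subgroupOf H).map f) (p := f ⟨p, pH⟩)
    (by rintro _ ⟨x, hx, rfl⟩; rw [← map_mul, hf]; exact sq x hx)
    (by rw [← map_pow, show (⟨p, pH⟩ : H) ^ 3 = 1 from Subtype.ext p3, map_one]) fun g => by
      obtain ⟨g, rfl⟩ := QuotientGroup.mk'_surjective _ g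
      exact (hp g g.2).imp (fun h => ⟨g * ⟨p, pH⟩ * g⁻¹ * ⟨p, pH⟩⁻¹, h, rfl⟩) fun h => ⟨g * ⟨p, pH⟩ * g⁻¹ * ⟨p, pH⟩, h, rfl⟩
  have := h1.comap f
  refine ⟨(Q.comap f).map H.subtype, ?_, ?_, fun x hx => ⟨⟨x, PH (WP hx)⟩, ?_, rfl⟩,
    fun x hx => ⟨⟨x, PH hx⟩ * (⟨p, pH⟩ * ⟨x, PH hx⟩ * ⟨p, pH⟩⁻¹), h3 _ ⟨⟨x, PH hx⟩, hx, rfl⟩, rfl⟩, ?_⟩
  · exact fun g hg => le_normalizer_map H.subtype ⟨⟨g, hg⟩, by rw [normalizer_eq_top]; trivial, rfl⟩
  · rintro _ ⟨x, hx, rfl⟩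
    obtain ⟨y, hy, e⟩ := h2 hx
    exact (mul_mem_cancel_left (inv_mem hy)).1 (WP ((hf (y⁻¹ * x)).1 (by rw [map_mul, map_inv, e, inv_mul_cancel])))
  · exact (mem_comap.2 ((hf ⟨x, PH (WP hx)⟩).2 hx ▸ one_mem Q) :)
  · rintro _ ⟨x, hx, rfl⟩ h
    exact (hf x).1 (h4 _ hx ((hf (x * ((⟨p, pH⟩ : H) * x * (⟨p, pH⟩ : H)⁻¹))).2 h))

theorem memA {x : ℕ} (hx : x < 64) : mq (eE x) ∈ A ↔ K3.isA eE x = true :=
  (and_iff_right (mq_mem_tab hx)).trans (K3.isA_iff tE hx)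

variable {m : MV G false}

omit [Finite G] in
/-- all squares from the squares over `z` -/
theorem sq_all {R N : Subgroup G} (hR : m.pre (St false) ≤ normalizer (R : Set G))
    (hN : m.pre (St false) ≤ normalizer (N : Set G)) (le : R ≤ m.pre E) (surj : ∀ e ∈ E, ∃ x ∈ R, m.π x = e)
    (h : ∀ x ∈ R, m.π x = z → x * x ∈ N) : ∀ x ∈ R, x * x ∈ N := by
  have tr : ∀ e ∈ E, e ≠ 1 → (∀ x ∈ R, m.π x = e → x * x ∈ N) → ∀ x ∈ R, m.π x ≠ 1 → (m.π x ∈ A ↔ e ∈ A) →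
      x * x ∈ N := fun e he e1 h x hx x1 hA => by
    obtain ⟨n, hn, e2⟩ := ko.tr _ (MV.mem_pre.1 (le hx)).2 e he x1 e1 hA
    obtain ⟨g, hg, rfl⟩ := m.π_surj n
    have hg' := MV.mem_pre.2 ⟨hg, (st_iff false).2 hn⟩
    have := h _ (conj_mem_of_mem_normalizer (hR hg') hx) (by rw [MV.π_conj hg (MV.pre_le (le hx)), e2])
    rwa [conj_mul, ← mem_normalizer_iff.1 (hN hg')] at this
  have hA : ∀ x ∈ R, ∀ i < 64, K3.isA eE i = true → m.π x = mq (eE i) → x * x ∈ N := fun x hx i hi a e =>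
    tr z (z_eq ▸ mq_mem_tab (by norm_num)) z_ne h x hx (e ▸ ((memA hi).2 a).2.1)
      (iff_of_true (e ▸ (memA hi).2 a) (z_eq ▸ (memA (by norm_num)).2 (by decide +kernel)))
  intro x hx
  by_cases x1 : m.π x = 1
  · rw [MV.V_sq ((m.π_eq_one x (MV.pre_le (le hx))).1 x1)]; exact one_mem _
  by_cases xA : m.π x ∈ A
  · obtain ⟨i, hi, e⟩ := (tE.mem _).1 xA.1
    exact hA x hx i hi ((memA hi).1 (e ▸ xA)) e
  refine tr (mq (eE 18)) (mq_mem_tab (by norm_num)) (tE.ne_one (by norm_num) (by norm_num)) (fun x hx e => ?_) x hx x1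
    (iff_of_false xA (by rw [memA (by norm_num)]; decide +kernel))
  obtain ⟨a, ha, ea⟩ := surj _ (mq_mem_tab (x := 1) (by norm_num))
  obtain ⟨b, hb, eb⟩ := surj _ (mq_mem_tab (x := 6) (by norm_num))
  have pm : ∀ a ∈ R, ∀ b ∈ R, ∀ i < 64, ∀ j < 64, m.π a = mq (eE i) → m.π b = mq (eE j) →
      m.π (a * b) = mq (eE (i ^^^ j)) := fun a ha b hb i hi j hj ea eb => by
    rw [m.π_mul _ (MV.pre_le (le ha)) _ (MV.pre_le (le hb)), ea, eb, tE.mul i hi j hj]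
  have hab := mul_mem ha hb
  have eab := pm a ha b hb 1 (by norm_num) 6 (by norm_num) ea eb
  obtain ⟨c, rfl⟩ : ∃ c, x = a * b * c := ⟨(a * b)⁻¹ * x, by group⟩
  have hc := (mul_mem_cancel_left hab).1 hx
  have ec : m.π c = mq (eE 21) := by
    rw [m.π_mul _ (MV.pre_le (le hab)) _ (MV.pre_le (le hc)), eab] at e
    have := tE.mul (1 ^^^ 6) (by decide) 21 (by norm_num)
    rw [show 1 ^^^ 6 ^^^ 21 = 18 from rfl, ← e] at this
    exact (mul_left_cancel this).symm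
  have nb := hN (MV.mem_pre.2 ⟨MV.pre_le (le hb), S_le_St false (E_le (MV.mem_pre.1 (le hb)).2)⟩)
  have h1 := hA _ hab _ (by decide) (by decide +kernel) eab
  have h2 := hA _ ha 1 (by decide) (by decide +kernel) ea
  have h3 := hA _ hb 6 (by decide) (by decide +kernel) eb
  have h4 := hA _ hc 21 (by decide) (by decide +kernel) ec
  have h5 := hA _ (mul_mem ha hc) _ (by decide) (by decide +kernel) (pm a ha c hc 1 (by norm_num) 21 (by norm_num) ea ec)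
  have h6 := hA _ (mul_mem hb hc) _ (by decide) (by decide +kernel) (pm b hb c hc 6 (by norm_num) 21 (by norm_num) eb ec)
  convert mul_mem (mul_mem h1 (conj_mem_of_mem_normalizer' nb (mul_mem (mul_mem (inv_mem h2) h5) (inv_mem h4))))
    (mul_mem (inv_mem h3) h6) using 1
  group

omit [Finite G] in
theorem sqc {x : G} (hx : x ∈ m.M) (e : m.π x = z) : ∃ c < 2048, x * x = m.θ c ∧ ac false z c = c ∧
    ∀ y ∈ m.M, m.π y * z = z * m.π y → ∃ v < 2048, y * x * y⁻¹ = m.θ v * x ∧ cm false (m.π y) c = cm false z v := by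
  obtain ⟨c, hc, e1⟩ := (m.mem_V _).1 ((m.π_eq_one _ (mul_mem hx hx)).1 (by
    rw [m.π_mul _ hx _ hx, e]; exact tR.sq _ z_mem))
  refine ⟨c, hc, e1, e ▸ (MV.comm_iff hx hc).1 (by rw [← e1, mul_assoc]), fun y hy h => ?_⟩
  obtain ⟨v, hv, e2⟩ := MV.exists_θ_of_π_eq (mul_mem (mul_mem hy hx) (inv_mem hy)) hx (by
    rw [MV.π_conj hy hx, e, h, mul_inv_cancel_right])
  refine ⟨v, hv, e2, (MV.θ_eq_iff (m := m) (cm_lt _ _ hc) (cm_lt _ _ hv)).1 ?_⟩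
  rw [← MV.cm_eq hy hc, ← e1, ← conj_mul, e2, MV.θ_mul_sq hx hv, e, e1, MV.θ_comm (cm_lt _ _ hv) hc, ← mul_assoc,
    m.θ_sq hc, one_mul]

theorem am_z : AM false (mat false (ap (uE 2))) z := am_mat false rm_z

omit [Finite G] in
theorem sq_W {x : G} (hx : x ∈ m.M) (e : m.π x = z) : x * x ∈ m.W := by
  obtain ⟨c, hc, e1, e2, h⟩ := sqc hx e
  have key : ∀ g ∈ centralizer {z}, mv 0x7f00407f040020010010008004002001 (cm false g c) = 0 := fun g hg => by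
    obtain ⟨y, hy, rfl⟩ := m.π_surj g
    obtain ⟨v, hv, -, e3⟩ := h y hy (mem_centralizer_singleton_iff.1 hg)
    rw [e3]
    exact (((am_z.pre _).eq_iff sm_on).1 (by decide +kernel) v hv).2 trivial
  rw [e1, MV.θ_mem_W hc]
  exact (((am_z.fx.and ((am_mat false (rm K1.m1)).pre _)).and ((am_mat false (rm K1.m2)).pre _)).le_iff (sm_W false)).1
    (by decide +kernel) c hc ⟨⟨e2, key _ K1.c1⟩, key _ K1.c2⟩

omit [Finite G] in
theorem norm_W : m.pre (St false) ≤ normalizer (m.W : Set G) := fun g hg => by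
  have key : ∀ g ∈ m.pre (St false), ∀ x ∈ m.W, g * x * g⁻¹ ∈ m.W := by
    rintro g hg _ ⟨v, hv, h, rfl⟩
    rw [m.conj g (MV.pre_le hg) v hv, MV.θ_mem_W (ac_lt _ _ _)]
    exact inW_ac (MV.mem_pre.1 hg).2 hv h
  exact mem_normalizer_iff.2 fun x => ⟨key g hg x, fun h => by simpa [mul_assoc] using key _ (inv_mem hg) _ h⟩

omit [Finite G] in
theorem norm_P : m.pre (St false) ≤ normalizer (m.pre E : Set G) := fun g hg => by
  obtain ⟨h1, h2⟩ := MV.mem_pre.1 hg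
  refine mem_normalizer_iff.2 fun x => ?_
  rw [MV.mem_pre, MV.mem_pre, mul_mem_cancel_right (inv_mem h1), mul_mem_cancel_left h1]
  exact and_congr_right fun hx => by rw [MV.π_conj h1 hx]; exact mem_normalizer_iff.1 ((st_iff false).1 h2) _

end QTx

open QTx in
theorem exists_QD_todd (m : MV G false) : Nonempty (QD m) := by
  obtain ⟨p, hp, e, p3⟩ := m.exists_lift3 (pp_three false)
  have PH : m.pre E ≤ m.pre (St false) := fun x hx =>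
    MV.mem_pre.2 ((MV.mem_pre.1 hx).imp_right fun h => S_le_St false (E_le h))
  have lift : ∀ e ∈ E, ∃ x ∈ m.pre E, m.π x = e := fun e he =>
    let ⟨x, hx, h⟩ := m.π_surj e; ⟨x, MV.mem_pre.2 ⟨hx, h ▸ he⟩, h⟩
  obtain ⟨Q, h1, h2, h3, h4, h5⟩ := exists_Q norm_P norm_W PH (MV.sub_le.trans MV.V_le_pre)
    (sq_all norm_P norm_W le_rfl lift fun x hx => sq_W (MV.pre_le hx)) (MV.mem_pre.2 ⟨hp, e ▸ pp_St false⟩) p3
    fun g hg => by
      obtain ⟨g1, g2⟩ := MV.mem_pre.1 hg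
      have m1 := mul_mem (mul_mem g1 hp) (inv_mem g1)
      refine (Int.units_eq_one_or (Equiv.Perm.sign (sg (m.π g)))).imp (fun h => MV.mem_pre.2 ⟨mul_mem m1 (inv_mem hp), ?_⟩)
        fun h => MV.mem_pre.2 ⟨mul_mem m1 hp, ?_⟩
      · rw [m.π_mul _ m1 _ (inv_mem hp), MV.π_conj g1 hp, MV.π_inv hp, e]; exact sg_even g2 h
      · rw [m.π_mul _ m1 _ hp, MV.π_conj g1 hp, e]; exact sg_odd g2 h
  have inf : ∀ v < 2048, (m.θ v ∈ Q ↔ inW false v) := fun v hv => ⟨fun h => (MV.θ_mem_W hv).1 (h5 _ h (by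
    rw [MV.cm_eq hp hv, e, MV.θ_mem_W (cm_lt _ _ hv)]; exact pp_triv hv)), fun h => h3 ((MV.θ_mem_W hv).2 h)⟩
  have surj : ∀ g ∈ E, ∃ x ∈ Q, m.π x = g := fun g hg => by
    have hb := conj_mem_of_mem_normalizer (pp_norm false) hg
    have hc := conj_mem_of_mem_normalizer (pp_norm false) hb
    obtain ⟨x, hx, e1⟩ := lift _ hb
    have x1 := MV.pre_le hx
    refine ⟨_, h4 x hx, ?_⟩
    rw [m.π_mul _ x1 _ (mul_mem (mul_mem hp x1) (inv_mem hp)), MV.π_conj hp x1, e1, e, ← inv_inj, tE.inv hg,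
      inv_eq_iff_mul_eq_one]
    refine pp_fpf (mul_mem (mul_mem hb hc) hg) (mul_inv_eq_iff_eq_mul.1 ?_)
    rw [← conj_mul (b := pp false) (c := g), ← conj_mul (b := pp false) (a := pp false * g * (pp false)⁻¹),
      show ∀ p : M24, p * (p * (p * g * p⁻¹) * p⁻¹) * p⁻¹ = p ^ 3 * g * (p ^ 3)⁻¹ from fun p => by rw [pow_three]; group,
      pp_three, one_mul, inv_one, mul_one, tE.comm _ (mul_mem hc hg) _ hb, ← mul_assoc]
  refine ⟨⟨Q, p, h2.trans MV.pre_le, fun x hx => (MV.mem_pre.1 (h2 hx)).2, surj, inf, fun x hx => MV.mem_zp.1 ?_,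
    fun g hg h => h1 (MV.mem_pre.2 ⟨hg, (MV.mem_H_iff hg).1 (MV.mem_H.2 h)⟩), hp, e, p3⟩⟩
  refine sq_all h1 (fun g hg => ?_) h2 surj (fun x hx e1 => ?_) x hx
  · exact centralizer_le_normalizer _ (by
      rw [zpowers_eq_closure, centralizer_closure]
      exact (MV.mem_H_iff (MV.pre_le hg)).2 (MV.mem_pre.1 hg).2)
  have x1 := MV.pre_le (h2 hx)
  obtain ⟨c, hc, e2, -, h⟩ := sqc x1 e1
  have key : ∀ g ∈ St false, g * z = z * g → cm false g c = 0 ∨ cm false g c = zv false := fun g hg h' => by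
    obtain ⟨y, hy, rfl⟩ := m.π_surj g
    obtain ⟨v, hv, e3, e4⟩ := h y hy h'
    rw [e4]
    refine (inW_iff hv).1 ((inf v hv).1 ((mul_mem_cancel_right hx).1 ?_)) z (z_eq ▸ mq_mem_tab (by decide))
    exact e3 ▸ conj_mem_of_mem_normalizer (h1 (MV.mem_pre.2 ⟨hy, hg⟩)) hx
  have r1 : RM (ap 0x5206c9c9d58bec7bad2da188080825) _ := rm (by decide +kernel)
  have r2 := gK.rm (x := 1) (by norm_num)
  have k1 := key _ (by rw [mem_St, ac_act r1 (zv_lt _)]; decide +kernel) ((r1.intw_iff rm_z rm_z).1 (by decide +kernel))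
  have k2 := key _ (S_le_St false (K_le (mq_mem_tab (by norm_num)))) ((r2.intw_iff rm_z rm_z).1 (by decide +kernel))
  rw [MV.mem_zp, e2, MV.θ_eq_one hc, MV.θ_eq_z hc]
  exact ((((sm_W false).and (((am_mat false r1).cms (c := 0) (by norm_num)).or ((am_mat false r1).cms (zv_lt _)))).and
    (((am_mat false r2).cms (c := 0) (by norm_num)).or ((am_mat false r2).cms (zv_lt _)))).le_iff
      ((sm_pt (c := 0) (by norm_num)).or (sm_pt (zv_lt false)))).1 (by decide +kernel) c hc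
    ⟨⟨(MV.θ_mem_W hc).1 (e2 ▸ sq_W x1 e1), k1⟩, k2⟩

end CfsgLib.M24R
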