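import Mathlib
import Cfsg.Agent.Lib.WD.Km3
import Cfsg.Agent.Lib.J4T.MApi
import Cfsg.Agent.Lib.Mathieu.M24

/-!
# The two 11-dimensional modules of `M24` over the field with two elements

Vectors are numbers below 2048.  `k = false`: the even cocode module; `k = true`: the code modulo the all-one word.
`ac k g v` is the action; `act k φ v` and `mv (mat k φ) v` compute it when `φ` computes `g`.
-/

set_option autoImplicit false
set_option Elab.async false

namespace CfsgLib.M24R

open Subgroup Cfsg CfsgLib.Tech CfsgLib.J4T CfsgLib.J4T.Rec CfsgLib.Golay CfsgLib.M24E CfsgLib.WD.Km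
open scoped Pointwise

theorem x_lt {v w : ℕ} (hv : v < 2048) (hw : w < 2048) : v ^^^ w < 2048 := xor_lt (n := 11) hv hw

theorem lt12 {v : ℕ} (hv : v < 2048) : v < 4096 := by omega

theorem pw_lt {i : ℕ} (hi : i < 11) : 2 ^ i < 2048 := Nat.pow_lt_pow_right (m := i) (n := 11) (by norm_num) hi

theorem x_cancel {a b : ℕ} : a ^^^ (a ^^^ b) = b := by rw [← Nat.xor_assoc, Nat.xor_self, Nat.zero_xor]

theorem x_eq_iff {a b c : ℕ} : a ^^^ b = c ↔ b = a ^^^ c :=
  ⟨fun h => by rw [← h, x_cancel], fun h => by rw [h, x_cancel]⟩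

/-- induction over the vectors -/
theorem v_ind {P : ℕ → Prop} (h0 : P 0) (hb : ∀ i < 11, P (2 ^ i))
    (hx : ∀ x < 2048, ∀ y < 2048, P x → P y → P (x ^^^ y)) : ∀ x < 2048, P x := bits_ind' 11 h0 hb hx

/-- additive maps on the vectors -/
def Ln (f : ℕ → ℕ) : Prop := ∀ x < 2048, ∀ y < 2048, f (x ^^^ y) = f x ^^^ f y

theorem Ln.zero {f : ℕ → ℕ} (h : Ln f) : f 0 = 0 := by
  have := h 0 (by norm_num) 0 (by norm_num)
  rwa [Nat.xor_self, Nat.xor_self] at this

theorem ln_ext {f g : ℕ → ℕ} (hf : Ln f) (hg : Ln g) (h : ∀ i < 11, f (2 ^ i) = g (2 ^ i)) :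
    ∀ x < 2048, f x = g x :=
  v_ind (by rw [hf.zero, hg.zero]) h fun x hx y hy h1 h2 => by rw [hf x hx y hy, hg x hx y hy, h1, h2]

theorem Ln.comp {f g : ℕ → ℕ} (hf : Ln f) (hg : Ln g) (hlt : ∀ x < 2048, g x < 2048) :
    Ln fun x => f (g x) := fun x hx y hy => by
  show f (g (x ^^^ y)) = _
  rw [hg x hx y hy, hf _ (hlt x hx) _ (hlt y hy)]

theorem Ln.xor {f g : ℕ → ℕ} (hf : Ln f) (hg : Ln g) : Ln fun x => f x ^^^ g x := fun x hx y hy => by
  show f (x ^^^ y) ^^^ g (x ^^^ y) = (f x ^^^ g x) ^^^ (f y ^^^ g y)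
  rw [hf x hx y hy, hg x hx y hy]
  ac_rfl

theorem ln_id : Ln fun x => x := fun _ _ _ _ => rfl

theorem ln_mv (A : ℕ) : Ln (mv A) := fun x _ y _ => mv_xor A x y

/-! ### the modules -/

/-- the set of points representing the vector `v` -/
def vec (k : Bool) (v : ℕ) : ℕ := cond k (cw v) (Nat.mul 4096 (mv 0xc00a00900880840820810808804802801 v))

/-- the vector represented by a set of points -/
def crd (k : Bool) (m : ℕ) : ℕ :=
  cond k (Nat.xor (Nat.land m 4095) (Nat.mul 4095 (Nat.land (Nat.shiftRight m 11) 1))) (Nat.land (sy m) 2047)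

/-- the action of the permutation computed by `φ` -/
noncomputable def act (k : Bool) (φ : ℕ → ℕ) (v : ℕ) : ℕ := frc (vec k v) fun m => frc (img φ m) (crd k)

/-- the action of `M24` -/
noncomputable def ac (k : Bool) (g : M24) (v : ℕ) : ℕ := act k (fun x => ix ((g : P24) (pt x))) v

/-- the matrix of the action -/
noncomputable def mat (k : Bool) (φ : ℕ → ℕ) : ℕ :=
  Nat.rec 0 (fun i ih => Nat.xor (Nat.shiftLeft (act k φ (Nat.pow 2 i)) (Nat.mul 12 i)) ih) 11

/-- the sets representing vectors -/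
def Dm (k : Bool) (a : Finset GolayPt) : Prop := cond k (a ∈ codeSets) (Even a.card)

/-- the sets representing the zero vector -/
def Kr (k : Bool) (a : Finset GolayPt) : Prop := cond k (a = ∅ ∨ a = Finset.univ) (a ∈ codeSets)

variable {k : Bool} {g h : M24} {φ : ℕ → ℕ} {v w : ℕ}

theorem Kr.sd {a b : Finset GolayPt} (ha : Kr k a) (hb : Kr k b) : Kr k (symmDiff a b) := by
  cases k
  · exact symmDiff_mem_codeSets ha hb
  · rcases ha with rfl | rfl <;> rcases hb with rfl | rfl
    · left; exact sd_self _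
    · right; exact empty_sd _
    · right; exact sd_empty _
    · left; exact sd_self _

theorem kr_empty : Kr k ∅ := by
  cases k
  exacts [empty_mem_codeSets, Or.inl rfl]

theorem Kr.smul (g : M24) {a : Finset GolayPt} (ha : Kr k a) : Kr k ((g : P24) • a) := by
  cases k
  · exact smul_mem_codeSets g.2 ha
  · rcases ha with rfl | rfl
    · left; exact Finset.smul_finset_empty _
    · right; exact Finset.smul_finset_univ

theorem Dm.smul (g : M24) {a : Finset GolayPt} (ha : Dm k a) : Dm k ((g : P24) • a) := by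
  cases k
  exacts [ev_smul _ ha, smul_mem_codeSets g.2 ha]

theorem vec_lt (hv : v < 2048) : vec k v < 2 ^ 24 := by
  cases k
  exacts [hi_lt (mv_lt _ _), cw_lt (lt12 hv)]

theorem vec_dm (hv : v < 2048) : Dm k (ofMask (vec k v)) := by
  cases k
  · exact ev_mask (vec_lt hv) (beq_iff'.1 (of_allLT (n := 2048)
      (f := fun v => Nat.beq (Nat.mod (pc (vec false v)) 2) 0) (by decide +kernel) hv))
  · exact cw_mem (lt12 hv)

theorem vec_xor (hv : v < 2048) (hw : w < 2048) : vec k (v ^^^ w) = vec k v ^^^ vec k w := by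
  cases k
  · show 4096 * mv _ (v ^^^ w) = 4096 * mv _ v ^^^ 4096 * mv _ w
    have e2 : (4096 : ℕ) = 2 ^ 12 := by norm_num
    rw [mv_xor, e2, mul_comm, mul_comm (2 ^ 12), mul_comm (2 ^ 12), ← Nat.shiftLeft_eq, ← Nat.shiftLeft_eq,
      ← Nat.shiftLeft_eq, Nat.shiftLeft_xor_distrib]
  · exact cw_xor (lt12 hv) (lt12 hw)

theorem kr_vec (hv : v < 2048) (h : Kr k (ofMask (vec k v))) : v = 0 := by
  cases k
  · have h1 : isCode (vec false v) = true := (ofMask_mem_iff (vec_lt hv)).1 h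
    have h2 := of_allLT (n := 2048) (f := fun v => or (Nat.beq v 0) (not (isCode (vec false v))))
      (by decide +kernel) hv
    rw [h1, Bool.not_true, Bool.or_false] at h2
    exact beq_iff'.1 h2
  · have h2 := of_allLT (n := 2048) (f := fun v => or (Nat.beq v 0)
      (and (not (Nat.beq (cw v) 0)) (not (Nat.beq (cw v) 16777215)))) (by decide +kernel) hv
    simp only [Bool.or_eq_true, Bool.and_eq_true, Bool.not_eq_true', beq_iff'] at h2
    refine h2.resolve_right fun h3 => ?_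
    rcases h with h | h
    · exact Nat.ne_of_beq_eq_false h3.1 ((ofMask_eq_empty_iff (vec_lt (k := true) hv)).1 h)
    · exact Nat.ne_of_beq_eq_false h3.2 (ofMask_injOn (vec_lt (k := true) hv) (by norm_num) (h.trans ofMask_full.symm))

theorem vec_inj (hv : v < 2048) (hw : w < 2048) (h : Kr k (symmDiff (ofMask (vec k v)) (ofMask (vec k w)))) :
    v = w := by
  rw [← ofMask_xor, ← vec_xor hv hw] at h
  exact Nat.eq_of_xor_eq_zero (kr_vec (x_lt hv hw) h)

theorem crd_lt (k : Bool) (m : ℕ) : crd k m < 2048 := by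
  cases k
  · exact lt_of_le_of_lt Nat.and_le_right (by norm_num)
  · show Nat.land m 4095 ^^^ 4095 * ((m >>> 11) &&& 1) < 2048
    have h1 : (m >>> 11) &&& 1 = (m % 4096) / 2048 := by
      rw [Nat.and_one_is_mod, Nat.shiftRight_eq_div_pow]; omega
    rw [land_4095, h1]
    exact Nat.blt_eq.mp (of_allLT (n := 4096) (f := fun x => Nat.blt (Nat.xor x (4095 * (x / 2048))) 2048)
      (by decide +kernel) (Nat.mod_lt _ (by norm_num)))

theorem crd_spec {m : ℕ} (hm : m < 2 ^ 24) (h : Dm k (ofMask m)) :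
    Kr k (symmDiff (ofMask (vec k (crd k m))) (ofMask m)) := by
  cases k
  · have h1 := sy_code hm
    have h2 : Even (ofMask (4096 * sy m)).card := by
      have := ev_sd (ev_code h1) h
      rwa [symmDiff_comm (ofMask m), symmDiff_symmDiff_cancel_right] at this
    have h3 := of_allLT (n := 4096) (f := fun s => or (Nat.beq (Nat.mod (pc (4096 * s)) 2) 1)
      (Nat.beq (vec false (Nat.land s 2047)) (4096 * s))) (by decide +kernel) (sy_lt hm)
    rw [card_ofMask (hi_lt (sy_lt hm)), Nat.even_iff] at h2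
    rw [Bool.or_eq_true, beq_iff', beq_iff'] at h3
    have h4 : vec false (crd false m) = 4096 * sy m := h3.resolve_left fun e => by
      have : pc (4096 * sy m) % 2 = 1 := e
      omega
    rw [h4, symmDiff_comm]
    exact h1
  · have h1 := isCode_iff.1 ((ofMask_mem_iff hm).1 h)
    have hx : m % 4096 < 4096 := Nat.mod_lt _ (by norm_num)
    have h3 := of_allLT (n := 4096) (f := fun x => frc (Nat.xor (vec true (crd true (cw x))) (cw x)) fun y =>
      or (Nat.beq y 0) (Nat.beq y 16777215)) (by decide +kernel) hx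
    rw [frc_eq, Bool.or_eq_true, beq_iff', beq_iff', h1] at h3
    rw [← ofMask_xor]
    rcases h3 with h3 | h3
    · left; exact (congrArg ofMask h3).trans ofMask_zero
    · right; exact (congrArg ofMask h3).trans ofMask_full

theorem act_eq (k : Bool) (φ : ℕ → ℕ) (v : ℕ) : act k φ v = crd k (img φ (vec k v)) := by
  rw [act, frc_eq, frc_eq]

theorem rm_self (g : M24) : RM (fun x => ix ((g : P24) (pt x))) g := fun p => by simp only [pt_ix]

theorem ac_lt (k : Bool) (g : M24) (v : ℕ) : ac k g v < 2048 := by rw [ac, act_eq]; exact crd_lt _ _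

theorem act_spec (hg : RM φ g) (hv : v < 2048) :
    Kr k (symmDiff (ofMask (vec k (act k φ v))) ((g : P24) • ofMask (vec k v))) := by
  rw [act_eq, ← Rp.ofMask_img hg]
  exact crd_spec (Rp.img_lt hg _) (by rw [Rp.ofMask_img hg]; exact (vec_dm hv).smul g)

/-- the meaning of `ac` -/
theorem ac_spec (g : M24) (hv : v < 2048) :
    Kr k (symmDiff (ofMask (vec k (ac k g v))) ((g : P24) • ofMask (vec k v))) := act_spec (rm_self g) hv

theorem ac_eq_iff (hv : v < 2048) (hw : w < 2048) :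
    ac k g v = w ↔ Kr k (symmDiff (ofMask (vec k w)) ((g : P24) • ofMask (vec k v))) := by
  refine ⟨fun e => e ▸ ac_spec g hv, fun e => vec_inj (k := k) (ac_lt _ _ _) hw ?_⟩
  have := (ac_spec (k := k) g hv).sd e
  rwa [symmDiff_comm (ofMask (vec k w)), symmDiff_assoc, symmDiff_symmDiff_cancel_left] at this

theorem ac_act (hg : RM φ g) (hv : v < 2048) : ac k g v = act k φ v :=
  (ac_eq_iff hv (by rw [act_eq]; exact crd_lt _ _)).2 (act_spec hg hv)

theorem ac_xor (k : Bool) (g : M24) (hv : v < 2048) (hw : w < 2048) : ac k g (v ^^^ w) = ac k g v ^^^ ac k g w := by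
  rw [ac_eq_iff (x_lt hv hw) (x_lt (ac_lt _ _ _) (ac_lt _ _ _)), vec_xor hv hw, vec_xor (ac_lt _ _ _) (ac_lt _ _ _),
    ofMask_xor, ofMask_xor, smul_symmDiff', symmDiff_symmDiff_symmDiff_comm]
  exact (ac_spec g hv).sd (ac_spec g hw)

theorem ln_ac (k : Bool) (g : M24) : Ln (ac k g) := fun _ hv _ hw => ac_xor k g hv hw

theorem ac_zero (k : Bool) (g : M24) : ac k g 0 = 0 := (ln_ac k g).zero

theorem ac_one (k : Bool) (hv : v < 2048) : ac k 1 v = v := by
  rw [ac_eq_iff hv hv, OneMemClass.coe_one, one_smul, sd_self]; exact kr_empty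

theorem ac_mul (k : Bool) (g h : M24) (hv : v < 2048) : ac k (g * h) v = ac k g (ac k h v) := by
  rw [ac_eq_iff hv (ac_lt _ _ _), Subgroup.coe_mul, mul_smul]
  have := (ac_spec (k := k) g (ac_lt k h v)).sd ((ac_spec (k := k) h hv).smul g)
  rwa [smul_symmDiff', symmDiff_assoc, symmDiff_symmDiff_cancel_left] at this

theorem ac_inv_ac (k : Bool) (g : M24) (hv : v < 2048) : ac k g⁻¹ (ac k g v) = v := by
  rw [← ac_mul k _ _ hv, inv_mul_cancel, ac_one k hv]

theorem ac_ac_inv (k : Bool) (g : M24) (hv : v < 2048) : ac k g (ac k g⁻¹ v) = v := by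
  rw [← ac_mul k _ _ hv, mul_inv_cancel, ac_one k hv]

theorem ac_inj (hv : v < 2048) (hw : w < 2048) (e : ac k g v = ac k g w) : v = w := by
  rw [← ac_inv_ac k g hv, e, ac_inv_ac k g hw]

theorem ac_eq_zero (hv : v < 2048) : ac k g v = 0 ↔ v = 0 :=
  ⟨fun e => ac_inj hv (by norm_num) (e.trans (ac_zero k g).symm), fun e => by rw [e, ac_zero]⟩

theorem ac_inv_eq (hv : v < 2048) (e : ac k g v = v) : ac k g⁻¹ v = v := by
  conv_lhs => rw [← e]
  exact ac_inv_ac k g hv

/-- the commutator `[v, g]` -/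
noncomputable def cm (k : Bool) (g : M24) (v : ℕ) : ℕ := v ^^^ ac k g v

theorem cm_lt (k : Bool) (g : M24) (hv : v < 2048) : cm k g v < 2048 := x_lt hv (ac_lt _ _ _)

theorem ln_cm (k : Bool) (g : M24) : Ln (cm k g) := ln_id.xor (ln_ac k g)

theorem cm_eq_zero : cm k g v = 0 ↔ ac k g v = v := ⟨fun e => (Nat.eq_of_xor_eq_zero e).symm, fun e => by
  rw [cm, e, Nat.xor_self]⟩

theorem cm_mul (k : Bool) (g h : M24) (hv : v < 2048) : cm k (g * h) v = cm k g v ^^^ ac k g (cm k h v) := by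
  rw [cm, cm, cm, ac_xor k g hv (ac_lt _ _ _), ac_mul k g h hv, Nat.xor_assoc, x_cancel]

theorem ac_cm (k : Bool) (g h : M24) (hv : v < 2048) : ac k g (cm k h v) = cm k (g * h * g⁻¹) (ac k g v) := by
  rw [cm, cm, ac_xor k g hv (ac_lt _ _ _), ← ac_mul k _ g hv, inv_mul_cancel_right, ac_mul k g h hv]

/-! ### matrices -/

theorem col_shift {x : ℕ} (hx : x < 4096) (i c : ℕ) : col (x <<< (12 * i)) c = if c = i then x else 0 := by
  apply Nat.eq_of_testBit_eq
  intro j
  rw [testBit_col, Nat.testBit_shiftLeft]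
  by_cases hj : j < 12
  · split_ifs with h
    · subst h; simp [hj]
    · rcases lt_or_gt_of_ne h with h | h
      · have : ¬ (12 * c + j ≥ 12 * i) := by omega
        simp [this]
      · rw [Nat.testBit_lt_two_pow (lt_of_lt_of_le (show x < 2 ^ 12 from hx)
          (Nat.pow_le_pow_right (by norm_num) (by omega)))]
        simp
  · have : (if c = i then x else 0) < 2 ^ 12 := by split_ifs; exacts [hx, by norm_num]
    rw [Nat.testBit_lt_two_pow (lt_of_lt_of_le this (Nat.pow_le_pow_right (by norm_num) (by omega)))]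
    simp [hj]

theorem col_mat (k : Bool) (φ : ℕ → ℕ) {c : ℕ} (hc : c < 11) : col (mat k φ) c = act k φ (2 ^ c) := by
  have key : ∀ n : ℕ, col (Nat.rec 0 (fun i ih => Nat.xor (Nat.shiftLeft (act k φ (Nat.pow 2 i)) (Nat.mul 12 i)) ih) n) c =
      if c < n then act k φ (2 ^ c) else 0 := fun n => by
    induction n with
    | zero => show col 0 c = 0; simp [col]
    | succ n ih =>
      show col ((act k φ (2 ^ n) <<< (12 * n)) ^^^ _) c = _
      rw [col_xor, ih, col_shift (lt12 (by rw [act_eq]; exact crd_lt _ _))]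
      rcases lt_trichotomy c n with h | rfl | h
      · simp [h, h.ne, Nat.lt_succ_of_lt h]
      · simp
      · simp [h.ne', not_lt.2 h.le, not_lt.2 (Nat.succ_le_of_lt h)]
  exact (key 11).trans (if_pos hc)

/-- `mv (mat k φ)` computes the action -/
theorem ac_mat (hg : RM φ g) (hv : v < 2048) : ac k g v = mv (mat k φ) v :=
  ln_ext (ln_ac k g) (ln_mv _) (fun i hi => by
    rw [mv_two_pow _ (by omega), col_mat k φ hi, ac_act hg (pw_lt hi)]) v hv

/-- `A` is the matrix of `g` -/
def AM (k : Bool) (A : ℕ) (g : M24) : Prop := ∀ v < 2048, ac k g v = mv A v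

theorem am_mat (k : Bool) (hg : RM φ g) : AM k (mat k φ) g := fun _ hv => ac_mat hg hv

theorem am_of (hg : RM φ g) {A : ℕ} (e : Nat.beq (mat k φ) A = true) : AM k A g := beq_iff'.1 e ▸ am_mat k hg

theorem AM.lt {A : ℕ} (a : AM k A g) (hv : v < 2048) : mv A v < 2048 := a v hv ▸ ac_lt _ _ _

theorem AM.mul {A B : ℕ} (a : AM k A g) (b : AM k B h) : AM k (mm A B) (g * h) := fun v hv => by
  rw [ac_mul k g h hv, a _ (ac_lt _ _ _), b v hv, mv_mm _ _ (lt12 hv)]

theorem col_mv_xor (A B v : ℕ) (hv : v < 4096) : mv (A ^^^ B) v = mv A v ^^^ mv B v :=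
  lin_ext (lin_mv _) ((lin_mv A).xor (lin_mv B)) (fun i hi => by
    show _ = mv A (2 ^ i) ^^^ mv B (2 ^ i)
    rw [mv_two_pow _ hi, mv_two_pow _ hi, mv_two_pow _ hi, col_xor]) v hv

/-- `mv (mI ^^^ A)` computes the commutator map -/
theorem AM.cm {A : ℕ} (a : AM k A g) (hv : v < 2048) : cm k g v = mv (Nat.xor mI A) v := by
  show _ = mv (mI ^^^ A) v
  rw [col_mv_xor _ _ _ (lt12 hv), mv_mI (lt12 hv), M24R.cm, a v hv]

/-! ### generators -/

/-- `x ↦ x + 1` -/
def qa : ℕ := 0xb82d5a4e5183dcd62d4941cc520c41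
/-- `x ↦ -1 / x` -/
def qb : ℕ := 0x5883388a1c8f5140b46cd317aed7
/-- the third generator -/
def qc : ℕ := 0xbba8ab116d7c52899d90286a219a40

theorem isM_gens : ∀ q ∈ [qa, qb, qc], isM q = true := by decide +kernel

theorem top_le_of_gens {H : Subgroup M24} (h1 : mq qa ∈ H) (h2 : mq qb ∈ H) (h3 : mq qc ∈ H) (g : M24) : g ∈ H := by
  have e1 : ((mq qa : M24) : P24) = Mathieu.alpha :=
    Rp.unique (rm (isM_gens _ (by simp))) (by intro p; revert p; decide +kernel)
  have e2 : ((mq qb : M24) : P24) = projInv :=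
    Rp.unique (rm (isM_gens _ (by simp))) (by intro p; revert p; decide +kernel)
  have e3 : ((mq qc : M24) : P24) = cubeTwist :=
    Rp.unique (rm (isM_gens _ (by simp))) (by intro p; revert p; decide +kernel)
  obtain ⟨x, hx, e⟩ := Mathieu.M24_le (H := H.map M24.subtype) ⟨_, h1, e1⟩ ⟨_, h2, e2⟩ ⟨_, h3, e3⟩ g.2
  exact (Subtype.ext e : x = g) ▸ hx

/-- matrices of the generators -/
def gM (k : Bool) : List ℕ :=
  cond k [0x7ff401200100081040020011009005003, 0x5095725c815804b3915d10d26744ca413, 0x5803ff6102cf0121ef0fb4e77503006ee]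
    [0x475400200100080040020010008004002, 0xea4747af2b94715c6768296435598675, 0x410031d4001b363a0020080207b43da]

theorem am_gM (k : Bool) : AM k ((gM k).getD 0 0) (mq qa) ∧ AM k ((gM k).getD 1 0) (mq qb) ∧
    AM k ((gM k).getD 2 0) (mq qc) := by
  refine ⟨am_of (rm (isM_gens _ (by simp))) ?_, am_of (rm (isM_gens _ (by simp))) ?_,
    am_of (rm (isM_gens _ (by simp))) ?_⟩ <;> revert k <;> decide +kernel

theorem exists_gM {A : ℕ} (hA : A ∈ gM k) : ∃ g, AM k A g := by
  obtain ⟨h1, h2, h3⟩ := am_gM k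
  cases k <;> simp only [gM, cond, List.mem_cons, List.not_mem_nil, or_false] at hA <;>
    rcases hA with rfl | rfl | rfl
  exacts [⟨_, h1⟩, ⟨_, h2⟩, ⟨_, h3⟩, ⟨_, h1⟩, ⟨_, h2⟩, ⟨_, h3⟩]

/-- a set of vectors invariant under the generators is invariant -/
theorem inv_of_gens {P : ℕ → Prop} (h : ∀ A ∈ gM k, ∀ v < 2048, P v → P (mv A v)) (g : M24) (hv : v < 2048)
    (hP : P v) : P (ac k g v) := by
  let H : Submonoid M24 := ⟨⟨{g | ∀ v < 2048, P v → P (ac k g v)}, fun {a b} ha hb v hv hP => by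
    rw [ac_mul k a b hv]; exact ha _ (ac_lt _ _ _) (hb v hv hP)⟩, fun v hv hP => by rwa [ac_one k hv]⟩
  let K : Subgroup M24 := ⟨H, fun {a} ha => by
    have : a⁻¹ = a ^ (orderOf a - 1) := by
      rw [inv_eq_iff_mul_eq_one, ← pow_succ', Nat.sub_add_cancel (orderOf_pos a), pow_orderOf_eq_one]
    rw [this]; exact H.pow_mem ha _⟩
  obtain ⟨h1, h2, h3⟩ := am_gM k
  refine top_le_of_gens (H := K) (fun v hv hP => ?_) (fun v hv hP => ?_) (fun v hv hP => ?_) g v hv hP
  · rw [h1 v hv]; exact h _ (by cases k <;> simp [gM]) v hv hP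
  · rw [h2 v hv]; exact h _ (by cases k <;> simp [gM]) v hv hP
  · rw [h3 v hv]; exact h _ (by cases k <;> simp [gM]) v hv hP

/-! ### the two orbits -/

/-- the vector fixed by `S` -/
def zv (k : Bool) : ℕ := cond k 906 1003

/-- a vector of the second orbit -/
def nv (k : Bool) : ℕ := cond k 13 1

/-- table of the orbit of `zv` -/
def tzT (k : Bool) : ℕ := cond k
  0xfcfaa99cee247881f6f0ca00824882846ac6c0a0e1818824ac00900f41214112db88e888a0c050038428214199060053e81124110ac00503848221140035999fbe48e42190aa090088814481c0053039d884821290000955228111810c63035fc360009084148427a0030a658111174b0009c306211b21d75059053f172d7e77ed82e241cc90009018888122a0030595b88248410009330981441811a056053f60a5090028218247c005c03611182d17900006a5411d147b0393035f4b1777e7a0c0a00c4211811e690900531241472705300503818742770035966f1d1bb77d884211170305599314211b1d06ff35ff881711bd65363f5f2747d77b53ff9ffe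
  0xfdeffff7fb7fefffef8e7fefffeffdfb7ffffebffffef7dffbeffffddff7bffffff7e771efff8ee7fbeffff77ffdeffffbdffff7fdbfefffb2fbdbfffbffff7ebfffdffefffdf7bfffe7fbff7effffdfffdbf7ffe7ff71f7fdffef7fffbff7fefedffff77ffbefff7ffffdbf177f7ffedf4dbfdfffdff7fefbdffffe7ffefee8fbffdfbfb2fbfbfdffe7feffdbffff7fffbdbf2bdbffffbfdffff7bf4ddfdffe7ffefff7fbdfeffffdffbfdfffbff7feeffffdbffff77ffefb7ffffedffefee8dff74ddffbefdffff771dff7fff7bffefeffdfbfff7ff7febff7fffedffefee8ffbfdbfffdffff7eeff7fffe7ffefee8f7dffffebffefee8fffe7ee8fee8e880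

/-- `v` lies in the orbit of `zv` -/
def tz (k : Bool) (v : ℕ) : Bool := tb (tzT k) v

theorem zv_lt (k : Bool) : zv k < 2048 := by cases k <;> decide
theorem zv_ne (k : Bool) : zv k ≠ 0 := by cases k <;> decide
theorem nv_lt (k : Bool) : nv k < 2048 := by cases k <;> decide
theorem nv_ne (k : Bool) : nv k ≠ 0 := by cases k <;> decide
theorem tz_zv (k : Bool) : tz k (zv k) = true := by cases k <;> decide +kernel
theorem tz_nv (k : Bool) : tz k (nv k) = false := by cases k <;> decide +kernel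
theorem tz_zero (k : Bool) : tz k 0 = false := by cases k <;> decide +kernel

theorem tz_check : ∀ k : Bool, allL (gM k) (fun A => allLT 2048 fun v => eqB (tz k v) (frc (mv A v) (tz k))) = true := by
  decide +kernel

theorem tz_ac (k : Bool) (g : M24) (hv : v < 2048) : tz k (ac k g v) = tz k v := by
  have key : ∀ A ∈ gM k, ∀ v < 2048, (tz k v = true ↔ tz k (mv A v) = true) := fun A hA v hv => by
    have := of_allLT ((allL_iff _ _).1 (tz_check k) A hA) hv
    rwa [eqB_iff, frc_eq] at this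
  cases e : tz k v
  · refine inv_of_gens (P := fun v => tz k v = false) (fun A hA v hv h => ?_) g hv e
    have := key A hA v hv
    rw [h] at this
    simpa using this
  · exact inv_of_gens (P := fun v => tz k v = true) (fun A hA v hv h => (key A hA v hv).1 h) g hv e

theorem orb_check : ∀ k : Bool, frc (spin mv (gM k) 2048 (zv k)) (fun O => frc (spin mv (gM k) 2048 (nv k)) fun O' =>
    allLT 2048 fun v => or (Nat.beq v 0) (Bool.rec (tb O' v) (tb O v) (tz k v))) = true := by decide +kernel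

theorem exists_of_spin {x n : ℕ} (hx : x < 2048) {H : Subgroup M24} {L : List ℕ} (hL : ∀ A ∈ L, ∃ g ∈ H, AM k A g)
    (h : tb (spin mv L n x) v = true) : ∃ g ∈ H, ac k g x = v :=
  spin_spec (R := fun y => ∃ g ∈ H, ac k g x = y) (fun A hA y ⟨g, hg, e⟩ => by
    obtain ⟨a, ha, h1⟩ := hL A hA
    exact ⟨a * g, mul_mem ha hg, by rw [ac_mul k a g hx, h1 _ (ac_lt _ _ _), e]⟩)
    ⟨1, one_mem _, ac_one k hx⟩ n h

theorem exists_ac_zv (hv : v < 2048) (h : tz k v = true) : ∃ g, ac k g (zv k) = v := by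
  have := orb_check k
  rw [frc_eq, frc_eq] at this
  have h1 := of_allLT this hv
  rw [h, Bool.or_eq_true, beq_iff'] at h1
  obtain ⟨g, -, e⟩ := exists_of_spin (k := k) (H := ⊤) (zv_lt k) (fun A hA => (exists_gM hA).imp fun _ h => ⟨trivial, h⟩)
    (h1.resolve_left fun e => by rw [e, tz_zero] at h; cases h)
  exact ⟨g, e⟩

theorem exists_ac_nv (hv : v < 2048) (h0 : v ≠ 0) (h : tz k v = false) : ∃ g, ac k g (nv k) = v := by
  have := orb_check k
  rw [frc_eq, frc_eq] at this
  have h1 := of_allLT this hv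
  rw [h, Bool.or_eq_true, beq_iff'] at h1
  obtain ⟨g, -, e⟩ := exists_of_spin (k := k) (H := ⊤) (nv_lt k) (fun A hA => (exists_gM hA).imp fun _ h => ⟨trivial, h⟩)
    (h1.resolve_left h0)
  exact ⟨g, e⟩

theorem tz_iff (hv : v < 2048) : tz k v = true ↔ ∃ g, ac k g (zv k) = v :=
  ⟨exists_ac_zv hv, fun ⟨g, e⟩ => by rw [← e, tz_ac k g (zv_lt k), tz_zv]⟩

/-- the modules are irreducible -/
theorem irr {P : ℕ → Prop} (hx : ∀ x < 2048, ∀ y < 2048, P x → P y → P (x ^^^ y))
    (hg : ∀ g : M24, ∀ x < 2048, P x → P (ac k g x)) (hv : v < 2048) (h0 : v ≠ 0) (hP : P v) : ∀ w < 2048, P w := by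
  have tr : ∀ a < 2048, ∀ {x y}, (∃ g, ac k g a = x) → (∃ g, ac k g a = y) → P x → P y := by
    rintro a ha _ _ ⟨g, rfl⟩ ⟨h, rfl⟩ hP
    have := hg (h * g⁻¹) _ (ac_lt _ _ _) hP
    rwa [← ac_mul k _ _ ha, inv_mul_cancel_right] at this
  have hz : ∀ x < 2048, ∀ y < 2048, x ≠ 0 → y ≠ 0 → tz k x = tz k y → P x → P y := fun x hx y hy x0 y0 e => by
    cases e' : tz k y
    · exact tr _ (nv_lt k) (exists_ac_nv hx x0 (e.trans e')) (exists_ac_nv hy y0 e')
    · exact tr _ (zv_lt k) (exists_ac_zv hx (e.trans e')) (exists_ac_zv hy e')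
  have ex : ∀ (k b : Bool), ∃ x < 64, ∃ y < 64, x ≠ 0 ∧ y ≠ 0 ∧ x ^^^ y ≠ 0 ∧ tz k x = b ∧ tz k y = b ∧
      tz k (x ^^^ y) = !b := by decide +kernel
  obtain ⟨x, hx', y, hy', x0, y0, s0, e1, e2, e3⟩ := ex k (tz k v)
  have hs := hx x (by omega) y (by omega) (hz v hv x (by omega) h0 x0 e1.symm hP) (hz v hv y (by omega) h0 y0 e2.symm hP)
  intro w hw
  by_cases w0 : w = 0
  · have := hx v hv v hv hP hP
    rwa [Nat.xor_self, ← w0] at this
  · by_cases e : tz k w = tz k v
    · exact hz v hv w hw h0 w0 e.symm hP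
    · refine hz _ (x_lt (by omega) (by omega)) w hw s0 w0 ?_ hs
      rw [e3]; revert e; cases tz k w <;> cases tz k v <;> simp

/-- the action is faithful -/
theorem faithful (h : ∀ v < 2048, ac k g v = v) : g = 1 := by
  let N : Subgroup M24 := ⟨⟨⟨{g | ∀ v < 2048, ac k g v = v}, fun {a b} ha hb v hv => by
    rw [ac_mul k a b hv, hb v hv, ha v hv]⟩, fun v hv => ac_one k hv⟩, fun {a} ha v hv => ac_inv_eq hv (ha v hv)⟩
  have hN : N.Normal := ⟨fun a ha b v hv => by
    rw [ac_mul k _ _ hv, ac_mul k _ _ (ac_lt _ _ _), ha _ (ac_lt _ _ _), ac_ac_inv k b hv]⟩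
  have := WD.Km.kr.simple
  rcases hN.eq_bot_or_eq_top with e | e
  · exact mem_bot.1 (e ▸ (show g ∈ N from h))
  · exfalso
    have h1 : mq qa ∈ N := e ▸ mem_top _
    have h2 := h1 1 (by norm_num)
    rw [(am_gM k).1 1 (by norm_num)] at h2
    revert h2; cases k <;> decide +kernel

end CfsgLib.M24R
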